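import Mathlib
import Cfsg.Agent.F4T.Defs
import Cfsg.Agent.F4T.EFin
import Cfsg.Agent.T16.SpMod
import Cfsg.Agent.T16.CaF
import Cfsg.Agent.Rec.SylTools
import Cfsg.Agent.Rec.B8

/-!
A group of characteristic 2 type with a 3-standard subgroup `Sp₆(2)`: the stages of the proof
(see `stubs/Cfsg/Agent/S8/PLAN.md`).
-/

set_option autoImplicit false
set_option linter.unusedSectionVars false

namespace Cfsg.Agent.S8

open Cfsg.Agent.Spor Cfsg.Agent.Rec Cfsg.Agent.Inv.Fz Cfsg.Agent.T16 Cfsg.Agent.F4L Subgroup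

universe u

variable {G : Type u} [Group G]

/-- `Q` is the largest normal 2-subgroup of the centraliser of `t`, and it is self-centralising there. -/
structure QQ (t : G) (Q : Subgroup G) : Prop where
  two : IsPGroup 2 Q
  le : Q ≤ centralizer {t}
  nm : centralizer {t} ≤ normalizer (Q : Set G)
  sc : ∀ g, g * t = t * g → (∀ w ∈ Q, g * w = w * g) → g ∈ Q
  max : ∀ X : Subgroup G, IsPGroup 2 X → X ≤ centralizer {t} → centralizer {t} ≤ normalizer (X : Set G) → X ≤ Q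

/-- The global hypotheses. -/
structure Gl (G : Type u) [Group G] : Prop where
  c2 : ∀ t : G, t * t = 1 → t ≠ 1 → ∃ Q, QQ t Q
  rk : ∀ E X : Subgroup G, (∀ x ∈ E, ∀ y ∈ E, x * y = y * x) → (∀ x ∈ E, x ^ 3 = 1) → 81 ≤ Nat.card E →
    IsPGroup 2 X → E ≤ normalizer (X : Set G) → X = ⊥
  o3 : ∀ N : Subgroup G, N.Normal → N.index ≠ 3

/-- Letters for `Sp₆(2)`; the natural module is `V₁ ⊥ V₂ ⊥ V₃`, `⟨eᵢ, dᵢ⟩ = Sp(Vᵢ)`, `v` rotates the blocks, `a` swaps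
`V₁` and `V₂`, `x` is the third transvection on the line through `d₁, d₂`, and `q` has order four. -/
structure Lt (G : Type u) [Group G] where
  e1 : G
  e2 : G
  e3 : G
  v : G
  a : G
  d1 : G
  d2 : G
  d3 : G
  q : G
  x : G
  C : Cod B6.A G
  rep : C.RepL cK [e1, e2, e3, v, a, d1, d2, d3, q, x]

namespace Lt

variable (s : Lt G)

/-- All letters. -/
abbrev e : List G := [s.e1, s.e2, s.e3, s.v, s.a, s.d1, s.d2, s.d3, s.q, s.x]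
abbrev u : G := s.e1 * s.e2⁻¹
abbrev f : G := s.e1 * s.e2
abbrev z : G := s.e1 * s.e2 * s.e3
abbrev w : G := s.d1 * s.d2 * s.d3
/-- An involution of the four-group `[Z(O₂(C(a))), f]`. -/
abbrev p : G := s.a * s.x
/-- An involution of the four-group `[O₂(C(d₂, e₃)), e₁]`. -/
abbrev k : G := s.d1 * s.x
/-- `Sp₆(2)`. -/
def L : Subgroup G := clos s.e
/-- Order 27. -/
def B0 : Subgroup G := clos [s.e1, s.e2, s.e3]
/-- Order 48. -/
def W3 : Subgroup G := clos [s.v, s.a, s.d3]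
/-- `Sym(3) ≀ Sym(3)`, order 1296. -/
def N : Subgroup G := clos [s.e1, s.e2, s.e3, s.v, s.a, s.d3]
/-- A Sylow 3-subgroup. -/
def S : Subgroup G := clos [s.e1, s.e2, s.e3, s.v]
/-- `C(z)`, order 648. -/
def CC : Subgroup G := clos [s.e1, s.e2, s.e3, s.v, s.a, s.q]
/-- The quaternion group in `C(z, a)`. -/
def Q1 : Subgroup G := clos [s.q, s.e3 * s.q * s.e3⁻¹]
/-- The extraspecial group `O₃(C(z))`. -/
def R1 : Subgroup G := clos [s.z, s.u, s.v]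
/-- `Sp(V₁ ⊥ V₂) ≅ Sym(6)`. -/
def Y6 : Subgroup G := clos [s.e1, s.e2, s.d1, s.d2, s.a, s.x]
/-- `C(f)`, order 108. -/
def F : Subgroup G := clos [s.f, s.u, s.a, s.e3, s.d3]
/-- `O₂(C(e₃, a))`, elementary of order 8. -/
def Za : Subgroup G := clos [s.a, s.p, s.f * s.p * s.f⁻¹]
/-- `O₂(C(e₃, d₂))`, elementary of order 8. -/
def Zd : Subgroup G := clos [s.d2, s.k, s.e1 * s.k * s.e1⁻¹]

/-- The conjugate letters. -/
noncomputable def cj (g : G) : Lt G where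
  e1 := g * s.e1 * g⁻¹
  e2 := g * s.e2 * g⁻¹
  e3 := g * s.e3 * g⁻¹
  v := g * s.v * g⁻¹
  a := g * s.a * g⁻¹
  d1 := g * s.d1 * g⁻¹
  d2 := g * s.d2 * g⁻¹
  d3 := g * s.d3 * g⁻¹
  q := g * s.q * g⁻¹
  x := g * s.x * g⁻¹
  C := (Syl.repL_map s.rep (MulAut.conj g).toMonoidHom (MulAut.conj g).injective).choose
  rep := (Syl.repL_map s.rep (MulAut.conj g).toMonoidHom (MulAut.conj g).injective).choose_spec

theorem cj_L (g : G) : (s.cj g).L = Inv.Fz.cj g s.L := (map_clos (MulAut.conj g).toMonoidHom s.e).symm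
theorem cj_B0 (g : G) : (s.cj g).B0 = Inv.Fz.cj g s.B0 := (map_clos (MulAut.conj g).toMonoidHom [s.e1, s.e2, s.e3]).symm

/-- The element acting as `(1 3)(2 4)` on the four blocks, when `m` acts as `(3 4)`. -/
abbrev om (m : G) : G := s.v⁻¹ * s.a * m * s.v
/-- The third transvection on the line through `d₃, d₄`. -/
abbrev q4 (m : G) : G := s.om m * s.x * (s.om m)⁻¹
/-- An involution of the four-group `E₃`. -/
abbrev k3 (m : G) : G := s.d3 * s.q4 m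

end Lt

/-- First stage: `C(b) = D × L` with `D` of odd order with cyclic Sylow 3-subgroups. -/
structure B1 (s : Lt G) (b : G) : Prop where
  b3 : orderOf b = 3
  bc : ∀ g ∈ s.L, g * b = b * g
  odd : Odd (Nat.card (centralizer (s.L : Set G) ⊓ centralizer {b} : Subgroup G))
  cyc : ∀ P : Subgroup G, P ≤ centralizer (s.L : Set G) → IsPGroup 3 P → IsCyclic P
  cen : ∀ g, g * b = b * g → ∃ l ∈ s.L, g * l⁻¹ ∈ centralizer (s.L : Set G)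
  wc : ∃ g, g * b * g⁻¹ * b = b * (g * b * g⁻¹) ∧ g * b * g⁻¹ ∉ zpowers b

/-- The standing configuration: `C(b) = Y × ⟨b⟩ × L`. -/
structure Bs (G : Type u) [Group G] extends Lt G where
  b : G
  Y : Subgroup G
  b3 : orderOf b = 3
  bc : ∀ g ∈ toLt.L, g * b = b * g
  odd : Odd (Nat.card Y)
  cop : (Nat.card Y).Coprime 3
  YL : ∀ y ∈ Y, ∀ g ∈ toLt.L, y * g = g * y
  Yb : ∀ y ∈ Y, y * b = b * y
  cen : ∀ g, g * b = b * g → ∃ y ∈ Y, ∃ c ∈ zpowers b, ∃ l ∈ toLt.L, g = y * c * l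

namespace Bs

variable (s : Bs G)

/-- Elementary abelian of order 81. -/
def J : Subgroup G := clos [s.e1, s.e2, s.e3, s.b]

/-- The normaliser of `J`. -/
abbrev NJ : Subgroup G := normalizer (s.J : Set G)

/-- The conjugate configuration. -/
noncomputable def cj (g : G) : Bs G where
  toLt := s.toLt.cj g
  b := g * s.b * g⁻¹
  Y := Inv.Fz.cj g s.Y
  b3 := ((MulAut.conj g).orderOf_eq s.b).trans s.b3
  bc := by
    rw [Lt.cj_L]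
    rintro _ ⟨l, hl, rfl⟩
    simp only [MulEquiv.toMonoidHom_eq_coe, MonoidHom.coe_coe, MulAut.conj_apply, conj_mul, s.bc l hl]
  odd := by rw [card_cj]; exact s.odd
  cop := by rw [card_cj]; exact s.cop
  YL := by
    rw [Lt.cj_L]
    rintro _ ⟨y, hy, rfl⟩ _ ⟨l, hl, rfl⟩
    simp only [MulEquiv.toMonoidHom_eq_coe, MonoidHom.coe_coe, MulAut.conj_apply, conj_mul, s.YL y hy l hl]
  Yb := by
    rintro _ ⟨y, hy, rfl⟩
    simp only [MulEquiv.toMonoidHom_eq_coe, MonoidHom.coe_coe, MulAut.conj_apply, conj_mul, s.Yb y hy]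
  cen := fun h e => by
    obtain ⟨y, hy, c, ⟨i, rfl⟩, l, hl, e'⟩ := s.cen (g⁻¹ * h * g) (by
      calc _ = g⁻¹ * (h * (g * s.b * g⁻¹)) * g := by group
        _ = _ := by rw [e]; group)
    refine ⟨g * y * g⁻¹, ⟨y, hy, rfl⟩, g * s.b ^ i * g⁻¹, ⟨i, conj_zpow⟩, g * l * g⁻¹, ?_, ?_⟩
    · rw [Lt.cj_L]; exact ⟨l, hl, rfl⟩
    · rw [conj_mul, conj_mul, ← show g⁻¹ * h * g = y * s.b ^ i * l from e']; group

theorem cj_J (g : G) : (s.cj g).J = Inv.Fz.cj g s.J := (map_clos (MulAut.conj g).toMonoidHom [s.e1, s.e2, s.e3, s.b]).symm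

/-- The eight vectors of weight one. -/
def Sh : Set G := {y | y ∈ [s.e1, s.e1⁻¹, s.e2, s.e2⁻¹, s.e3, s.e3⁻¹, s.b, s.b⁻¹]}

/-- The case in which `N(J)` induces an orthogonal group of minus type. -/
def O4 : Prop := ∃ g, Ac g s.e1 s.e2 s.e3 s.b (s.f * s.b) (s.f * s.b⁻¹) s.e3 s.u

/-- The affine case. -/
structure Af : Prop where
  ex : ∃ g, Ac g s.e1 s.e2 s.e3 s.b s.e1 s.e2 s.e3 (s.b * s.e1)
  all : ∀ g ∈ s.NJ, g * s.b * g⁻¹ * s.b⁻¹ ∈ s.B0 ∨ g * s.b * g⁻¹ * s.b ∈ s.B0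

/-- The case in which `N(J)` induces `W(B₄)`. -/
structure WB : Prop where
  ex : ∃ m, Ac m s.e1 s.e2 s.e3 s.b s.e1 s.e2 s.b s.e3
  all : ∀ g ∈ s.NJ, g * s.b * g⁻¹ ∈ s.Sh

/-- The case in which `N(J)` induces `W(F₄)` or its extension. -/
structure WF : Prop where
  ex : ∃ m, Ac m s.e1 s.e2 s.e3 s.b s.e1 s.e2 s.b s.e3
  ex2 : ∃ g, Ac g s.e1 s.e2 s.e3 s.b (s.e1 * (s.e1 * s.e2 * s.e3 * s.b)) (s.e2 * (s.e1 * s.e2 * s.e3 * s.b))
    (s.e3 * (s.e1 * s.e2 * s.e3 * s.b)) (s.b * (s.e1 * s.e2 * s.e3 * s.b))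
  nz : ∀ g ∈ s.NJ, g * s.b * g⁻¹ ≠ s.z

/-- The affine case, second stage: `⟨τ, τ^v, τ^(v²)⟩` is homocyclic of order `9³` and `c = b^±` is the fourth power map. -/
structure A9 (c τ : G) : Prop where
  hc : c = s.b ∨ c = s.b⁻¹
  t3 : τ ^ 3 = s.e1
  t12 : τ * (s.v * τ * s.v⁻¹) = s.v * τ * s.v⁻¹ * τ
  tc : c * τ * c⁻¹ = τ ^ 4
  all : ∀ g ∈ s.NJ, g * c * g⁻¹ * c⁻¹ ∈ s.B0

/-- `m` swaps the third and the fourth block, `t = d₄`. -/
structure Mt (m t : G) : Prop where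
  hm : Ac m s.e1 s.e2 s.e3 s.b s.e1 s.e2 s.b s.e3
  m2 : m * m = 1
  md1 : m * s.d1 = s.d1 * m
  md2 : m * s.d2 = s.d2 * m
  ma : m * s.a = s.a * m
  mx : m * s.x = s.x * m
  mt : m * s.d3 * m⁻¹ = t
  br : (m * (s.a * s.v)) ^ 3 = 1
  tL : ∀ g ∈ s.L, t * g = g * t
  tb : t * s.b * t⁻¹ = s.b⁻¹

/-- The case `W(B₄)`, normalised. -/
structure B4 (m t : G) : Prop extends s.Mt m t where
  all : ∀ g ∈ s.NJ, g * s.b * g⁻¹ ∈ s.Sh

end Bs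

/-- An elementary abelian group `⟨t⟩ × E₁ × E₂ × E₃` of order 128; `Eᵢ = ⟨pᵢ, pᵢ^(cᵢ)⟩` is centralised by the other `cⱼ`. -/
structure Fl (t c1 c2 c3 p1 p2 p3 : G) : Prop where
  t2 : t * t = 1
  t1 : t ≠ 1
  o : c1 ^ 3 = 1 ∧ c2 ^ 3 = 1 ∧ c3 ^ 3 = 1
  cc : c1 * c2 = c2 * c1 ∧ c1 * c3 = c3 * c1 ∧ c2 * c3 = c3 * c2
  ct : c1 * t = t * c1 ∧ c2 * t = t * c2 ∧ c3 * t = t * c3
  sq : p1 * p1 = 1 ∧ p2 * p2 = 1 ∧ p3 * p3 = 1
  ne : p1 ≠ 1 ∧ p2 ≠ 1 ∧ p3 ≠ 1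
  pt : p1 * t = t * p1 ∧ p2 * t = t * p2 ∧ p3 * t = t * p3
  tri : p1 * (c1 * p1 * c1⁻¹) * (c1⁻¹ * p1 * c1) = 1 ∧ p2 * (c2 * p2 * c2⁻¹) * (c2⁻¹ * p2 * c2) = 1 ∧
    p3 * (c3 * p3 * c3⁻¹) * (c3⁻¹ * p3 * c3) = 1
  cp : c1 * p2 = p2 * c1 ∧ c1 * p3 = p3 * c1 ∧ c2 * p1 = p1 * c2 ∧ c2 * p3 = p3 * c2 ∧ c3 * p1 = p1 * c3 ∧
    c3 * p2 = p2 * c3
  pp : p1 * p2 = p2 * p1 ∧ p1 * p3 = p3 * p1 ∧ p2 * p3 = p3 * p2

/-- The group of order 128. -/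
def FV (t c1 c2 c3 p1 p2 p3 : G) : Subgroup G :=
  clos [t, p1, c1 * p1 * c1⁻¹, p2, c2 * p2 * c2⁻¹, p3, c3 * p3 * c3⁻¹]

/-- Codes of `e₁, e₂, e₃, b, d₁, d₂, d₃, t, v, a, m, q, x` in `Sp₈(2)`. -/
noncomputable def c8 : List ℕ := [(nat_lit 0x8040200108040211), (nat_lit 0x8040021008042201), (nat_lit 0x8004201008440201),
  (nat_lit 0x840201088040201), (nat_lit 0x8040201008040211), (nat_lit 0x8040201008042201), (nat_lit 0x8040201008440201),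
  (nat_lit 0x8040201088040201), (nat_lit 0x8020104008020104), (nat_lit 0x8040102008040102), (nat_lit 0x4080201004080201),
  (nat_lit 0x8070635308073536), (nat_lit 0x8040201008043231)]

namespace Bs

variable (s : Bs G)

/-- `O₂(C(t))` in the case `W(B₄)`. -/
def V (m t : G) : Subgroup G :=
  FV t s.e1 s.e2 s.e3 (s.v * s.k3 m * s.v⁻¹) (s.v * (s.v * s.k3 m * s.v⁻¹) * s.v⁻¹) (s.k3 m)

/-- The case `W(B₄)`: `O₂(C(t))` is known. -/
structure BQ (m t : G) : Prop extends s.B4 m t where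
  Y : s.Y = ⊥
  fl : Fl t s.e1 s.e2 s.e3 (s.v * s.k3 m * s.v⁻¹) (s.v * (s.v * s.k3 m * s.v⁻¹) * s.v⁻¹) (s.k3 m)
  qq : QQ t (s.V m t)
  inv : ∀ X : Subgroup G, IsPGroup 2 X → X ≤ centralizer {t} → s.B0 ≤ normalizer (X : Set G) → X ≤ s.V m t

/-- The letters of `Sp₈(2)`. -/
abbrev e8 (m t : G) : List G := [s.e1, s.e2, s.e3, s.b, s.d1, s.d2, s.d3, t, s.v, s.a, m, s.q, s.x]

/-- The subgroup `Sp₈(2)`. -/
def G8 (m t : G) : Subgroup G := clos (s.e8 m t)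

/-- The case `W(B₄)`: the subgroup `Sp₈(2)` is known. -/
structure BG (m t : G) : Prop extends s.BQ m t where
  cod : ∃ C : Cod B8.A G, C.RepL c8 (s.e8 m t)

/-- The case `W(F₄)`, normalised. -/
structure F4 (n : Nw G) : Prop where
  Y : s.Y = ⊥
  e1 : n.e1 = s.e1
  e2 : n.e2 = s.e2
  e3 : n.e3 = s.e3
  e4 : n.e4 = s.b
  a1 : n.a1 = s.a
  v : n.v = s.v
  d1 : n.d1 = s.d1
  d2 : n.d2 = s.d2
  d3 : n.d3 = s.d3
  mt : s.Mt n.m n.b1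
  half : Half n s.q
  sx : Sx n s.q s.x

/-- `Z(O₂(C(a)))` in the case `W(F₄)`. -/
def Va (n : Nw G) : Subgroup G :=
  FV s.a n.swap.e1 n.swap.e2 n.swap.e3 (n.v2 * s.p * n.v2⁻¹) (n.v2 * (n.v2 * s.p * n.v2⁻¹) * n.v2⁻¹) s.p

/-- The four quaternion groups in `C(a)`. -/
def Q4 (n : Nw G) : Subgroup G :=
  s.Q1 ⊔ Inv.Fz.cj s.d3 s.Q1 ⊔ Inv.Fz.cj n.m s.Q1 ⊔ Inv.Fz.cj (n.m * s.d3) s.Q1

/-- The case `W(F₄)`: first facts about `C(a)`. -/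
structure FP (n : Nw G) : Prop extends s.F4 n where
  le : ∀ X : Subgroup G, (Nat.card X).Coprime 3 → X ≤ centralizer {s.a} →
    clos [n.swap.e1, n.swap.e2, n.swap.e3] ≤ normalizer (X : Set G) → X ≤ s.Va n ⊔ s.Q4 n
  VQ : ∀ w ∈ s.Va n, ∀ g ∈ s.Q4 n, w * g = g * w
  rot : ∀ X : Subgroup G, IsPGroup 2 X → X ≤ centralizer {s.a} → centralizer {s.a} ≤ normalizer (X : Set G) →
    (s.p ∉ X → X ≤ s.Q4 n) ∧ (s.q ∉ X → X ≤ s.Va n) ∧ (s.q ∈ X → s.Q4 n ≤ X) ∧ (s.p ∈ X → s.Va n ≤ X ⊔ zpowers s.a) ∧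
    ∀ g ∈ X, g * n.swap.e2 = n.swap.e2 * g →
      (g * (n.swap.e1 * n.swap.e3) = n.swap.e1 * n.swap.e3 * g ∨
        g * (n.swap.e1 * n.swap.e3⁻¹) = n.swap.e1 * n.swap.e3⁻¹ * g) → g ∈ zpowers s.a
  sh : ∀ M : Subgroup G, (∀ y ∈ n.Sh, centralizer {y} ≤ M) → s.Va n ⊔ s.Q4 n ≤ M

/-- The case `W(F₄)`: the centre of `O₂(C(a))` is known. -/
structure FQ (n : Nw G) : Prop extends s.F4 n where
  fl : Fl s.a n.swap.e1 n.swap.e2 n.swap.e3 (n.v2 * s.p * n.v2⁻¹) (n.v2 * (n.v2 * s.p * n.v2⁻¹) * n.v2⁻¹) s.p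
  nm : centralizer {s.a} ≤ normalizer (s.Va n : Set G)
  two : IsPGroup 2 (centralizer (s.Va n : Set G))
  inv : ∀ X : Subgroup G, IsPGroup 2 X → X ≤ centralizer {s.a} →
    clos [n.swap.e1, n.swap.e2, n.swap.e3] ≤ normalizer (X : Set G) → X ≤ centralizer (s.Va n : Set G)
  sh : ∀ M : Subgroup G, (∀ y ∈ n.Sh, centralizer {y} ≤ M) → centralizer (s.Va n : Set G) ≤ M

/-- The case `W(F₄)`: the second group `Sp₆(2)`, in `C(u, a)`. -/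
structure FK (n : Nw G) (r : Lt G) : Prop extends s.FQ n where
  r1 : r.e1 = n.swap.e1
  r2 : r.e2 = n.swap.e2
  r3 : r.e3 = n.swap.e3
  rv : r.v = n.swap.v
  ra : r.a = n.swap.a1
  s1 : r.d1 = n.swap.d1
  s2 : r.d2 = n.swap.d2
  s3 : r.d3 = n.swap.d3
  rx : s.q4 n.m = r.x * r.d1 * r.d2
  cu : ∀ g ∈ r.L, g * s.u = s.u * g
  ca : ∀ g ∈ r.L, g * s.a = s.a * g

/-- The case `W(F₄)`: the subgroup `F₄(2)` is known. -/
structure FG (n : Nw G) (r : Lt G) (e : F4T.Em G) : Prop extends s.FK n r where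
  cb : centralizer {s.b} ≤ e.φ.range
  rL : r.L ≤ e.φ.range
  le : e.φ.range ≤ centralizer {s.b} ⊔ centralizer {s.u}
  ar : ∃ c ∈ e.φ.range, c * s.a * c⁻¹ = e.r
  by' : ∃ c ∈ e.φ.range, c * s.b * c⁻¹ = e.X 27 * e.X 20

end Bs

/-- The hypotheses of the last step in the case `W(F₄)`. -/
structure Fe (e : F4T.Em G) (M : Subgroup G) : Prop where
  c2 : ∀ t : G, t * t = 1 → t ≠ 1 → ∃ Q, QQ t Q
  le : e.φ.range ≤ M
  nm : M ≤ normalizer (e.φ.range : Set G)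
  cen : ∀ g ∈ M, (∀ x, g * e.φ x = e.φ x * g) → g = 1
  gs : Good M (e.X 27 * e.X 20)
  cr : centralizer {e.r} ≤ M

end Cfsg.Agent.S8
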