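import Mathlib
import Cfsg.Agent.F4T.KData
import Cfsg.Agent.T16.SpData
import Cfsg.Agent.Rec.Orb

/-! Generated by tools/rec: subgroups of Sp6(2) -/

set_option autoImplicit false
set_option maxRecDepth 100000
set_option linter.unusedVariables false
set_option exponentiation.threshold 100000

namespace Cfsg.Agent.S8

open Cfsg.Agent.Spor Cfsg.Agent.Rec

universe u

noncomputable def B0_t : ST :=
(.node (nat_lit 0x810204081) (.node (nat_lit 0x112064409) (.node (nat_lit 0x110064089) (.node (nat_lit 0x102224481) (.leaf (nat_lit 0x102064489) (nat_lit 770))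
 (.node (nat_lit 0x102264488) (.leaf (nat_lit 0x102224481) (nat_lit 514))
 (.leaf (nat_lit 0x102264488) (nat_lit 1026))
)) (.node (nat_lit 0x110224081) (.leaf (nat_lit 0x110064089) (nat_lit 514))
 (.node (nat_lit 0x110264088) (.leaf (nat_lit 0x110224081) (nat_lit 258))
 (.leaf (nat_lit 0x110264088) (nat_lit 770))
))) (.node (nat_lit 0x802044489) (.node (nat_lit 0x112224401) (.leaf (nat_lit 0x112064409) (nat_lit 1026))
 (.node (nat_lit 0x112264408) (.leaf (nat_lit 0x112224401) (nat_lit 770))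
 (.leaf (nat_lit 0x112264408) (nat_lit 1282))
)) (.node (nat_lit 0x802244488) (.node (nat_lit 0x802204481) (.leaf (nat_lit 0x802044489) (nat_lit 513))
 (.leaf (nat_lit 0x802204481) (nat_lit 257))
) (.node (nat_lit 0x810044089) (.leaf (nat_lit 0x802244488) (nat_lit 769))
 (.leaf (nat_lit 0x810044089) (nat_lit 256))
)))) (.node (nat_lit 0x902260488) (.node (nat_lit 0x812204401) (.node (nat_lit 0x810244088) (.leaf (nat_lit 0x810204081) (nat_lit 0))
 (.node (nat_lit 0x812044409) (.leaf (nat_lit 0x810244088) (nat_lit 512))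
 (.leaf (nat_lit 0x812044409) (nat_lit 769))
)) (.node (nat_lit 0x902060489) (.node (nat_lit 0x812244408) (.leaf (nat_lit 0x812204401) (nat_lit 513))
 (.leaf (nat_lit 0x812244408) (nat_lit 1025))
) (.node (nat_lit 0x902220481) (.leaf (nat_lit 0x902060489) (nat_lit 1026))
 (.leaf (nat_lit 0x902220481) (nat_lit 770))
))) (.node (nat_lit 0x910260088) (.node (nat_lit 0x910060089) (.leaf (nat_lit 0x902260488) (nat_lit 1282))
 (.node (nat_lit 0x910220081) (.leaf (nat_lit 0x910060089) (nat_lit 770))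
 (.leaf (nat_lit 0x910220081) (nat_lit 514))
)) (.node (nat_lit 0x912220401) (.node (nat_lit 0x912060409) (.leaf (nat_lit 0x910260088) (nat_lit 1026))
 (.leaf (nat_lit 0x912060409) (nat_lit 1282))
) (.node (nat_lit 0x912260408) (.leaf (nat_lit 0x912220401) (nat_lit 1026))
 (.leaf (nat_lit 0x912260408) (nat_lit 1538))
)))))

theorem B0_ok : genOK B6.A [(nat_lit 0x810044089), (nat_lit 0x802204481), (nat_lit 0x110224081)] B0_t (nat_lit 27) = true := by decide +kernel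

noncomputable def W3_t : ST :=
(.node (nat_lit 0x420202101) (.node (nat_lit 0x220409102) (.node (nat_lit 0x210809484) (.node (nat_lit 0x2108014a4) (.node (nat_lit 0x2108010a4) (.leaf (nat_lit 0x210801084) (nat_lit 512))
 (.node (nat_lit 0x210801484) (.leaf (nat_lit 0x2108010a4) (nat_lit 768))
 (.leaf (nat_lit 0x210801484) (nat_lit 1025))
)) (.node (nat_lit 0x210809084) (.leaf (nat_lit 0x2108014a4) (nat_lit 1281))
 (.node (nat_lit 0x2108090a4) (.leaf (nat_lit 0x210809084) (nat_lit 770))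
 (.leaf (nat_lit 0x2108090a4) (nat_lit 1026))
))) (.node (nat_lit 0x220401112) (.node (nat_lit 0x2108094a4) (.leaf (nat_lit 0x210809484) (nat_lit 1282))
 (.node (nat_lit 0x220401102) (.leaf (nat_lit 0x2108094a4) (nat_lit 1538))
 (.leaf (nat_lit 0x220401102) (nat_lit 512))
)) (.node (nat_lit 0x220401902) (.leaf (nat_lit 0x220401112) (nat_lit 768))
 (.node (nat_lit 0x220401912) (.leaf (nat_lit 0x220401902) (nat_lit 768))
 (.leaf (nat_lit 0x220401912) (nat_lit 1024))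
)))) (.node (nat_lit 0x408802244) (.node (nat_lit 0x220409912) (.node (nat_lit 0x220409112) (.leaf (nat_lit 0x220409102) (nat_lit 770))
 (.node (nat_lit 0x220409902) (.leaf (nat_lit 0x220409112) (nat_lit 1026))
 (.leaf (nat_lit 0x220409902) (nat_lit 1026))
)) (.node (nat_lit 0x408802044) (.leaf (nat_lit 0x220409912) (nat_lit 1282))
 (.node (nat_lit 0x408802064) (.leaf (nat_lit 0x408802044) (nat_lit 256))
 (.leaf (nat_lit 0x408802064) (nat_lit 512))
))) (.node (nat_lit 0x408812064) (.node (nat_lit 0x408802264) (.leaf (nat_lit 0x408802244) (nat_lit 1280))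
 (.node (nat_lit 0x408812044) (.leaf (nat_lit 0x408802264) (nat_lit 1536))
 (.leaf (nat_lit 0x408812044) (nat_lit 514))
)) (.node (nat_lit 0x408812244) (.leaf (nat_lit 0x408812064) (nat_lit 770))
 (.node (nat_lit 0x408812264) (.leaf (nat_lit 0x408812244) (nat_lit 1538))
 (.leaf (nat_lit 0x408812264) (nat_lit 1794))
))))) (.node (nat_lit 0x808424042) (.node (nat_lit 0x420212901) (.node (nat_lit 0x420202909) (.node (nat_lit 0x420202109) (.leaf (nat_lit 0x420202101) (nat_lit 513))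
 (.node (nat_lit 0x420202901) (.leaf (nat_lit 0x420202109) (nat_lit 1024))
 (.leaf (nat_lit 0x420202901) (nat_lit 769))
)) (.node (nat_lit 0x420212101) (.leaf (nat_lit 0x420202909) (nat_lit 1280))
 (.node (nat_lit 0x420212109) (.leaf (nat_lit 0x420212101) (nat_lit 770))
 (.leaf (nat_lit 0x420212109) (nat_lit 1282))
))) (.node (nat_lit 0x808404052) (.node (nat_lit 0x420212909) (.leaf (nat_lit 0x420212901) (nat_lit 1026))
 (.node (nat_lit 0x808404042) (.leaf (nat_lit 0x420212909) (nat_lit 1538))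
 (.leaf (nat_lit 0x808404042) (nat_lit 257))
)) (.node (nat_lit 0x808404242) (.leaf (nat_lit 0x808404052) (nat_lit 1024))
 (.node (nat_lit 0x808404252) (.leaf (nat_lit 0x808404242) (nat_lit 1281))
 (.leaf (nat_lit 0x808404252) (nat_lit 1537))
)))) (.node (nat_lit 0x810204481) (.node (nat_lit 0x808424252) (.node (nat_lit 0x808424052) (.leaf (nat_lit 0x808424042) (nat_lit 514))
 (.node (nat_lit 0x808424242) (.leaf (nat_lit 0x808424052) (nat_lit 1282))
 (.leaf (nat_lit 0x808424242) (nat_lit 1538))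
)) (.node (nat_lit 0x810204081) (.leaf (nat_lit 0x808424252) (nat_lit 1794))
 (.node (nat_lit 0x810204089) (.leaf (nat_lit 0x810204081) (nat_lit 0))
 (.leaf (nat_lit 0x810204089) (nat_lit 1024))
))) (.node (nat_lit 0x810224089) (.node (nat_lit 0x810204489) (.leaf (nat_lit 0x810204481) (nat_lit 1024))
 (.node (nat_lit 0x810224081) (.leaf (nat_lit 0x810204489) (nat_lit 1280))
 (.leaf (nat_lit 0x810224081) (nat_lit 258))
)) (.node (nat_lit 0x810224481) (.leaf (nat_lit 0x810224089) (nat_lit 1282))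
 (.node (nat_lit 0x810224489) (.leaf (nat_lit 0x810224481) (nat_lit 1282))
 (.leaf (nat_lit 0x810224489) (nat_lit 1538))
))))))

theorem W3_ok : genOK B6.A [(nat_lit 0x408802044), (nat_lit 0x808404042), (nat_lit 0x810224081)] W3_t (nat_lit 48) = true := by decide +kernel

noncomputable def N_t : ST :=
(.node (nat_lit 0x2521010a0) (.node (nat_lit 0x102224401) (.node (nat_lit 0x81910244) (.node (nat_lit 0x528080a4) (.node (nat_lit 0x44488802) (.node (nat_lit 0x42909404) (.node (nat_lit 0x42808484) (.node (nat_lit 0x42109424) (.node (nat_lit 0x421084a0) (.node (nat_lit 0x42108424) (.leaf (nat_lit 0x42108420) (nat_lit 2309))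
 (.leaf (nat_lit 0x42108424) (nat_lit 2053))
) (.node (nat_lit 0x421084a4) (.leaf (nat_lit 0x421084a0) (nat_lit 1797))
 (.node (nat_lit 0x42109420) (.leaf (nat_lit 0x421084a4) (nat_lit 1541))
 (.leaf (nat_lit 0x42109420) (nat_lit 2052))
))) (.node (nat_lit 0x421094a4) (.node (nat_lit 0x421094a0) (.leaf (nat_lit 0x42109424) (nat_lit 1796))
 (.leaf (nat_lit 0x421094a0) (nat_lit 1539))
) (.node (nat_lit 0x42808404) (.leaf (nat_lit 0x421094a4) (nat_lit 1283))
 (.node (nat_lit 0x42808424) (.leaf (nat_lit 0x42808404) (nat_lit 1797))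
 (.leaf (nat_lit 0x42808424) (nat_lit 2053))
)))) (.node (nat_lit 0x428094a4) (.node (nat_lit 0x42809404) (.node (nat_lit 0x428084a4) (.leaf (nat_lit 0x42808484) (nat_lit 1285))
 (.leaf (nat_lit 0x428084a4) (nat_lit 1541))
) (.node (nat_lit 0x42809424) (.leaf (nat_lit 0x42809404) (nat_lit 1540))
 (.node (nat_lit 0x42809484) (.leaf (nat_lit 0x42809424) (nat_lit 1796))
 (.leaf (nat_lit 0x42809484) (nat_lit 1027))
))) (.node (nat_lit 0x42908420) (.node (nat_lit 0x42908404) (.leaf (nat_lit 0x428094a4) (nat_lit 1283))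
 (.leaf (nat_lit 0x42908404) (nat_lit 2309))
) (.node (nat_lit 0x42908484) (.leaf (nat_lit 0x42908420) (nat_lit 2309))
 (.node (nat_lit 0x429084a0) (.leaf (nat_lit 0x42908484) (nat_lit 1797))
 (.leaf (nat_lit 0x429084a0) (nat_lit 1797))
))))) (.node (nat_lit 0x44089910) (.node (nat_lit 0x44088812) (.node (nat_lit 0x42909484) (.node (nat_lit 0x42909420) (.leaf (nat_lit 0x42909404) (nat_lit 2052))
 (.leaf (nat_lit 0x42909420) (nat_lit 2052))
) (.node (nat_lit 0x429094a0) (.leaf (nat_lit 0x42909484) (nat_lit 1539))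
 (.node (nat_lit 0x44088810) (.leaf (nat_lit 0x429094a0) (nat_lit 1539))
 (.leaf (nat_lit 0x44088810) (nat_lit 2053))
))) (.node (nat_lit 0x44088912) (.node (nat_lit 0x44088910) (.leaf (nat_lit 0x44088812) (nat_lit 1797))
 (.leaf (nat_lit 0x44088910) (nat_lit 1797))
) (.node (nat_lit 0x44089810) (.leaf (nat_lit 0x44088912) (nat_lit 1541))
 (.node (nat_lit 0x44089812) (.leaf (nat_lit 0x44089810) (nat_lit 1795))
 (.leaf (nat_lit 0x44089812) (nat_lit 1539))
)))) (.node (nat_lit 0x44408912) (.node (nat_lit 0x44408802) (.node (nat_lit 0x44089912) (.leaf (nat_lit 0x44089910) (nat_lit 1539))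
 (.leaf (nat_lit 0x44089912) (nat_lit 1283))
) (.node (nat_lit 0x44408812) (.leaf (nat_lit 0x44408802) (nat_lit 1541))
 (.node (nat_lit 0x44408902) (.leaf (nat_lit 0x44408812) (nat_lit 1797))
 (.leaf (nat_lit 0x44408902) (nat_lit 1285))
))) (.node (nat_lit 0x44409812) (.node (nat_lit 0x44409802) (.leaf (nat_lit 0x44408912) (nat_lit 1541))
 (.leaf (nat_lit 0x44409802) (nat_lit 1283))
) (.node (nat_lit 0x44409902) (.leaf (nat_lit 0x44409812) (nat_lit 1539))
 (.node (nat_lit 0x44409912) (.leaf (nat_lit 0x44409902) (nat_lit 1027))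
 (.leaf (nat_lit 0x44409912) (nat_lit 1283))
)))))) (.node (nat_lit 0x50809084) (.node (nat_lit 0x501084a0) (.node (nat_lit 0x44489810) (.node (nat_lit 0x44488902) (.node (nat_lit 0x44488810) (.leaf (nat_lit 0x44488802) (nat_lit 2053))
 (.leaf (nat_lit 0x44488810) (nat_lit 2053))
) (.node (nat_lit 0x44488910) (.leaf (nat_lit 0x44488902) (nat_lit 1797))
 (.node (nat_lit 0x44489802) (.leaf (nat_lit 0x44488910) (nat_lit 1797))
 (.leaf (nat_lit 0x44489802) (nat_lit 1795))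
))) (.node (nat_lit 0x44489910) (.node (nat_lit 0x44489902) (.leaf (nat_lit 0x44489810) (nat_lit 1795))
 (.leaf (nat_lit 0x44489902) (nat_lit 1539))
) (.node (nat_lit 0x501080a0) (.leaf (nat_lit 0x44489910) (nat_lit 1539))
 (.node (nat_lit 0x501080a4) (.leaf (nat_lit 0x501080a0) (nat_lit 1541))
 (.leaf (nat_lit 0x501080a4) (nat_lit 1285))
)))) (.node (nat_lit 0x501094a4) (.node (nat_lit 0x501090a0) (.node (nat_lit 0x501084a4) (.leaf (nat_lit 0x501084a0) (nat_lit 2053))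
 (.leaf (nat_lit 0x501084a4) (nat_lit 1797))
) (.node (nat_lit 0x501090a4) (.leaf (nat_lit 0x501090a0) (nat_lit 1283))
 (.node (nat_lit 0x501094a0) (.leaf (nat_lit 0x501090a4) (nat_lit 1027))
 (.leaf (nat_lit 0x501094a0) (nat_lit 1796))
))) (.node (nat_lit 0x508080a4) (.node (nat_lit 0x50808084) (.leaf (nat_lit 0x501094a4) (nat_lit 1540))
 (.leaf (nat_lit 0x50808084) (nat_lit 1029))
) (.node (nat_lit 0x50808484) (.leaf (nat_lit 0x508080a4) (nat_lit 1285))
 (.node (nat_lit 0x508084a4) (.leaf (nat_lit 0x50808484) (nat_lit 1541))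
 (.leaf (nat_lit 0x508084a4) (nat_lit 1797))
))))) (.node (nat_lit 0x50909484) (.node (nat_lit 0x509080a0) (.node (nat_lit 0x50809484) (.node (nat_lit 0x508090a4) (.leaf (nat_lit 0x50809084) (nat_lit 771))
 (.leaf (nat_lit 0x508090a4) (nat_lit 1027))
) (.node (nat_lit 0x508094a4) (.leaf (nat_lit 0x50809484) (nat_lit 1284))
 (.node (nat_lit 0x50908084) (.leaf (nat_lit 0x508094a4) (nat_lit 1540))
 (.leaf (nat_lit 0x50908084) (nat_lit 1541))
))) (.node (nat_lit 0x509084a0) (.node (nat_lit 0x50908484) (.leaf (nat_lit 0x509080a0) (nat_lit 1541))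
 (.leaf (nat_lit 0x50908484) (nat_lit 2053))
) (.node (nat_lit 0x50909084) (.leaf (nat_lit 0x509084a0) (nat_lit 2053))
 (.node (nat_lit 0x509090a0) (.leaf (nat_lit 0x50909084) (nat_lit 1283))
 (.leaf (nat_lit 0x509090a0) (nat_lit 1283))
)))) (.node (nat_lit 0x52108424) (.node (nat_lit 0x521080a0) (.node (nat_lit 0x509094a0) (.leaf (nat_lit 0x50909484) (nat_lit 1796))
 (.leaf (nat_lit 0x509094a0) (nat_lit 1796))
) (.node (nat_lit 0x521080a4) (.leaf (nat_lit 0x521080a0) (nat_lit 2309))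
 (.node (nat_lit 0x52108420) (.leaf (nat_lit 0x521080a4) (nat_lit 2053))
 (.leaf (nat_lit 0x52108420) (nat_lit 2053))
))) (.node (nat_lit 0x52109420) (.node (nat_lit 0x521090a0) (.leaf (nat_lit 0x52108424) (nat_lit 1797))
 (.node (nat_lit 0x521090a4) (.leaf (nat_lit 0x521090a0) (nat_lit 2052))
 (.leaf (nat_lit 0x521090a4) (nat_lit 1796))
)) (.node (nat_lit 0x52109424) (.leaf (nat_lit 0x52109420) (nat_lit 1795))
 (.node (nat_lit 0x52808084) (.leaf (nat_lit 0x52109424) (nat_lit 1539))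
 (.leaf (nat_lit 0x52808084) (nat_lit 1797))
))))))) (.node (nat_lit 0x64088112) (.node (nat_lit 0x60089112) (.node (nat_lit 0x52908420) (.node (nat_lit 0x52809404) (.node (nat_lit 0x52808424) (.node (nat_lit 0x52808404) (.leaf (nat_lit 0x528080a4) (nat_lit 2053))
 (.leaf (nat_lit 0x52808404) (nat_lit 1541))
) (.node (nat_lit 0x52809084) (.leaf (nat_lit 0x52808424) (nat_lit 1797))
 (.node (nat_lit 0x528090a4) (.leaf (nat_lit 0x52809084) (nat_lit 1540))
 (.leaf (nat_lit 0x528090a4) (nat_lit 1796))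
))) (.node (nat_lit 0x52908084) (.node (nat_lit 0x52809424) (.leaf (nat_lit 0x52809404) (nat_lit 1283))
 (.leaf (nat_lit 0x52809424) (nat_lit 1539))
) (.node (nat_lit 0x529080a0) (.leaf (nat_lit 0x52908084) (nat_lit 2309))
 (.node (nat_lit 0x52908404) (.leaf (nat_lit 0x529080a0) (nat_lit 2309))
 (.leaf (nat_lit 0x52908404) (nat_lit 2053))
)))) (.node (nat_lit 0x60088110) (.node (nat_lit 0x529090a0) (.node (nat_lit 0x52909084) (.leaf (nat_lit 0x52908420) (nat_lit 2053))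
 (.leaf (nat_lit 0x52909084) (nat_lit 2052))
) (.node (nat_lit 0x52909404) (.leaf (nat_lit 0x529090a0) (nat_lit 2052))
 (.node (nat_lit 0x52909420) (.leaf (nat_lit 0x52909404) (nat_lit 1795))
 (.leaf (nat_lit 0x52909420) (nat_lit 1795))
))) (.node (nat_lit 0x60088910) (.node (nat_lit 0x60088112) (.leaf (nat_lit 0x60088110) (nat_lit 1541))
 (.leaf (nat_lit 0x60088112) (nat_lit 1285))
) (.node (nat_lit 0x60088912) (.leaf (nat_lit 0x60088910) (nat_lit 1797))
 (.node (nat_lit 0x60089110) (.leaf (nat_lit 0x60088912) (nat_lit 1541))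
 (.leaf (nat_lit 0x60089110) (nat_lit 1283))
))))) (.node (nat_lit 0x60409912) (.node (nat_lit 0x60408902) (.node (nat_lit 0x60089912) (.node (nat_lit 0x60089910) (.leaf (nat_lit 0x60089112) (nat_lit 1027))
 (.leaf (nat_lit 0x60089910) (nat_lit 1539))
) (.node (nat_lit 0x60408102) (.leaf (nat_lit 0x60089912) (nat_lit 1283))
 (.node (nat_lit 0x60408112) (.leaf (nat_lit 0x60408102) (nat_lit 1029))
 (.leaf (nat_lit 0x60408112) (nat_lit 1285))
))) (.node (nat_lit 0x60409102) (.node (nat_lit 0x60408912) (.leaf (nat_lit 0x60408902) (nat_lit 1285))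
 (.leaf (nat_lit 0x60408912) (nat_lit 1541))
) (.node (nat_lit 0x60409112) (.leaf (nat_lit 0x60409102) (nat_lit 771))
 (.node (nat_lit 0x60409902) (.leaf (nat_lit 0x60409112) (nat_lit 1027))
 (.leaf (nat_lit 0x60409902) (nat_lit 1027))
)))) (.node (nat_lit 0x60489102) (.node (nat_lit 0x60488110) (.node (nat_lit 0x60488102) (.leaf (nat_lit 0x60409912) (nat_lit 1283))
 (.leaf (nat_lit 0x60488102) (nat_lit 1541))
) (.node (nat_lit 0x60488902) (.leaf (nat_lit 0x60488110) (nat_lit 1541))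
 (.node (nat_lit 0x60488910) (.leaf (nat_lit 0x60488902) (nat_lit 1797))
 (.leaf (nat_lit 0x60488910) (nat_lit 1797))
))) (.node (nat_lit 0x60489902) (.node (nat_lit 0x60489110) (.leaf (nat_lit 0x60489102) (nat_lit 1283))
 (.leaf (nat_lit 0x60489110) (nat_lit 1283))
) (.node (nat_lit 0x60489910) (.leaf (nat_lit 0x60489902) (nat_lit 1539))
 (.node (nat_lit 0x64088110) (.leaf (nat_lit 0x60489910) (nat_lit 1539))
 (.leaf (nat_lit 0x64088110) (nat_lit 2053))
)))))) (.node (nat_lit 0x64489110) (.node (nat_lit 0x64408812) (.node (nat_lit 0x64089810) (.node (nat_lit 0x64088812) (.node (nat_lit 0x64088810) (.leaf (nat_lit 0x64088112) (nat_lit 1797))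
 (.leaf (nat_lit 0x64088810) (nat_lit 2053))
) (.node (nat_lit 0x64089110) (.leaf (nat_lit 0x64088812) (nat_lit 1797))
 (.node (nat_lit 0x64089112) (.leaf (nat_lit 0x64089110) (nat_lit 1795))
 (.leaf (nat_lit 0x64089112) (nat_lit 1539))
))) (.node (nat_lit 0x64408102) (.node (nat_lit 0x64089812) (.leaf (nat_lit 0x64089810) (nat_lit 1795))
 (.leaf (nat_lit 0x64089812) (nat_lit 1539))
) (.node (nat_lit 0x64408112) (.leaf (nat_lit 0x64408102) (nat_lit 1541))
 (.node (nat_lit 0x64408802) (.leaf (nat_lit 0x64408112) (nat_lit 1797))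
 (.leaf (nat_lit 0x64408802) (nat_lit 1541))
)))) (.node (nat_lit 0x64488102) (.node (nat_lit 0x64409112) (.node (nat_lit 0x64409102) (.leaf (nat_lit 0x64408812) (nat_lit 1797))
 (.leaf (nat_lit 0x64409102) (nat_lit 1283))
) (.node (nat_lit 0x64409802) (.leaf (nat_lit 0x64409112) (nat_lit 1539))
 (.node (nat_lit 0x64409812) (.leaf (nat_lit 0x64409802) (nat_lit 1283))
 (.leaf (nat_lit 0x64409812) (nat_lit 1539))
))) (.node (nat_lit 0x64488802) (.node (nat_lit 0x64488110) (.leaf (nat_lit 0x64488102) (nat_lit 2053))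
 (.leaf (nat_lit 0x64488110) (nat_lit 2053))
) (.node (nat_lit 0x64488810) (.leaf (nat_lit 0x64488802) (nat_lit 2053))
 (.node (nat_lit 0x64489102) (.leaf (nat_lit 0x64488810) (nat_lit 2053))
 (.leaf (nat_lit 0x64489102) (nat_lit 1795))
))))) (.node (nat_lit 0x81112264) (.node (nat_lit 0x81110260) (.node (nat_lit 0x64489810) (.node (nat_lit 0x64489802) (.leaf (nat_lit 0x64489110) (nat_lit 1795))
 (.leaf (nat_lit 0x64489802) (nat_lit 1795))
) (.node (nat_lit 0x81110220) (.leaf (nat_lit 0x64489810) (nat_lit 1795))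
 (.node (nat_lit 0x81110224) (.leaf (nat_lit 0x81110220) (nat_lit 2565))
 (.leaf (nat_lit 0x81110224) (nat_lit 2309))
))) (.node (nat_lit 0x81112220) (.node (nat_lit 0x81110264) (.leaf (nat_lit 0x81110260) (nat_lit 1541))
 (.leaf (nat_lit 0x81110264) (nat_lit 1285))
) (.node (nat_lit 0x81112224) (.leaf (nat_lit 0x81112220) (nat_lit 2307))
 (.node (nat_lit 0x81112260) (.leaf (nat_lit 0x81112224) (nat_lit 2051))
 (.leaf (nat_lit 0x81112260) (nat_lit 1283))
)))) (.node (nat_lit 0x81812204) (.node (nat_lit 0x81810224) (.node (nat_lit 0x81810204) (.leaf (nat_lit 0x81112264) (nat_lit 1027))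
 (.leaf (nat_lit 0x81810204) (nat_lit 2053))
) (.node (nat_lit 0x81810244) (.leaf (nat_lit 0x81810224) (nat_lit 2309))
 (.node (nat_lit 0x81810264) (.leaf (nat_lit 0x81810244) (nat_lit 1029))
 (.leaf (nat_lit 0x81810264) (nat_lit 1285))
))) (.node (nat_lit 0x81812264) (.node (nat_lit 0x81812224) (.leaf (nat_lit 0x81812204) (nat_lit 1795))
 (.node (nat_lit 0x81812244) (.leaf (nat_lit 0x81812224) (nat_lit 2051))
 (.leaf (nat_lit 0x81812244) (nat_lit 771))
)) (.node (nat_lit 0x81910204) (.leaf (nat_lit 0x81812264) (nat_lit 1027))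
 (.node (nat_lit 0x81910220) (.leaf (nat_lit 0x81910204) (nat_lit 2565))
 (.leaf (nat_lit 0x81910220) (nat_lit 2565))
)))))))) (.node (nat_lit 0xa0050909) (.node (nat_lit 0x88810244) (.node (nat_lit 0x84212901) (.node (nat_lit 0x84052808) (.node (nat_lit 0x81912260) (.node (nat_lit 0x81912204) (.node (nat_lit 0x81910260) (.leaf (nat_lit 0x81910244) (nat_lit 1541))
 (.leaf (nat_lit 0x81910260) (nat_lit 1541))
) (.node (nat_lit 0x81912220) (.leaf (nat_lit 0x81912204) (nat_lit 2307))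
 (.node (nat_lit 0x81912244) (.leaf (nat_lit 0x81912220) (nat_lit 2307))
 (.leaf (nat_lit 0x81912244) (nat_lit 1283))
))) (.node (nat_lit 0x84050809) (.node (nat_lit 0x84050808) (.leaf (nat_lit 0x81912260) (nat_lit 1283))
 (.leaf (nat_lit 0x84050808) (nat_lit 2309))
) (.node (nat_lit 0x84050908) (.leaf (nat_lit 0x84050809) (nat_lit 1797))
 (.node (nat_lit 0x84050909) (.leaf (nat_lit 0x84050908) (nat_lit 2053))
 (.leaf (nat_lit 0x84050909) (nat_lit 1541))
)))) (.node (nat_lit 0x84210809) (.node (nat_lit 0x84052908) (.node (nat_lit 0x84052809) (.leaf (nat_lit 0x84052808) (nat_lit 2051))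
 (.leaf (nat_lit 0x84052809) (nat_lit 1540))
) (.node (nat_lit 0x84052909) (.leaf (nat_lit 0x84052908) (nat_lit 1795))
 (.node (nat_lit 0x84210801) (.leaf (nat_lit 0x84052909) (nat_lit 1284))
 (.leaf (nat_lit 0x84210801) (nat_lit 1541))
))) (.node (nat_lit 0x84210909) (.node (nat_lit 0x84210901) (.leaf (nat_lit 0x84210809) (nat_lit 2053))
 (.leaf (nat_lit 0x84210901) (nat_lit 1285))
) (.node (nat_lit 0x84212801) (.leaf (nat_lit 0x84210909) (nat_lit 1797))
 (.node (nat_lit 0x84212809) (.leaf (nat_lit 0x84212801) (nat_lit 1284))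
 (.leaf (nat_lit 0x84212809) (nat_lit 1795))
))))) (.node (nat_lit 0x88110060) (.node (nat_lit 0x84250908) (.node (nat_lit 0x84250801) (.node (nat_lit 0x84212909) (.leaf (nat_lit 0x84212901) (nat_lit 1028))
 (.leaf (nat_lit 0x84212909) (nat_lit 1539))
) (.node (nat_lit 0x84250808) (.leaf (nat_lit 0x84250801) (nat_lit 2309))
 (.node (nat_lit 0x84250901) (.leaf (nat_lit 0x84250808) (nat_lit 2053))
 (.leaf (nat_lit 0x84250901) (nat_lit 2053))
))) (.node (nat_lit 0x84252808) (.node (nat_lit 0x84252801) (.leaf (nat_lit 0x84250908) (nat_lit 1797))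
 (.leaf (nat_lit 0x84252801) (nat_lit 2051))
) (.node (nat_lit 0x84252901) (.leaf (nat_lit 0x84252808) (nat_lit 1796))
 (.node (nat_lit 0x84252908) (.leaf (nat_lit 0x84252901) (nat_lit 1795))
 (.leaf (nat_lit 0x84252908) (nat_lit 1540))
)))) (.node (nat_lit 0x88112064) (.node (nat_lit 0x88110260) (.node (nat_lit 0x88110064) (.leaf (nat_lit 0x88110060) (nat_lit 1285))
 (.leaf (nat_lit 0x88110064) (nat_lit 1029))
) (.node (nat_lit 0x88110264) (.leaf (nat_lit 0x88110260) (nat_lit 2309))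
 (.node (nat_lit 0x88112060) (.leaf (nat_lit 0x88110264) (nat_lit 2053))
 (.leaf (nat_lit 0x88112060) (nat_lit 1027))
))) (.node (nat_lit 0x88112264) (.node (nat_lit 0x88112260) (.leaf (nat_lit 0x88112064) (nat_lit 771))
 (.leaf (nat_lit 0x88112260) (nat_lit 2051))
) (.node (nat_lit 0x88810044) (.leaf (nat_lit 0x88112264) (nat_lit 1795))
 (.node (nat_lit 0x88810064) (.leaf (nat_lit 0x88810044) (nat_lit 773))
 (.leaf (nat_lit 0x88810064) (nat_lit 1029))
)))))) (.node (nat_lit 0x89112220) (.node (nat_lit 0x88912044) (.node (nat_lit 0x88812264) (.node (nat_lit 0x88812044) (.node (nat_lit 0x88810264) (.leaf (nat_lit 0x88810244) (nat_lit 1797))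
 (.leaf (nat_lit 0x88810264) (nat_lit 2053))
) (.node (nat_lit 0x88812064) (.leaf (nat_lit 0x88812044) (nat_lit 515))
 (.node (nat_lit 0x88812244) (.leaf (nat_lit 0x88812064) (nat_lit 771))
 (.leaf (nat_lit 0x88812244) (nat_lit 1539))
))) (.node (nat_lit 0x88910060) (.node (nat_lit 0x88910044) (.leaf (nat_lit 0x88812264) (nat_lit 1795))
 (.leaf (nat_lit 0x88910044) (nat_lit 1285))
) (.node (nat_lit 0x88910244) (.leaf (nat_lit 0x88910060) (nat_lit 1285))
 (.node (nat_lit 0x88910260) (.leaf (nat_lit 0x88910244) (nat_lit 2309))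
 (.leaf (nat_lit 0x88910260) (nat_lit 2309))
)))) (.node (nat_lit 0x89110064) (.node (nat_lit 0x88912244) (.node (nat_lit 0x88912060) (.leaf (nat_lit 0x88912044) (nat_lit 1027))
 (.leaf (nat_lit 0x88912060) (nat_lit 1027))
) (.node (nat_lit 0x88912260) (.leaf (nat_lit 0x88912244) (nat_lit 2051))
 (.node (nat_lit 0x89110060) (.leaf (nat_lit 0x88912260) (nat_lit 2051))
 (.leaf (nat_lit 0x89110060) (nat_lit 2565))
))) (.node (nat_lit 0x89110224) (.node (nat_lit 0x89110220) (.leaf (nat_lit 0x89110064) (nat_lit 2309))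
 (.leaf (nat_lit 0x89110220) (nat_lit 1797))
) (.node (nat_lit 0x89112060) (.leaf (nat_lit 0x89110224) (nat_lit 1541))
 (.node (nat_lit 0x89112064) (.leaf (nat_lit 0x89112060) (nat_lit 2307))
 (.leaf (nat_lit 0x89112064) (nat_lit 2051))
))))) (.node (nat_lit 0x89910044) (.node (nat_lit 0x89810224) (.node (nat_lit 0x89810044) (.node (nat_lit 0x89112224) (.leaf (nat_lit 0x89112220) (nat_lit 1539))
 (.leaf (nat_lit 0x89112224) (nat_lit 1283))
) (.node (nat_lit 0x89810064) (.leaf (nat_lit 0x89810044) (nat_lit 2053))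
 (.node (nat_lit 0x89810204) (.leaf (nat_lit 0x89810064) (nat_lit 2309))
 (.leaf (nat_lit 0x89810204) (nat_lit 1285))
))) (.node (nat_lit 0x89812064) (.node (nat_lit 0x89812044) (.leaf (nat_lit 0x89810224) (nat_lit 1541))
 (.leaf (nat_lit 0x89812044) (nat_lit 1795))
) (.node (nat_lit 0x89812204) (.leaf (nat_lit 0x89812064) (nat_lit 2051))
 (.node (nat_lit 0x89812224) (.leaf (nat_lit 0x89812204) (nat_lit 1027))
 (.leaf (nat_lit 0x89812224) (nat_lit 1283))
)))) (.node (nat_lit 0x89912060) (.node (nat_lit 0x89910204) (.node (nat_lit 0x89910060) (.leaf (nat_lit 0x89910044) (nat_lit 2565))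
 (.leaf (nat_lit 0x89910060) (nat_lit 2565))
) (.node (nat_lit 0x89910220) (.leaf (nat_lit 0x89910204) (nat_lit 1797))
 (.node (nat_lit 0x89912044) (.leaf (nat_lit 0x89910220) (nat_lit 1797))
 (.leaf (nat_lit 0x89912044) (nat_lit 2307))
))) (.node (nat_lit 0xa0050108) (.node (nat_lit 0x89912204) (.leaf (nat_lit 0x89912060) (nat_lit 2307))
 (.node (nat_lit 0x89912220) (.leaf (nat_lit 0x89912204) (nat_lit 1539))
 (.leaf (nat_lit 0x89912220) (nat_lit 1539))
)) (.node (nat_lit 0xa0050109) (.leaf (nat_lit 0xa0050108) (nat_lit 1797))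
 (.node (nat_lit 0xa0050908) (.leaf (nat_lit 0xa0050109) (nat_lit 1285))
 (.leaf (nat_lit 0xa0050908) (nat_lit 2053))
))))))) (.node (nat_lit 0xa4250808) (.node (nat_lit 0xa0252908) (.node (nat_lit 0xa0212109) (.node (nat_lit 0xa0210101) (.node (nat_lit 0xa0052109) (.node (nat_lit 0xa0052108) (.leaf (nat_lit 0xa0050909) (nat_lit 1541))
 (.leaf (nat_lit 0xa0052108) (nat_lit 1539))
) (.node (nat_lit 0xa0052908) (.leaf (nat_lit 0xa0052109) (nat_lit 1028))
 (.node (nat_lit 0xa0052909) (.leaf (nat_lit 0xa0052908) (nat_lit 1795))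
 (.leaf (nat_lit 0xa0052909) (nat_lit 1284))
))) (.node (nat_lit 0xa0210901) (.node (nat_lit 0xa0210109) (.leaf (nat_lit 0xa0210101) (nat_lit 1029))
 (.leaf (nat_lit 0xa0210109) (nat_lit 1541))
) (.node (nat_lit 0xa0210909) (.leaf (nat_lit 0xa0210901) (nat_lit 1285))
 (.node (nat_lit 0xa0212101) (.leaf (nat_lit 0xa0210909) (nat_lit 1797))
 (.leaf (nat_lit 0xa0212101) (nat_lit 772))
)))) (.node (nat_lit 0xa0250901) (.node (nat_lit 0xa0212909) (.node (nat_lit 0xa0212901) (.leaf (nat_lit 0xa0212109) (nat_lit 1283))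
 (.leaf (nat_lit 0xa0212901) (nat_lit 1028))
) (.node (nat_lit 0xa0250101) (.leaf (nat_lit 0xa0212909) (nat_lit 1539))
 (.node (nat_lit 0xa0250108) (.leaf (nat_lit 0xa0250101) (nat_lit 1797))
 (.leaf (nat_lit 0xa0250108) (nat_lit 1541))
))) (.node (nat_lit 0xa0252101) (.node (nat_lit 0xa0250908) (.leaf (nat_lit 0xa0250901) (nat_lit 2053))
 (.leaf (nat_lit 0xa0250908) (nat_lit 1797))
) (.node (nat_lit 0xa0252108) (.leaf (nat_lit 0xa0252101) (nat_lit 1539))
 (.node (nat_lit 0xa0252901) (.leaf (nat_lit 0xa0252108) (nat_lit 1284))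
 (.leaf (nat_lit 0xa0252901) (nat_lit 1795))
))))) (.node (nat_lit 0xa4210109) (.node (nat_lit 0xa4052108) (.node (nat_lit 0xa4050109) (.node (nat_lit 0xa4050108) (.leaf (nat_lit 0xa0252908) (nat_lit 1540))
 (.leaf (nat_lit 0xa4050108) (nat_lit 2309))
) (.node (nat_lit 0xa4050808) (.leaf (nat_lit 0xa4050109) (nat_lit 1797))
 (.node (nat_lit 0xa4050809) (.leaf (nat_lit 0xa4050808) (nat_lit 2309))
 (.leaf (nat_lit 0xa4050809) (nat_lit 1797))
))) (.node (nat_lit 0xa4052808) (.node (nat_lit 0xa4052109) (.leaf (nat_lit 0xa4052108) (nat_lit 2051))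
 (.leaf (nat_lit 0xa4052109) (nat_lit 1540))
) (.node (nat_lit 0xa4052809) (.leaf (nat_lit 0xa4052808) (nat_lit 2051))
 (.node (nat_lit 0xa4210101) (.leaf (nat_lit 0xa4052809) (nat_lit 1540))
 (.leaf (nat_lit 0xa4210101) (nat_lit 1541))
)))) (.node (nat_lit 0xa4212801) (.node (nat_lit 0xa4210809) (.node (nat_lit 0xa4210801) (.leaf (nat_lit 0xa4210109) (nat_lit 2053))
 (.leaf (nat_lit 0xa4210801) (nat_lit 1541))
) (.node (nat_lit 0xa4212101) (.leaf (nat_lit 0xa4210809) (nat_lit 2053))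
 (.node (nat_lit 0xa4212109) (.leaf (nat_lit 0xa4212101) (nat_lit 1284))
 (.leaf (nat_lit 0xa4212109) (nat_lit 1795))
))) (.node (nat_lit 0xa4250101) (.node (nat_lit 0xa4212809) (.leaf (nat_lit 0xa4212801) (nat_lit 1284))
 (.leaf (nat_lit 0xa4212809) (nat_lit 1795))
) (.node (nat_lit 0xa4250108) (.leaf (nat_lit 0xa4250101) (nat_lit 2309))
 (.node (nat_lit 0xa4250801) (.leaf (nat_lit 0xa4250108) (nat_lit 2053))
 (.leaf (nat_lit 0xa4250801) (nat_lit 2309))
)))))) (.node (nat_lit 0x101424252) (.node (nat_lit 0x1010a4212) (.node (nat_lit 0x1010a0210) (.node (nat_lit 0xa4252108) (.node (nat_lit 0xa4252101) (.leaf (nat_lit 0xa4250808) (nat_lit 2053))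
 (.leaf (nat_lit 0xa4252101) (nat_lit 2051))
) (.node (nat_lit 0xa4252801) (.leaf (nat_lit 0xa4252108) (nat_lit 1796))
 (.node (nat_lit 0xa4252808) (.leaf (nat_lit 0xa4252801) (nat_lit 2051))
 (.leaf (nat_lit 0xa4252808) (nat_lit 1796))
))) (.node (nat_lit 0x1010a0250) (.node (nat_lit 0x1010a0212) (.leaf (nat_lit 0x1010a0210) (nat_lit 2565))
 (.leaf (nat_lit 0x1010a0212) (nat_lit 2309))
) (.node (nat_lit 0x1010a0252) (.leaf (nat_lit 0x1010a0250) (nat_lit 2053))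
 (.node (nat_lit 0x1010a4210) (.leaf (nat_lit 0x1010a0252) (nat_lit 1285))
 (.leaf (nat_lit 0x1010a4210) (nat_lit 2308))
)))) (.node (nat_lit 0x101420242) (.node (nat_lit 0x1010a4252) (.node (nat_lit 0x1010a4250) (.leaf (nat_lit 0x1010a4212) (nat_lit 2052))
 (.leaf (nat_lit 0x1010a4250) (nat_lit 1795))
) (.node (nat_lit 0x101420202) (.leaf (nat_lit 0x1010a4252) (nat_lit 1028))
 (.node (nat_lit 0x101420212) (.leaf (nat_lit 0x101420202) (nat_lit 2053))
 (.leaf (nat_lit 0x101420212) (nat_lit 2309))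
))) (.node (nat_lit 0x101424202) (.node (nat_lit 0x101420252) (.leaf (nat_lit 0x101420242) (nat_lit 1029))
 (.leaf (nat_lit 0x101420252) (nat_lit 1797))
) (.node (nat_lit 0x101424212) (.leaf (nat_lit 0x101424202) (nat_lit 1796))
 (.node (nat_lit 0x101424242) (.leaf (nat_lit 0x101424212) (nat_lit 2052))
 (.leaf (nat_lit 0x101424242) (nat_lit 772))
))))) (.node (nat_lit 0x102060409) (.node (nat_lit 0x1014a4202) (.node (nat_lit 0x1014a0210) (.node (nat_lit 0x1014a0202) (.leaf (nat_lit 0x101424252) (nat_lit 1539))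
 (.leaf (nat_lit 0x1014a0202) (nat_lit 2565))
) (.node (nat_lit 0x1014a0242) (.leaf (nat_lit 0x1014a0210) (nat_lit 2565))
 (.node (nat_lit 0x1014a0250) (.leaf (nat_lit 0x1014a0242) (nat_lit 2053))
 (.leaf (nat_lit 0x1014a0250) (nat_lit 1541))
))) (.node (nat_lit 0x1014a4242) (.node (nat_lit 0x1014a4210) (.leaf (nat_lit 0x1014a4202) (nat_lit 2308))
 (.leaf (nat_lit 0x1014a4210) (nat_lit 2308))
) (.node (nat_lit 0x1014a4250) (.leaf (nat_lit 0x1014a4242) (nat_lit 1795))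
 (.node (nat_lit 0x102060408) (.leaf (nat_lit 0x1014a4250) (nat_lit 1284))
 (.leaf (nat_lit 0x102060408) (nat_lit 2309))
)))) (.node (nat_lit 0x102064488) (.node (nat_lit 0x102060489) (.node (nat_lit 0x102060488) (.leaf (nat_lit 0x102060409) (nat_lit 2053))
 (.leaf (nat_lit 0x102060488) (nat_lit 2053))
) (.node (nat_lit 0x102064408) (.leaf (nat_lit 0x102060489) (nat_lit 1029))
 (.node (nat_lit 0x102064409) (.leaf (nat_lit 0x102064408) (nat_lit 2051))
 (.leaf (nat_lit 0x102064409) (nat_lit 1795))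
))) (.node (nat_lit 0x102220409) (.node (nat_lit 0x102064489) (.leaf (nat_lit 0x102064488) (nat_lit 1795))
 (.node (nat_lit 0x102220401) (.leaf (nat_lit 0x102064489) (nat_lit 770))
 (.leaf (nat_lit 0x102220401) (nat_lit 1797))
)) (.node (nat_lit 0x102220481) (.leaf (nat_lit 0x102220409) (nat_lit 2053))
 (.node (nat_lit 0x102220489) (.leaf (nat_lit 0x102220481) (nat_lit 773))
 (.leaf (nat_lit 0x102220489) (nat_lit 1797))
))))))))) (.node (nat_lit 0x2101094a0) (.node (nat_lit 0x110264088) (.node (nat_lit 0x1090a4050) (.node (nat_lit 0x108420042) (.node (nat_lit 0x102264481) (.node (nat_lit 0x102260408) (.node (nat_lit 0x102224481) (.node (nat_lit 0x102224409) (.leaf (nat_lit 0x102224401) (nat_lit 1539))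
 (.leaf (nat_lit 0x102224409) (nat_lit 1795))
) (.node (nat_lit 0x102224489) (.leaf (nat_lit 0x102224481) (nat_lit 514))
 (.node (nat_lit 0x102260401) (.leaf (nat_lit 0x102224489) (nat_lit 1539))
 (.leaf (nat_lit 0x102260401) (nat_lit 2309))
))) (.node (nat_lit 0x102260488) (.node (nat_lit 0x102260481) (.leaf (nat_lit 0x102260408) (nat_lit 2309))
 (.leaf (nat_lit 0x102260481) (nat_lit 2053))
) (.node (nat_lit 0x102264401) (.leaf (nat_lit 0x102260488) (nat_lit 1285))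
 (.node (nat_lit 0x102264408) (.leaf (nat_lit 0x102264401) (nat_lit 2051))
 (.leaf (nat_lit 0x102264408) (nat_lit 2051))
)))) (.node (nat_lit 0x1080a0252) (.node (nat_lit 0x1080a0050) (.node (nat_lit 0x102264488) (.leaf (nat_lit 0x102264481) (nat_lit 1795))
 (.leaf (nat_lit 0x102264488) (nat_lit 1026))
) (.node (nat_lit 0x1080a0052) (.leaf (nat_lit 0x1080a0050) (nat_lit 1797))
 (.node (nat_lit 0x1080a0250) (.leaf (nat_lit 0x1080a0052) (nat_lit 1029))
 (.leaf (nat_lit 0x1080a0250) (nat_lit 2309))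
))) (.node (nat_lit 0x1080a4052) (.node (nat_lit 0x1080a4050) (.leaf (nat_lit 0x1080a0252) (nat_lit 2053))
 (.leaf (nat_lit 0x1080a4050) (nat_lit 1539))
) (.node (nat_lit 0x1080a4250) (.leaf (nat_lit 0x1080a4052) (nat_lit 772))
 (.node (nat_lit 0x1080a4252) (.leaf (nat_lit 0x1080a4250) (nat_lit 2052))
 (.leaf (nat_lit 0x1080a4252) (nat_lit 1796))
))))) (.node (nat_lit 0x1084a0242) (.node (nat_lit 0x108424052) (.node (nat_lit 0x108420242) (.node (nat_lit 0x108420052) (.leaf (nat_lit 0x108420042) (nat_lit 773))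
 (.leaf (nat_lit 0x108420052) (nat_lit 1541))
) (.node (nat_lit 0x108420252) (.leaf (nat_lit 0x108420242) (nat_lit 1797))
 (.node (nat_lit 0x108424042) (.leaf (nat_lit 0x108420252) (nat_lit 2053))
 (.leaf (nat_lit 0x108424042) (nat_lit 516))
))) (.node (nat_lit 0x108424252) (.node (nat_lit 0x108424242) (.leaf (nat_lit 0x108424052) (nat_lit 1283))
 (.leaf (nat_lit 0x108424242) (nat_lit 1540))
) (.node (nat_lit 0x1084a0042) (.leaf (nat_lit 0x108424252) (nat_lit 1796))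
 (.node (nat_lit 0x1084a0050) (.leaf (nat_lit 0x1084a0042) (nat_lit 1797))
 (.leaf (nat_lit 0x1084a0050) (nat_lit 1285))
)))) (.node (nat_lit 0x1084a4250) (.node (nat_lit 0x1084a4042) (.node (nat_lit 0x1084a0250) (.leaf (nat_lit 0x1084a0242) (nat_lit 2309))
 (.leaf (nat_lit 0x1084a0250) (nat_lit 2309))
) (.node (nat_lit 0x1084a4050) (.leaf (nat_lit 0x1084a4042) (nat_lit 1539))
 (.node (nat_lit 0x1084a4242) (.leaf (nat_lit 0x1084a4050) (nat_lit 1028))
 (.leaf (nat_lit 0x1084a4242) (nat_lit 2052))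
))) (.node (nat_lit 0x1090a0052) (.node (nat_lit 0x1090a0050) (.leaf (nat_lit 0x1084a4250) (nat_lit 2052))
 (.leaf (nat_lit 0x1090a0050) (nat_lit 2565))
) (.node (nat_lit 0x1090a0210) (.leaf (nat_lit 0x1090a0052) (nat_lit 2309))
 (.node (nat_lit 0x1090a0212) (.leaf (nat_lit 0x1090a0210) (nat_lit 2309))
 (.leaf (nat_lit 0x1090a0212) (nat_lit 1541))
)))))) (.node (nat_lit 0x110060088) (.node (nat_lit 0x109424202) (.node (nat_lit 0x109420052) (.node (nat_lit 0x1090a4210) (.node (nat_lit 0x1090a4052) (.leaf (nat_lit 0x1090a4050) (nat_lit 2308))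
 (.leaf (nat_lit 0x1090a4052) (nat_lit 2052))
) (.node (nat_lit 0x1090a4212) (.leaf (nat_lit 0x1090a4210) (nat_lit 2051))
 (.node (nat_lit 0x109420042) (.leaf (nat_lit 0x1090a4212) (nat_lit 1284))
 (.leaf (nat_lit 0x109420042) (nat_lit 2053))
))) (.node (nat_lit 0x109420212) (.node (nat_lit 0x109420202) (.leaf (nat_lit 0x109420052) (nat_lit 2309))
 (.leaf (nat_lit 0x109420202) (nat_lit 1285))
) (.node (nat_lit 0x109424042) (.leaf (nat_lit 0x109420212) (nat_lit 2053))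
 (.node (nat_lit 0x109424052) (.leaf (nat_lit 0x109424042) (nat_lit 1796))
 (.leaf (nat_lit 0x109424052) (nat_lit 2052))
)))) (.node (nat_lit 0x1094a0210) (.node (nat_lit 0x1094a0042) (.node (nat_lit 0x109424212) (.leaf (nat_lit 0x109424202) (nat_lit 1028))
 (.leaf (nat_lit 0x109424212) (nat_lit 1795))
) (.node (nat_lit 0x1094a0050) (.leaf (nat_lit 0x1094a0042) (nat_lit 2565))
 (.node (nat_lit 0x1094a0202) (.leaf (nat_lit 0x1094a0050) (nat_lit 2565))
 (.leaf (nat_lit 0x1094a0202) (nat_lit 2309))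
))) (.node (nat_lit 0x1094a4050) (.node (nat_lit 0x1094a4042) (.leaf (nat_lit 0x1094a0210) (nat_lit 1797))
 (.leaf (nat_lit 0x1094a4042) (nat_lit 2308))
) (.node (nat_lit 0x1094a4202) (.leaf (nat_lit 0x1094a4050) (nat_lit 2308))
 (.node (nat_lit 0x1094a4210) (.leaf (nat_lit 0x1094a4202) (nat_lit 2051))
 (.leaf (nat_lit 0x1094a4210) (nat_lit 1540))
))))) (.node (nat_lit 0x110220481) (.node (nat_lit 0x110064089) (.node (nat_lit 0x110060488) (.node (nat_lit 0x110060089) (.leaf (nat_lit 0x110060088) (nat_lit 1797))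
 (.leaf (nat_lit 0x110060089) (nat_lit 773))
) (.node (nat_lit 0x110060489) (.leaf (nat_lit 0x110060488) (nat_lit 2053))
 (.node (nat_lit 0x110064088) (.leaf (nat_lit 0x110060489) (nat_lit 1797))
 (.leaf (nat_lit 0x110064088) (nat_lit 1539))
))) (.node (nat_lit 0x110064489) (.node (nat_lit 0x110064488) (.leaf (nat_lit 0x110064089) (nat_lit 514))
 (.leaf (nat_lit 0x110064488) (nat_lit 1795))
) (.node (nat_lit 0x110220081) (.leaf (nat_lit 0x110064489) (nat_lit 1539))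
 (.node (nat_lit 0x110220089) (.leaf (nat_lit 0x110220081) (nat_lit 517))
 (.leaf (nat_lit 0x110220089) (nat_lit 1541))
)))) (.node (nat_lit 0x110224489) (.node (nat_lit 0x110224081) (.node (nat_lit 0x110220489) (.leaf (nat_lit 0x110220481) (nat_lit 1541))
 (.leaf (nat_lit 0x110220489) (nat_lit 1797))
) (.node (nat_lit 0x110224089) (.leaf (nat_lit 0x110224081) (nat_lit 258))
 (.node (nat_lit 0x110224481) (.leaf (nat_lit 0x110224089) (nat_lit 1283))
 (.leaf (nat_lit 0x110224481) (nat_lit 1283))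
))) (.node (nat_lit 0x110260481) (.node (nat_lit 0x110260081) (.leaf (nat_lit 0x110224489) (nat_lit 1539))
 (.node (nat_lit 0x110260088) (.leaf (nat_lit 0x110260081) (nat_lit 1797))
 (.leaf (nat_lit 0x110260088) (nat_lit 1029))
)) (.node (nat_lit 0x110260488) (.leaf (nat_lit 0x110260481) (nat_lit 2053))
 (.node (nat_lit 0x110264081) (.leaf (nat_lit 0x110260488) (nat_lit 2053))
 (.leaf (nat_lit 0x110264081) (nat_lit 1539))
))))))) (.node (nat_lit 0x202809424) (.node (nat_lit 0x112260088) (.node (nat_lit 0x112064409) (.node (nat_lit 0x112060408) (.node (nat_lit 0x110264488) (.node (nat_lit 0x110264481) (.leaf (nat_lit 0x110264088) (nat_lit 770))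
 (.leaf (nat_lit 0x110264481) (nat_lit 1795))
) (.node (nat_lit 0x112060088) (.leaf (nat_lit 0x110264488) (nat_lit 1795))
 (.node (nat_lit 0x112060089) (.leaf (nat_lit 0x112060088) (nat_lit 2309))
 (.leaf (nat_lit 0x112060089) (nat_lit 2053))
))) (.node (nat_lit 0x112064088) (.node (nat_lit 0x112060409) (.leaf (nat_lit 0x112060408) (nat_lit 2309))
 (.leaf (nat_lit 0x112060409) (nat_lit 1285))
) (.node (nat_lit 0x112064089) (.leaf (nat_lit 0x112064088) (nat_lit 2051))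
 (.node (nat_lit 0x112064408) (.leaf (nat_lit 0x112064089) (nat_lit 1795))
 (.leaf (nat_lit 0x112064408) (nat_lit 2051))
)))) (.node (nat_lit 0x112224081) (.node (nat_lit 0x112220089) (.node (nat_lit 0x112220081) (.leaf (nat_lit 0x112064409) (nat_lit 1026))
 (.leaf (nat_lit 0x112220081) (nat_lit 1797))
) (.node (nat_lit 0x112220401) (.leaf (nat_lit 0x112220089) (nat_lit 2053))
 (.node (nat_lit 0x112220409) (.leaf (nat_lit 0x112220401) (nat_lit 1029))
 (.leaf (nat_lit 0x112220409) (nat_lit 2053))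
))) (.node (nat_lit 0x112224401) (.node (nat_lit 0x112224089) (.leaf (nat_lit 0x112224081) (nat_lit 1539))
 (.leaf (nat_lit 0x112224089) (nat_lit 1795))
) (.node (nat_lit 0x112224409) (.leaf (nat_lit 0x112224401) (nat_lit 770))
 (.node (nat_lit 0x112260081) (.leaf (nat_lit 0x112224409) (nat_lit 1795))
 (.leaf (nat_lit 0x112260081) (nat_lit 2309))
))))) (.node (nat_lit 0x2021014a4) (.node (nat_lit 0x112264401) (.node (nat_lit 0x112260408) (.node (nat_lit 0x112260401) (.leaf (nat_lit 0x112260088) (nat_lit 2309))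
 (.leaf (nat_lit 0x112260401) (nat_lit 2309))
) (.node (nat_lit 0x112264081) (.leaf (nat_lit 0x112260408) (nat_lit 1541))
 (.node (nat_lit 0x112264088) (.leaf (nat_lit 0x112264081) (nat_lit 2051))
 (.leaf (nat_lit 0x112264088) (nat_lit 2051))
))) (.node (nat_lit 0x202101420) (.node (nat_lit 0x112264408) (.leaf (nat_lit 0x112264401) (nat_lit 2051))
 (.leaf (nat_lit 0x112264408) (nat_lit 1282))
) (.node (nat_lit 0x202101424) (.leaf (nat_lit 0x202101420) (nat_lit 1796))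
 (.node (nat_lit 0x2021014a0) (.leaf (nat_lit 0x202101424) (nat_lit 1540))
 (.leaf (nat_lit 0x2021014a0) (nat_lit 1283))
)))) (.node (nat_lit 0x202801404) (.node (nat_lit 0x202109424) (.node (nat_lit 0x202109420) (.leaf (nat_lit 0x2021014a4) (nat_lit 1027))
 (.leaf (nat_lit 0x202109420) (nat_lit 2053))
) (.node (nat_lit 0x2021094a0) (.leaf (nat_lit 0x202109424) (nat_lit 1797))
 (.node (nat_lit 0x2021094a4) (.leaf (nat_lit 0x2021094a0) (nat_lit 1541))
 (.leaf (nat_lit 0x2021094a4) (nat_lit 1285))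
))) (.node (nat_lit 0x202801484) (.node (nat_lit 0x202801424) (.leaf (nat_lit 0x202801404) (nat_lit 1284))
 (.leaf (nat_lit 0x202801424) (nat_lit 1540))
) (.node (nat_lit 0x2028014a4) (.leaf (nat_lit 0x202801484) (nat_lit 771))
 (.node (nat_lit 0x202809404) (.leaf (nat_lit 0x2028014a4) (nat_lit 1027))
 (.leaf (nat_lit 0x202809404) (nat_lit 1541))
)))))) (.node (nat_lit 0x204401812) (.node (nat_lit 0x2029094a0) (.node (nat_lit 0x202901484) (.node (nat_lit 0x2028094a4) (.node (nat_lit 0x202809484) (.leaf (nat_lit 0x202809424) (nat_lit 1797))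
 (.leaf (nat_lit 0x202809484) (nat_lit 1029))
) (.node (nat_lit 0x202901404) (.leaf (nat_lit 0x2028094a4) (nat_lit 1285))
 (.node (nat_lit 0x202901420) (.leaf (nat_lit 0x202901404) (nat_lit 1796))
 (.leaf (nat_lit 0x202901420) (nat_lit 1796))
))) (.node (nat_lit 0x202909404) (.node (nat_lit 0x2029014a0) (.leaf (nat_lit 0x202901484) (nat_lit 1283))
 (.leaf (nat_lit 0x2029014a0) (nat_lit 1283))
) (.node (nat_lit 0x202909420) (.leaf (nat_lit 0x202909404) (nat_lit 2053))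
 (.node (nat_lit 0x202909484) (.leaf (nat_lit 0x202909420) (nat_lit 2053))
 (.leaf (nat_lit 0x202909484) (nat_lit 1541))
)))) (.node (nat_lit 0x204089810) (.node (nat_lit 0x204081812) (.node (nat_lit 0x204081810) (.leaf (nat_lit 0x2029094a0) (nat_lit 1541))
 (.leaf (nat_lit 0x204081810) (nat_lit 1539))
) (.node (nat_lit 0x204081910) (.leaf (nat_lit 0x204081812) (nat_lit 1283))
 (.node (nat_lit 0x204081912) (.leaf (nat_lit 0x204081910) (nat_lit 1283))
 (.leaf (nat_lit 0x204081912) (nat_lit 1027))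
))) (.node (nat_lit 0x204089910) (.node (nat_lit 0x204089812) (.leaf (nat_lit 0x204089810) (nat_lit 1797))
 (.leaf (nat_lit 0x204089812) (nat_lit 1541))
) (.node (nat_lit 0x204089912) (.leaf (nat_lit 0x204089910) (nat_lit 1541))
 (.node (nat_lit 0x204401802) (.leaf (nat_lit 0x204089912) (nat_lit 1285))
 (.leaf (nat_lit 0x204401802) (nat_lit 1027))
))))) (.node (nat_lit 0x204481910) (.node (nat_lit 0x204409902) (.node (nat_lit 0x204401912) (.node (nat_lit 0x204401902) (.leaf (nat_lit 0x204401812) (nat_lit 1283))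
 (.leaf (nat_lit 0x204401902) (nat_lit 771))
) (.node (nat_lit 0x204409802) (.leaf (nat_lit 0x204401912) (nat_lit 1027))
 (.node (nat_lit 0x204409812) (.leaf (nat_lit 0x204409802) (nat_lit 1285))
 (.leaf (nat_lit 0x204409812) (nat_lit 1541))
))) (.node (nat_lit 0x204481802) (.node (nat_lit 0x204409912) (.leaf (nat_lit 0x204409902) (nat_lit 1029))
 (.leaf (nat_lit 0x204409912) (nat_lit 1285))
) (.node (nat_lit 0x204481810) (.leaf (nat_lit 0x204481802) (nat_lit 1539))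
 (.node (nat_lit 0x204481902) (.leaf (nat_lit 0x204481810) (nat_lit 1539))
 (.leaf (nat_lit 0x204481902) (nat_lit 1283))
)))) (.node (nat_lit 0x2101010a0) (.node (nat_lit 0x204489810) (.node (nat_lit 0x204489802) (.leaf (nat_lit 0x204481910) (nat_lit 1283))
 (.leaf (nat_lit 0x204489802) (nat_lit 1797))
) (.node (nat_lit 0x204489902) (.leaf (nat_lit 0x204489810) (nat_lit 1797))
 (.node (nat_lit 0x204489910) (.leaf (nat_lit 0x204489902) (nat_lit 1541))
 (.leaf (nat_lit 0x204489910) (nat_lit 1541))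
))) (.node (nat_lit 0x2101014a4) (.node (nat_lit 0x2101010a4) (.leaf (nat_lit 0x2101010a0) (nat_lit 1027))
 (.node (nat_lit 0x2101014a0) (.leaf (nat_lit 0x2101010a4) (nat_lit 771))
 (.leaf (nat_lit 0x2101014a0) (nat_lit 1540))
)) (.node (nat_lit 0x2101090a0) (.leaf (nat_lit 0x2101014a4) (nat_lit 1284))
 (.node (nat_lit 0x2101090a4) (.leaf (nat_lit 0x2101090a0) (nat_lit 1285))
 (.leaf (nat_lit 0x2101090a4) (nat_lit 1029))
)))))))) (.node (nat_lit 0x224409812) (.node (nat_lit 0x212909404) (.node (nat_lit 0x212101420) (.node (nat_lit 0x210901084) (.node (nat_lit 0x2108014a4) (.node (nat_lit 0x210801084) (.node (nat_lit 0x2101094a4) (.leaf (nat_lit 0x2101094a0) (nat_lit 1797))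
 (.leaf (nat_lit 0x2101094a4) (nat_lit 1541))
) (.node (nat_lit 0x2108010a4) (.leaf (nat_lit 0x210801084) (nat_lit 515))
 (.node (nat_lit 0x210801484) (.leaf (nat_lit 0x2108010a4) (nat_lit 771))
 (.leaf (nat_lit 0x210801484) (nat_lit 1028))
))) (.node (nat_lit 0x2108090a4) (.node (nat_lit 0x210809084) (.leaf (nat_lit 0x2108014a4) (nat_lit 1284))
 (.leaf (nat_lit 0x210809084) (nat_lit 773))
) (.node (nat_lit 0x210809484) (.leaf (nat_lit 0x2108090a4) (nat_lit 1029))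
 (.node (nat_lit 0x2108094a4) (.leaf (nat_lit 0x210809484) (nat_lit 1285))
 (.leaf (nat_lit 0x2108094a4) (nat_lit 1541))
)))) (.node (nat_lit 0x2109090a0) (.node (nat_lit 0x210901484) (.node (nat_lit 0x2109010a0) (.leaf (nat_lit 0x210901084) (nat_lit 1027))
 (.leaf (nat_lit 0x2109010a0) (nat_lit 1027))
) (.node (nat_lit 0x2109014a0) (.leaf (nat_lit 0x210901484) (nat_lit 1540))
 (.node (nat_lit 0x210909084) (.leaf (nat_lit 0x2109014a0) (nat_lit 1540))
 (.leaf (nat_lit 0x210909084) (nat_lit 1285))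
))) (.node (nat_lit 0x2109094a0) (.node (nat_lit 0x210909484) (.leaf (nat_lit 0x2109090a0) (nat_lit 1285))
 (.leaf (nat_lit 0x210909484) (nat_lit 1797))
) (.node (nat_lit 0x2121010a0) (.leaf (nat_lit 0x2109094a0) (nat_lit 1797))
 (.node (nat_lit 0x2121010a4) (.leaf (nat_lit 0x2121010a0) (nat_lit 1796))
 (.leaf (nat_lit 0x2121010a4) (nat_lit 1540))
))))) (.node (nat_lit 0x212809084) (.node (nat_lit 0x212109424) (.node (nat_lit 0x2121090a0) (.node (nat_lit 0x212101424) (.leaf (nat_lit 0x212101420) (nat_lit 1539))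
 (.leaf (nat_lit 0x212101424) (nat_lit 1283))
) (.node (nat_lit 0x2121090a4) (.leaf (nat_lit 0x2121090a0) (nat_lit 2053))
 (.node (nat_lit 0x212109420) (.leaf (nat_lit 0x2121090a4) (nat_lit 1797))
 (.leaf (nat_lit 0x212109420) (nat_lit 1797))
))) (.node (nat_lit 0x2128010a4) (.node (nat_lit 0x212801084) (.leaf (nat_lit 0x212109424) (nat_lit 1541))
 (.leaf (nat_lit 0x212801084) (nat_lit 1284))
) (.node (nat_lit 0x212801404) (.leaf (nat_lit 0x2128010a4) (nat_lit 1540))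
 (.node (nat_lit 0x212801424) (.leaf (nat_lit 0x212801404) (nat_lit 1027))
 (.leaf (nat_lit 0x212801424) (nat_lit 1283))
)))) (.node (nat_lit 0x2129010a0) (.node (nat_lit 0x212809404) (.node (nat_lit 0x2128090a4) (.leaf (nat_lit 0x212809084) (nat_lit 1541))
 (.leaf (nat_lit 0x2128090a4) (nat_lit 1797))
) (.node (nat_lit 0x212809424) (.leaf (nat_lit 0x212809404) (nat_lit 1285))
 (.node (nat_lit 0x212901084) (.leaf (nat_lit 0x212809424) (nat_lit 1541))
 (.leaf (nat_lit 0x212901084) (nat_lit 1796))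
))) (.node (nat_lit 0x212901420) (.node (nat_lit 0x212901404) (.leaf (nat_lit 0x2129010a0) (nat_lit 1796))
 (.leaf (nat_lit 0x212901404) (nat_lit 1539))
) (.node (nat_lit 0x212909084) (.leaf (nat_lit 0x212901420) (nat_lit 1539))
 (.node (nat_lit 0x2129090a0) (.leaf (nat_lit 0x212909084) (nat_lit 2053))
 (.leaf (nat_lit 0x2129090a0) (nat_lit 2053))
)))))) (.node (nat_lit 0x220481902) (.node (nat_lit 0x220401102) (.node (nat_lit 0x220081912) (.node (nat_lit 0x220081110) (.node (nat_lit 0x212909420) (.leaf (nat_lit 0x212909404) (nat_lit 1797))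
 (.leaf (nat_lit 0x212909420) (nat_lit 1797))
) (.node (nat_lit 0x220081112) (.leaf (nat_lit 0x220081110) (nat_lit 1027))
 (.node (nat_lit 0x220081910) (.leaf (nat_lit 0x220081112) (nat_lit 771))
 (.leaf (nat_lit 0x220081910) (nat_lit 1283))
))) (.node (nat_lit 0x220089112) (.node (nat_lit 0x220089110) (.leaf (nat_lit 0x220081912) (nat_lit 1027))
 (.leaf (nat_lit 0x220089110) (nat_lit 1285))
) (.node (nat_lit 0x220089910) (.leaf (nat_lit 0x220089112) (nat_lit 1029))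
 (.node (nat_lit 0x220089912) (.leaf (nat_lit 0x220089910) (nat_lit 1541))
 (.leaf (nat_lit 0x220089912) (nat_lit 1285))
)))) (.node (nat_lit 0x220409112) (.node (nat_lit 0x220401902) (.node (nat_lit 0x220401112) (.leaf (nat_lit 0x220401102) (nat_lit 515))
 (.leaf (nat_lit 0x220401112) (nat_lit 771))
) (.node (nat_lit 0x220401912) (.leaf (nat_lit 0x220401902) (nat_lit 771))
 (.node (nat_lit 0x220409102) (.leaf (nat_lit 0x220401912) (nat_lit 1027))
 (.leaf (nat_lit 0x220409102) (nat_lit 773))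
))) (.node (nat_lit 0x220409912) (.node (nat_lit 0x220409902) (.leaf (nat_lit 0x220409112) (nat_lit 1029))
 (.leaf (nat_lit 0x220409902) (nat_lit 1029))
) (.node (nat_lit 0x220481102) (.leaf (nat_lit 0x220409912) (nat_lit 1285))
 (.node (nat_lit 0x220481110) (.leaf (nat_lit 0x220481102) (nat_lit 1027))
 (.leaf (nat_lit 0x220481110) (nat_lit 1027))
))))) (.node (nat_lit 0x224089110) (.node (nat_lit 0x220489910) (.node (nat_lit 0x220489102) (.node (nat_lit 0x220481910) (.leaf (nat_lit 0x220481902) (nat_lit 1283))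
 (.leaf (nat_lit 0x220481910) (nat_lit 1283))
) (.node (nat_lit 0x220489110) (.leaf (nat_lit 0x220489102) (nat_lit 1285))
 (.node (nat_lit 0x220489902) (.leaf (nat_lit 0x220489110) (nat_lit 1285))
 (.leaf (nat_lit 0x220489902) (nat_lit 1541))
))) (.node (nat_lit 0x224081112) (.node (nat_lit 0x224081110) (.leaf (nat_lit 0x220489910) (nat_lit 1541))
 (.leaf (nat_lit 0x224081110) (nat_lit 1539))
) (.node (nat_lit 0x224081810) (.leaf (nat_lit 0x224081112) (nat_lit 1283))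
 (.node (nat_lit 0x224081812) (.leaf (nat_lit 0x224081810) (nat_lit 1539))
 (.leaf (nat_lit 0x224081812) (nat_lit 1283))
)))) (.node (nat_lit 0x224401112) (.node (nat_lit 0x224089810) (.node (nat_lit 0x224089112) (.leaf (nat_lit 0x224089110) (nat_lit 1797))
 (.leaf (nat_lit 0x224089112) (nat_lit 1541))
) (.node (nat_lit 0x224089812) (.leaf (nat_lit 0x224089810) (nat_lit 1797))
 (.node (nat_lit 0x224401102) (.leaf (nat_lit 0x224089812) (nat_lit 1541))
 (.leaf (nat_lit 0x224401102) (nat_lit 1027))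
))) (.node (nat_lit 0x224409102) (.node (nat_lit 0x224401802) (.leaf (nat_lit 0x224401112) (nat_lit 1283))
 (.node (nat_lit 0x224401812) (.leaf (nat_lit 0x224401802) (nat_lit 1027))
 (.leaf (nat_lit 0x224401812) (nat_lit 1283))
)) (.node (nat_lit 0x224409112) (.leaf (nat_lit 0x224409102) (nat_lit 1285))
 (.node (nat_lit 0x224409802) (.leaf (nat_lit 0x224409112) (nat_lit 1541))
 (.leaf (nat_lit 0x224409802) (nat_lit 1285))
))))))) (.node (nat_lit 0x244088912) (.node (nat_lit 0x2428014a4) (.node (nat_lit 0x242101424) (.node (nat_lit 0x224489102) (.node (nat_lit 0x224481110) (.node (nat_lit 0x224481102) (.leaf (nat_lit 0x224409812) (nat_lit 1541))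
 (.leaf (nat_lit 0x224481102) (nat_lit 1539))
) (.node (nat_lit 0x224481802) (.leaf (nat_lit 0x224481110) (nat_lit 1539))
 (.node (nat_lit 0x224481810) (.leaf (nat_lit 0x224481802) (nat_lit 1539))
 (.leaf (nat_lit 0x224481810) (nat_lit 1539))
))) (.node (nat_lit 0x224489802) (.node (nat_lit 0x224489110) (.leaf (nat_lit 0x224489102) (nat_lit 1797))
 (.leaf (nat_lit 0x224489110) (nat_lit 1797))
) (.node (nat_lit 0x224489810) (.leaf (nat_lit 0x224489802) (nat_lit 1797))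
 (.node (nat_lit 0x242101420) (.leaf (nat_lit 0x224489810) (nat_lit 1797))
 (.leaf (nat_lit 0x242101420) (nat_lit 2306))
)))) (.node (nat_lit 0x2421084a0) (.node (nat_lit 0x2421014a4) (.node (nat_lit 0x2421014a0) (.leaf (nat_lit 0x242101424) (nat_lit 2050))
 (.leaf (nat_lit 0x2421014a0) (nat_lit 1794))
) (.node (nat_lit 0x242108420) (.leaf (nat_lit 0x2421014a4) (nat_lit 1538))
 (.node (nat_lit 0x242108424) (.leaf (nat_lit 0x242108420) (nat_lit 2308))
 (.leaf (nat_lit 0x242108424) (nat_lit 2052))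
))) (.node (nat_lit 0x242801404) (.node (nat_lit 0x2421084a4) (.leaf (nat_lit 0x2421084a0) (nat_lit 1795))
 (.leaf (nat_lit 0x2421084a4) (nat_lit 1539))
) (.node (nat_lit 0x242801424) (.leaf (nat_lit 0x242801404) (nat_lit 1794))
 (.node (nat_lit 0x242801484) (.leaf (nat_lit 0x242801424) (nat_lit 2050))
 (.leaf (nat_lit 0x242801484) (nat_lit 1282))
))))) (.node (nat_lit 0x242908420) (.node (nat_lit 0x242901404) (.node (nat_lit 0x242808424) (.node (nat_lit 0x242808404) (.leaf (nat_lit 0x2428014a4) (nat_lit 1538))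
 (.leaf (nat_lit 0x242808404) (nat_lit 1796))
) (.node (nat_lit 0x242808484) (.leaf (nat_lit 0x242808424) (nat_lit 2052))
 (.node (nat_lit 0x2428084a4) (.leaf (nat_lit 0x242808484) (nat_lit 1283))
 (.leaf (nat_lit 0x2428084a4) (nat_lit 1539))
))) (.node (nat_lit 0x242901484) (.node (nat_lit 0x242901420) (.leaf (nat_lit 0x242901404) (nat_lit 2306))
 (.leaf (nat_lit 0x242901420) (nat_lit 2306))
) (.node (nat_lit 0x2429014a0) (.leaf (nat_lit 0x242901484) (nat_lit 1794))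
 (.node (nat_lit 0x242908404) (.leaf (nat_lit 0x2429014a0) (nat_lit 1794))
 (.leaf (nat_lit 0x242908404) (nat_lit 2308))
)))) (.node (nat_lit 0x244081910) (.node (nat_lit 0x2429084a0) (.node (nat_lit 0x242908484) (.leaf (nat_lit 0x242908420) (nat_lit 2308))
 (.leaf (nat_lit 0x242908484) (nat_lit 1795))
) (.node (nat_lit 0x244081810) (.leaf (nat_lit 0x2429084a0) (nat_lit 1795))
 (.node (nat_lit 0x244081812) (.leaf (nat_lit 0x244081810) (nat_lit 2050))
 (.leaf (nat_lit 0x244081812) (nat_lit 1794))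
))) (.node (nat_lit 0x244088810) (.node (nat_lit 0x244081912) (.leaf (nat_lit 0x244081910) (nat_lit 1794))
 (.leaf (nat_lit 0x244081912) (nat_lit 1538))
) (.node (nat_lit 0x244088812) (.leaf (nat_lit 0x244088810) (nat_lit 2051))
 (.node (nat_lit 0x244088910) (.leaf (nat_lit 0x244088812) (nat_lit 1795))
 (.leaf (nat_lit 0x244088910) (nat_lit 1795))
)))))) (.node (nat_lit 0x2501014a4) (.node (nat_lit 0x244481810) (.node (nat_lit 0x244408802) (.node (nat_lit 0x244401812) (.node (nat_lit 0x244401802) (.leaf (nat_lit 0x244088912) (nat_lit 1539))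
 (.leaf (nat_lit 0x244401802) (nat_lit 1538))
) (.node (nat_lit 0x244401902) (.leaf (nat_lit 0x244401812) (nat_lit 1794))
 (.node (nat_lit 0x244401912) (.leaf (nat_lit 0x244401902) (nat_lit 1282))
 (.leaf (nat_lit 0x244401912) (nat_lit 1538))
))) (.node (nat_lit 0x244408902) (.node (nat_lit 0x244408812) (.leaf (nat_lit 0x244408802) (nat_lit 1539))
 (.leaf (nat_lit 0x244408812) (nat_lit 1795))
) (.node (nat_lit 0x244408912) (.leaf (nat_lit 0x244408902) (nat_lit 1283))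
 (.node (nat_lit 0x244481802) (.leaf (nat_lit 0x244408912) (nat_lit 1539))
 (.leaf (nat_lit 0x244481802) (nat_lit 2050))
)))) (.node (nat_lit 0x244488902) (.node (nat_lit 0x244481910) (.node (nat_lit 0x244481902) (.leaf (nat_lit 0x244481810) (nat_lit 2050))
 (.leaf (nat_lit 0x244481902) (nat_lit 1794))
) (.node (nat_lit 0x244488802) (.leaf (nat_lit 0x244481910) (nat_lit 1794))
 (.node (nat_lit 0x244488810) (.leaf (nat_lit 0x244488802) (nat_lit 2051))
 (.leaf (nat_lit 0x244488810) (nat_lit 2051))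
))) (.node (nat_lit 0x2501010a0) (.node (nat_lit 0x244488910) (.leaf (nat_lit 0x244488902) (nat_lit 1795))
 (.leaf (nat_lit 0x244488910) (nat_lit 1795))
) (.node (nat_lit 0x2501010a4) (.leaf (nat_lit 0x2501010a0) (nat_lit 1538))
 (.node (nat_lit 0x2501014a0) (.leaf (nat_lit 0x2501010a4) (nat_lit 1282))
 (.leaf (nat_lit 0x2501014a0) (nat_lit 2050))
))))) (.node (nat_lit 0x2508080a4) (.node (nat_lit 0x250801084) (.node (nat_lit 0x2501080a4) (.node (nat_lit 0x2501080a0) (.leaf (nat_lit 0x2501014a4) (nat_lit 1794))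
 (.leaf (nat_lit 0x2501080a0) (nat_lit 1539))
) (.node (nat_lit 0x2501084a0) (.leaf (nat_lit 0x2501080a4) (nat_lit 1283))
 (.node (nat_lit 0x2501084a4) (.leaf (nat_lit 0x2501084a0) (nat_lit 2052))
 (.leaf (nat_lit 0x2501084a4) (nat_lit 1796))
))) (.node (nat_lit 0x250801484) (.node (nat_lit 0x2508010a4) (.leaf (nat_lit 0x250801084) (nat_lit 1026))
 (.leaf (nat_lit 0x2508010a4) (nat_lit 1282))
) (.node (nat_lit 0x2508014a4) (.leaf (nat_lit 0x250801484) (nat_lit 1538))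
 (.node (nat_lit 0x250808084) (.leaf (nat_lit 0x2508014a4) (nat_lit 1794))
 (.leaf (nat_lit 0x250808084) (nat_lit 1027))
)))) (.node (nat_lit 0x250901484) (.node (nat_lit 0x2508084a4) (.node (nat_lit 0x250808484) (.leaf (nat_lit 0x2508080a4) (nat_lit 1283))
 (.leaf (nat_lit 0x250808484) (nat_lit 1540))
) (.node (nat_lit 0x250901084) (.leaf (nat_lit 0x2508084a4) (nat_lit 1796))
 (.node (nat_lit 0x2509010a0) (.leaf (nat_lit 0x250901084) (nat_lit 1538))
 (.leaf (nat_lit 0x2509010a0) (nat_lit 1538))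
))) (.node (nat_lit 0x2509080a0) (.node (nat_lit 0x2509014a0) (.leaf (nat_lit 0x250901484) (nat_lit 2050))
 (.node (nat_lit 0x250908084) (.leaf (nat_lit 0x2509014a0) (nat_lit 2050))
 (.leaf (nat_lit 0x250908084) (nat_lit 1539))
)) (.node (nat_lit 0x250908484) (.leaf (nat_lit 0x2509080a0) (nat_lit 1539))
 (.node (nat_lit 0x2509084a0) (.leaf (nat_lit 0x250908484) (nat_lit 2052))
 (.leaf (nat_lit 0x2509084a0) (nat_lit 2052))
)))))))))) (.node (nat_lit 0x4a0210101) (.node (nat_lit 0x409902204) (.node (nat_lit 0x401802224) (.node (nat_lit 0x260481102) (.node (nat_lit 0x252908084) (.node (nat_lit 0x252801404) (.node (nat_lit 0x2521080a4) (.node (nat_lit 0x252101420) (.node (nat_lit 0x2521010a4) (.leaf (nat_lit 0x2521010a0) (nat_lit 2306))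
 (.leaf (nat_lit 0x2521010a4) (nat_lit 2050))
) (.node (nat_lit 0x252101424) (.leaf (nat_lit 0x252101420) (nat_lit 2050))
 (.node (nat_lit 0x2521080a0) (.leaf (nat_lit 0x252101424) (nat_lit 1794))
 (.leaf (nat_lit 0x2521080a0) (nat_lit 2308))
))) (.node (nat_lit 0x252108424) (.node (nat_lit 0x252108420) (.leaf (nat_lit 0x2521080a4) (nat_lit 2052))
 (.leaf (nat_lit 0x252108420) (nat_lit 2051))
) (.node (nat_lit 0x252801084) (.leaf (nat_lit 0x252108424) (nat_lit 1795))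
 (.node (nat_lit 0x2528010a4) (.leaf (nat_lit 0x252801084) (nat_lit 1794))
 (.leaf (nat_lit 0x2528010a4) (nat_lit 2050))
)))) (.node (nat_lit 0x252808424) (.node (nat_lit 0x252808084) (.node (nat_lit 0x252801424) (.leaf (nat_lit 0x252801404) (nat_lit 1538))
 (.leaf (nat_lit 0x252801424) (nat_lit 1794))
) (.node (nat_lit 0x2528080a4) (.leaf (nat_lit 0x252808084) (nat_lit 1796))
 (.node (nat_lit 0x252808404) (.leaf (nat_lit 0x2528080a4) (nat_lit 2052))
 (.leaf (nat_lit 0x252808404) (nat_lit 1539))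
))) (.node (nat_lit 0x2529010a0) (.node (nat_lit 0x252901084) (.leaf (nat_lit 0x252808424) (nat_lit 1795))
 (.leaf (nat_lit 0x252901084) (nat_lit 2306))
) (.node (nat_lit 0x252901404) (.leaf (nat_lit 0x2529010a0) (nat_lit 2306))
 (.node (nat_lit 0x252901420) (.leaf (nat_lit 0x252901404) (nat_lit 2050))
 (.leaf (nat_lit 0x252901420) (nat_lit 2050))
))))) (.node (nat_lit 0x260088910) (.node (nat_lit 0x260081112) (.node (nat_lit 0x252908404) (.node (nat_lit 0x2529080a0) (.leaf (nat_lit 0x252908084) (nat_lit 2308))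
 (.leaf (nat_lit 0x2529080a0) (nat_lit 2308))
) (.node (nat_lit 0x252908420) (.leaf (nat_lit 0x252908404) (nat_lit 2051))
 (.node (nat_lit 0x260081110) (.leaf (nat_lit 0x252908420) (nat_lit 2051))
 (.leaf (nat_lit 0x260081110) (nat_lit 1538))
))) (.node (nat_lit 0x260081912) (.node (nat_lit 0x260081910) (.leaf (nat_lit 0x260081112) (nat_lit 1282))
 (.leaf (nat_lit 0x260081910) (nat_lit 1794))
) (.node (nat_lit 0x260088110) (.leaf (nat_lit 0x260081912) (nat_lit 1538))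
 (.node (nat_lit 0x260088112) (.leaf (nat_lit 0x260088110) (nat_lit 1539))
 (.leaf (nat_lit 0x260088112) (nat_lit 1283))
)))) (.node (nat_lit 0x260401912) (.node (nat_lit 0x260401102) (.node (nat_lit 0x260088912) (.leaf (nat_lit 0x260088910) (nat_lit 1795))
 (.leaf (nat_lit 0x260088912) (nat_lit 1539))
) (.node (nat_lit 0x260401112) (.leaf (nat_lit 0x260401102) (nat_lit 1026))
 (.node (nat_lit 0x260401902) (.leaf (nat_lit 0x260401112) (nat_lit 1282))
 (.leaf (nat_lit 0x260401902) (nat_lit 1282))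
))) (.node (nat_lit 0x260408112) (.node (nat_lit 0x260408102) (.leaf (nat_lit 0x260401912) (nat_lit 1538))
 (.leaf (nat_lit 0x260408102) (nat_lit 1027))
) (.node (nat_lit 0x260408902) (.leaf (nat_lit 0x260408112) (nat_lit 1283))
 (.node (nat_lit 0x260408912) (.leaf (nat_lit 0x260408902) (nat_lit 1283))
 (.leaf (nat_lit 0x260408912) (nat_lit 1539))
)))))) (.node (nat_lit 0x264408102) (.node (nat_lit 0x264081810) (.node (nat_lit 0x260488110) (.node (nat_lit 0x260481902) (.node (nat_lit 0x260481110) (.leaf (nat_lit 0x260481102) (nat_lit 1538))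
 (.leaf (nat_lit 0x260481110) (nat_lit 1538))
) (.node (nat_lit 0x260481910) (.leaf (nat_lit 0x260481902) (nat_lit 1794))
 (.node (nat_lit 0x260488102) (.leaf (nat_lit 0x260481910) (nat_lit 1794))
 (.leaf (nat_lit 0x260488102) (nat_lit 1539))
))) (.node (nat_lit 0x260488910) (.node (nat_lit 0x260488902) (.leaf (nat_lit 0x260488110) (nat_lit 1539))
 (.leaf (nat_lit 0x260488902) (nat_lit 1795))
) (.node (nat_lit 0x264081110) (.leaf (nat_lit 0x260488910) (nat_lit 1795))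
 (.node (nat_lit 0x264081112) (.leaf (nat_lit 0x264081110) (nat_lit 2050))
 (.leaf (nat_lit 0x264081112) (nat_lit 1794))
)))) (.node (nat_lit 0x264088812) (.node (nat_lit 0x264088110) (.node (nat_lit 0x264081812) (.leaf (nat_lit 0x264081810) (nat_lit 2050))
 (.leaf (nat_lit 0x264081812) (nat_lit 1794))
) (.node (nat_lit 0x264088112) (.leaf (nat_lit 0x264088110) (nat_lit 2051))
 (.node (nat_lit 0x264088810) (.leaf (nat_lit 0x264088112) (nat_lit 1795))
 (.leaf (nat_lit 0x264088810) (nat_lit 2051))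
))) (.node (nat_lit 0x264401112) (.node (nat_lit 0x264401102) (.leaf (nat_lit 0x264088812) (nat_lit 1795))
 (.leaf (nat_lit 0x264401102) (nat_lit 1538))
) (.node (nat_lit 0x264401802) (.leaf (nat_lit 0x264401112) (nat_lit 1794))
 (.node (nat_lit 0x264401812) (.leaf (nat_lit 0x264401802) (nat_lit 1538))
 (.leaf (nat_lit 0x264401812) (nat_lit 1794))
))))) (.node (nat_lit 0x264488802) (.node (nat_lit 0x264481110) (.node (nat_lit 0x264408802) (.node (nat_lit 0x264408112) (.leaf (nat_lit 0x264408102) (nat_lit 1539))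
 (.leaf (nat_lit 0x264408112) (nat_lit 1795))
) (.node (nat_lit 0x264408812) (.leaf (nat_lit 0x264408802) (nat_lit 1539))
 (.node (nat_lit 0x264481102) (.leaf (nat_lit 0x264408812) (nat_lit 1795))
 (.leaf (nat_lit 0x264481102) (nat_lit 2050))
))) (.node (nat_lit 0x264481810) (.node (nat_lit 0x264481802) (.leaf (nat_lit 0x264481110) (nat_lit 2050))
 (.leaf (nat_lit 0x264481802) (nat_lit 2050))
) (.node (nat_lit 0x264488102) (.leaf (nat_lit 0x264481810) (nat_lit 2050))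
 (.node (nat_lit 0x264488110) (.leaf (nat_lit 0x264488102) (nat_lit 2051))
 (.leaf (nat_lit 0x264488110) (nat_lit 2051))
)))) (.node (nat_lit 0x401102264) (.node (nat_lit 0x401102220) (.node (nat_lit 0x264488810) (.leaf (nat_lit 0x264488802) (nat_lit 2051))
 (.leaf (nat_lit 0x264488810) (nat_lit 2051))
) (.node (nat_lit 0x401102224) (.leaf (nat_lit 0x401102220) (nat_lit 2051))
 (.node (nat_lit 0x401102260) (.leaf (nat_lit 0x401102224) (nat_lit 1795))
 (.leaf (nat_lit 0x401102260) (nat_lit 1027))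
))) (.node (nat_lit 0x401112260) (.node (nat_lit 0x401112220) (.leaf (nat_lit 0x401102264) (nat_lit 771))
 (.node (nat_lit 0x401112224) (.leaf (nat_lit 0x401112220) (nat_lit 2309))
 (.leaf (nat_lit 0x401112224) (nat_lit 2053))
)) (.node (nat_lit 0x401112264) (.leaf (nat_lit 0x401112260) (nat_lit 1285))
 (.node (nat_lit 0x401802204) (.leaf (nat_lit 0x401112264) (nat_lit 1029))
 (.leaf (nat_lit 0x401802204) (nat_lit 1539))
))))))) (.node (nat_lit 0x408102064) (.node (nat_lit 0x404052809) (.node (nat_lit 0x401902260) (.node (nat_lit 0x401812244) (.node (nat_lit 0x401802264) (.node (nat_lit 0x401802244) (.leaf (nat_lit 0x401802224) (nat_lit 1795))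
 (.leaf (nat_lit 0x401802244) (nat_lit 515))
) (.node (nat_lit 0x401812204) (.leaf (nat_lit 0x401802264) (nat_lit 771))
 (.node (nat_lit 0x401812224) (.leaf (nat_lit 0x401812204) (nat_lit 1797))
 (.leaf (nat_lit 0x401812224) (nat_lit 2053))
))) (.node (nat_lit 0x401902204) (.node (nat_lit 0x401812264) (.leaf (nat_lit 0x401812244) (nat_lit 773))
 (.leaf (nat_lit 0x401812264) (nat_lit 1029))
) (.node (nat_lit 0x401902220) (.leaf (nat_lit 0x401902204) (nat_lit 2051))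
 (.node (nat_lit 0x401902244) (.leaf (nat_lit 0x401902220) (nat_lit 2051))
 (.leaf (nat_lit 0x401902244) (nat_lit 1027))
)))) (.node (nat_lit 0x404042808) (.node (nat_lit 0x401912220) (.node (nat_lit 0x401912204) (.leaf (nat_lit 0x401902260) (nat_lit 1027))
 (.leaf (nat_lit 0x401912204) (nat_lit 2309))
) (.node (nat_lit 0x401912244) (.leaf (nat_lit 0x401912220) (nat_lit 2309))
 (.node (nat_lit 0x401912260) (.leaf (nat_lit 0x401912244) (nat_lit 1285))
 (.leaf (nat_lit 0x401912260) (nat_lit 1285))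
))) (.node (nat_lit 0x404042908) (.node (nat_lit 0x404042809) (.leaf (nat_lit 0x404042808) (nat_lit 1795))
 (.leaf (nat_lit 0x404042809) (nat_lit 1284))
) (.node (nat_lit 0x404042909) (.leaf (nat_lit 0x404042908) (nat_lit 1539))
 (.node (nat_lit 0x404052808) (.leaf (nat_lit 0x404042909) (nat_lit 1028))
 (.leaf (nat_lit 0x404052808) (nat_lit 2053))
))))) (.node (nat_lit 0x404212909) (.node (nat_lit 0x404202901) (.node (nat_lit 0x404052909) (.node (nat_lit 0x404052908) (.leaf (nat_lit 0x404052809) (nat_lit 1541))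
 (.leaf (nat_lit 0x404052908) (nat_lit 1797))
) (.node (nat_lit 0x404202801) (.leaf (nat_lit 0x404052909) (nat_lit 1285))
 (.node (nat_lit 0x404202809) (.leaf (nat_lit 0x404202801) (nat_lit 1028))
 (.leaf (nat_lit 0x404202809) (nat_lit 1539))
))) (.node (nat_lit 0x404212801) (.node (nat_lit 0x404202909) (.leaf (nat_lit 0x404202901) (nat_lit 772))
 (.leaf (nat_lit 0x404202909) (nat_lit 1283))
) (.node (nat_lit 0x404212809) (.leaf (nat_lit 0x404212801) (nat_lit 1285))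
 (.node (nat_lit 0x404212901) (.leaf (nat_lit 0x404212809) (nat_lit 1797))
 (.leaf (nat_lit 0x404212901) (nat_lit 1029))
)))) (.node (nat_lit 0x404252801) (.node (nat_lit 0x404242808) (.node (nat_lit 0x404242801) (.leaf (nat_lit 0x404212909) (nat_lit 1541))
 (.leaf (nat_lit 0x404242801) (nat_lit 1795))
) (.node (nat_lit 0x404242901) (.leaf (nat_lit 0x404242808) (nat_lit 1540))
 (.node (nat_lit 0x404242908) (.leaf (nat_lit 0x404242901) (nat_lit 1539))
 (.leaf (nat_lit 0x404242908) (nat_lit 1284))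
))) (.node (nat_lit 0x404252901) (.node (nat_lit 0x404252808) (.leaf (nat_lit 0x404252801) (nat_lit 2053))
 (.leaf (nat_lit 0x404252808) (nat_lit 1797))
) (.node (nat_lit 0x404252908) (.leaf (nat_lit 0x404252901) (nat_lit 1797))
 (.node (nat_lit 0x408102060) (.leaf (nat_lit 0x404252908) (nat_lit 1541))
 (.leaf (nat_lit 0x408102060) (nat_lit 771))
)))))) (.node (nat_lit 0x408912060) (.node (nat_lit 0x408802264) (.node (nat_lit 0x408112260) (.node (nat_lit 0x408102264) (.node (nat_lit 0x408102260) (.leaf (nat_lit 0x408102064) (nat_lit 515))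
 (.leaf (nat_lit 0x408102260) (nat_lit 1795))
) (.node (nat_lit 0x408112060) (.leaf (nat_lit 0x408102264) (nat_lit 1539))
 (.node (nat_lit 0x408112064) (.leaf (nat_lit 0x408112060) (nat_lit 1029))
 (.leaf (nat_lit 0x408112064) (nat_lit 773))
))) (.node (nat_lit 0x408802044) (.node (nat_lit 0x408112264) (.leaf (nat_lit 0x408112260) (nat_lit 2053))
 (.leaf (nat_lit 0x408112264) (nat_lit 1797))
) (.node (nat_lit 0x408802064) (.leaf (nat_lit 0x408802044) (nat_lit 259))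
 (.node (nat_lit 0x408802244) (.leaf (nat_lit 0x408802064) (nat_lit 515))
 (.leaf (nat_lit 0x408802244) (nat_lit 1283))
)))) (.node (nat_lit 0x408902044) (.node (nat_lit 0x408812064) (.node (nat_lit 0x408812044) (.leaf (nat_lit 0x408802264) (nat_lit 1539))
 (.leaf (nat_lit 0x408812044) (nat_lit 517))
) (.node (nat_lit 0x408812244) (.leaf (nat_lit 0x408812064) (nat_lit 773))
 (.node (nat_lit 0x408812264) (.leaf (nat_lit 0x408812244) (nat_lit 1541))
 (.leaf (nat_lit 0x408812264) (nat_lit 1797))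
))) (.node (nat_lit 0x408902244) (.node (nat_lit 0x408902060) (.leaf (nat_lit 0x408902044) (nat_lit 771))
 (.leaf (nat_lit 0x408902060) (nat_lit 771))
) (.node (nat_lit 0x408902260) (.leaf (nat_lit 0x408902244) (nat_lit 1795))
 (.node (nat_lit 0x408912044) (.leaf (nat_lit 0x408902260) (nat_lit 1795))
 (.leaf (nat_lit 0x408912044) (nat_lit 1029))
))))) (.node (nat_lit 0x409112224) (.node (nat_lit 0x409102220) (.node (nat_lit 0x408912260) (.node (nat_lit 0x408912244) (.leaf (nat_lit 0x408912060) (nat_lit 1029))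
 (.leaf (nat_lit 0x408912244) (nat_lit 2053))
) (.node (nat_lit 0x409102060) (.leaf (nat_lit 0x408912260) (nat_lit 2053))
 (.node (nat_lit 0x409102064) (.leaf (nat_lit 0x409102060) (nat_lit 2051))
 (.leaf (nat_lit 0x409102064) (nat_lit 1795))
))) (.node (nat_lit 0x409112060) (.node (nat_lit 0x409102224) (.leaf (nat_lit 0x409102220) (nat_lit 1283))
 (.leaf (nat_lit 0x409102224) (nat_lit 1027))
) (.node (nat_lit 0x409112064) (.leaf (nat_lit 0x409112060) (nat_lit 2309))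
 (.node (nat_lit 0x409112220) (.leaf (nat_lit 0x409112064) (nat_lit 2053))
 (.leaf (nat_lit 0x409112220) (nat_lit 1541))
)))) (.node (nat_lit 0x409812044) (.node (nat_lit 0x409802064) (.node (nat_lit 0x409802044) (.leaf (nat_lit 0x409112224) (nat_lit 1285))
 (.leaf (nat_lit 0x409802044) (nat_lit 1539))
) (.node (nat_lit 0x409802204) (.leaf (nat_lit 0x409802064) (nat_lit 1795))
 (.node (nat_lit 0x409802224) (.leaf (nat_lit 0x409802204) (nat_lit 771))
 (.leaf (nat_lit 0x409802224) (nat_lit 1027))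
))) (.node (nat_lit 0x409812224) (.node (nat_lit 0x409812064) (.leaf (nat_lit 0x409812044) (nat_lit 1797))
 (.node (nat_lit 0x409812204) (.leaf (nat_lit 0x409812064) (nat_lit 2053))
 (.leaf (nat_lit 0x409812204) (nat_lit 1029))
)) (.node (nat_lit 0x409902044) (.leaf (nat_lit 0x409812224) (nat_lit 1285))
 (.node (nat_lit 0x409902060) (.leaf (nat_lit 0x409902044) (nat_lit 2051))
 (.leaf (nat_lit 0x409902060) (nat_lit 2051))
)))))))) (.node (nat_lit 0x484042909) (.node (nat_lit 0x424202801) (.node (nat_lit 0x420212901) (.node (nat_lit 0x420052108) (.node (nat_lit 0x409912220) (.node (nat_lit 0x409912044) (.node (nat_lit 0x409902220) (.leaf (nat_lit 0x409902204) (nat_lit 1283))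
 (.leaf (nat_lit 0x409902220) (nat_lit 1283))
) (.node (nat_lit 0x409912060) (.leaf (nat_lit 0x409912044) (nat_lit 2309))
 (.node (nat_lit 0x409912204) (.leaf (nat_lit 0x409912060) (nat_lit 2309))
 (.leaf (nat_lit 0x409912204) (nat_lit 1541))
))) (.node (nat_lit 0x420042109) (.node (nat_lit 0x420042108) (.leaf (nat_lit 0x409912220) (nat_lit 1541))
 (.leaf (nat_lit 0x420042108) (nat_lit 1283))
) (.node (nat_lit 0x420042908) (.leaf (nat_lit 0x420042109) (nat_lit 772))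
 (.node (nat_lit 0x420042909) (.leaf (nat_lit 0x420042908) (nat_lit 1539))
 (.leaf (nat_lit 0x420042909) (nat_lit 1028))
)))) (.node (nat_lit 0x420202109) (.node (nat_lit 0x420052908) (.node (nat_lit 0x420052109) (.leaf (nat_lit 0x420052108) (nat_lit 1541))
 (.leaf (nat_lit 0x420052109) (nat_lit 1029))
) (.node (nat_lit 0x420052909) (.leaf (nat_lit 0x420052908) (nat_lit 1797))
 (.node (nat_lit 0x420202101) (.leaf (nat_lit 0x420052909) (nat_lit 1285))
 (.leaf (nat_lit 0x420202101) (nat_lit 516))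
))) (.node (nat_lit 0x420202909) (.node (nat_lit 0x420202901) (.leaf (nat_lit 0x420202109) (nat_lit 1027))
 (.leaf (nat_lit 0x420202901) (nat_lit 772))
) (.node (nat_lit 0x420212101) (.leaf (nat_lit 0x420202909) (nat_lit 1283))
 (.node (nat_lit 0x420212109) (.leaf (nat_lit 0x420212101) (nat_lit 773))
 (.leaf (nat_lit 0x420212109) (nat_lit 1285))
))))) (.node (nat_lit 0x424042108) (.node (nat_lit 0x420242908) (.node (nat_lit 0x420242101) (.node (nat_lit 0x420212909) (.leaf (nat_lit 0x420212901) (nat_lit 1029))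
 (.leaf (nat_lit 0x420212909) (nat_lit 1541))
) (.node (nat_lit 0x420242108) (.leaf (nat_lit 0x420242101) (nat_lit 1283))
 (.node (nat_lit 0x420242901) (.leaf (nat_lit 0x420242108) (nat_lit 1028))
 (.leaf (nat_lit 0x420242901) (nat_lit 1539))
))) (.node (nat_lit 0x420252108) (.node (nat_lit 0x420252101) (.leaf (nat_lit 0x420242908) (nat_lit 1284))
 (.leaf (nat_lit 0x420252101) (nat_lit 1541))
) (.node (nat_lit 0x420252901) (.leaf (nat_lit 0x420252108) (nat_lit 1285))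
 (.node (nat_lit 0x420252908) (.leaf (nat_lit 0x420252901) (nat_lit 1797))
 (.leaf (nat_lit 0x420252908) (nat_lit 1541))
)))) (.node (nat_lit 0x424052109) (.node (nat_lit 0x424042808) (.node (nat_lit 0x424042109) (.leaf (nat_lit 0x424042108) (nat_lit 1795))
 (.leaf (nat_lit 0x424042109) (nat_lit 1284))
) (.node (nat_lit 0x424042809) (.leaf (nat_lit 0x424042808) (nat_lit 1795))
 (.node (nat_lit 0x424052108) (.leaf (nat_lit 0x424042809) (nat_lit 1284))
 (.leaf (nat_lit 0x424052108) (nat_lit 2053))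
))) (.node (nat_lit 0x424052809) (.node (nat_lit 0x424052808) (.leaf (nat_lit 0x424052109) (nat_lit 1541))
 (.leaf (nat_lit 0x424052808) (nat_lit 2053))
) (.node (nat_lit 0x424202101) (.leaf (nat_lit 0x424052809) (nat_lit 1541))
 (.node (nat_lit 0x424202109) (.leaf (nat_lit 0x424202101) (nat_lit 1028))
 (.leaf (nat_lit 0x424202109) (nat_lit 1539))
)))))) (.node (nat_lit 0x481110260) (.node (nat_lit 0x424252101) (.node (nat_lit 0x424212809) (.node (nat_lit 0x424212101) (.node (nat_lit 0x424202809) (.leaf (nat_lit 0x424202801) (nat_lit 1028))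
 (.leaf (nat_lit 0x424202809) (nat_lit 1539))
) (.node (nat_lit 0x424212109) (.leaf (nat_lit 0x424212101) (nat_lit 1285))
 (.node (nat_lit 0x424212801) (.leaf (nat_lit 0x424212109) (nat_lit 1797))
 (.leaf (nat_lit 0x424212801) (nat_lit 1285))
))) (.node (nat_lit 0x424242108) (.node (nat_lit 0x424242101) (.leaf (nat_lit 0x424212809) (nat_lit 1797))
 (.leaf (nat_lit 0x424242101) (nat_lit 1795))
) (.node (nat_lit 0x424242801) (.leaf (nat_lit 0x424242108) (nat_lit 1540))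
 (.node (nat_lit 0x424242808) (.leaf (nat_lit 0x424242801) (nat_lit 1795))
 (.leaf (nat_lit 0x424242808) (nat_lit 1540))
)))) (.node (nat_lit 0x481102224) (.node (nat_lit 0x424252801) (.node (nat_lit 0x424252108) (.leaf (nat_lit 0x424252101) (nat_lit 2053))
 (.leaf (nat_lit 0x424252108) (nat_lit 1797))
) (.node (nat_lit 0x424252808) (.leaf (nat_lit 0x424252801) (nat_lit 2053))
 (.node (nat_lit 0x481102220) (.leaf (nat_lit 0x424252808) (nat_lit 1797))
 (.leaf (nat_lit 0x481102220) (nat_lit 2562))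
))) (.node (nat_lit 0x481102264) (.node (nat_lit 0x481102260) (.leaf (nat_lit 0x481102224) (nat_lit 2306))
 (.leaf (nat_lit 0x481102260) (nat_lit 1538))
) (.node (nat_lit 0x481110220) (.leaf (nat_lit 0x481102264) (nat_lit 1282))
 (.node (nat_lit 0x481110224) (.leaf (nat_lit 0x481110220) (nat_lit 2563))
 (.leaf (nat_lit 0x481110224) (nat_lit 2307))
))))) (.node (nat_lit 0x481902204) (.node (nat_lit 0x481802264) (.node (nat_lit 0x481802204) (.node (nat_lit 0x481110264) (.leaf (nat_lit 0x481110260) (nat_lit 1539))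
 (.leaf (nat_lit 0x481110264) (nat_lit 1283))
) (.node (nat_lit 0x481802224) (.leaf (nat_lit 0x481802204) (nat_lit 2050))
 (.node (nat_lit 0x481802244) (.leaf (nat_lit 0x481802224) (nat_lit 2306))
 (.leaf (nat_lit 0x481802244) (nat_lit 1026))
))) (.node (nat_lit 0x481810224) (.node (nat_lit 0x481810204) (.leaf (nat_lit 0x481802264) (nat_lit 1282))
 (.leaf (nat_lit 0x481810204) (nat_lit 2051))
) (.node (nat_lit 0x481810244) (.leaf (nat_lit 0x481810224) (nat_lit 2307))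
 (.node (nat_lit 0x481810264) (.leaf (nat_lit 0x481810244) (nat_lit 1027))
 (.leaf (nat_lit 0x481810264) (nat_lit 1283))
)))) (.node (nat_lit 0x481910220) (.node (nat_lit 0x481902244) (.node (nat_lit 0x481902220) (.leaf (nat_lit 0x481902204) (nat_lit 2562))
 (.leaf (nat_lit 0x481902220) (nat_lit 2562))
) (.node (nat_lit 0x481902260) (.leaf (nat_lit 0x481902244) (nat_lit 1538))
 (.node (nat_lit 0x481910204) (.leaf (nat_lit 0x481902260) (nat_lit 1538))
 (.leaf (nat_lit 0x481910204) (nat_lit 2563))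
))) (.node (nat_lit 0x484042808) (.node (nat_lit 0x481910244) (.leaf (nat_lit 0x481910220) (nat_lit 2563))
 (.node (nat_lit 0x481910260) (.leaf (nat_lit 0x481910244) (nat_lit 1539))
 (.leaf (nat_lit 0x481910260) (nat_lit 1539))
)) (.node (nat_lit 0x484042809) (.leaf (nat_lit 0x484042808) (nat_lit 2306))
 (.node (nat_lit 0x484042908) (.leaf (nat_lit 0x484042809) (nat_lit 1794))
 (.leaf (nat_lit 0x484042908) (nat_lit 2050))
))))))) (.node (nat_lit 0x488902260) (.node (nat_lit 0x484250908) (.node (nat_lit 0x484210809) (.node (nat_lit 0x484202801) (.node (nat_lit 0x484050809) (.node (nat_lit 0x484050808) (.leaf (nat_lit 0x484042909) (nat_lit 1538))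
 (.leaf (nat_lit 0x484050808) (nat_lit 2307))
) (.node (nat_lit 0x484050908) (.leaf (nat_lit 0x484050809) (nat_lit 1796))
 (.node (nat_lit 0x484050909) (.leaf (nat_lit 0x484050908) (nat_lit 2051))
 (.leaf (nat_lit 0x484050909) (nat_lit 1540))
))) (.node (nat_lit 0x484202901) (.node (nat_lit 0x484202809) (.leaf (nat_lit 0x484202801) (nat_lit 1538))
 (.leaf (nat_lit 0x484202809) (nat_lit 2050))
) (.node (nat_lit 0x484202909) (.leaf (nat_lit 0x484202901) (nat_lit 1282))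
 (.node (nat_lit 0x484210801) (.leaf (nat_lit 0x484202909) (nat_lit 1794))
 (.leaf (nat_lit 0x484210801) (nat_lit 1540))
)))) (.node (nat_lit 0x484242901) (.node (nat_lit 0x484210909) (.node (nat_lit 0x484210901) (.leaf (nat_lit 0x484210809) (nat_lit 2051))
 (.leaf (nat_lit 0x484210901) (nat_lit 1284))
) (.node (nat_lit 0x484242801) (.leaf (nat_lit 0x484210909) (nat_lit 1795))
 (.node (nat_lit 0x484242808) (.leaf (nat_lit 0x484242801) (nat_lit 2306))
 (.leaf (nat_lit 0x484242808) (nat_lit 2050))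
))) (.node (nat_lit 0x484250801) (.node (nat_lit 0x484242908) (.leaf (nat_lit 0x484242901) (nat_lit 2050))
 (.leaf (nat_lit 0x484242908) (nat_lit 1794))
) (.node (nat_lit 0x484250808) (.leaf (nat_lit 0x484250801) (nat_lit 2307))
 (.node (nat_lit 0x484250901) (.leaf (nat_lit 0x484250808) (nat_lit 2052))
 (.leaf (nat_lit 0x484250901) (nat_lit 2051))
))))) (.node (nat_lit 0x488802064) (.node (nat_lit 0x488110060) (.node (nat_lit 0x488102064) (.node (nat_lit 0x488102060) (.leaf (nat_lit 0x484250908) (nat_lit 1796))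
 (.leaf (nat_lit 0x488102060) (nat_lit 1282))
) (.node (nat_lit 0x488102260) (.leaf (nat_lit 0x488102064) (nat_lit 1026))
 (.node (nat_lit 0x488102264) (.leaf (nat_lit 0x488102260) (nat_lit 2306))
 (.leaf (nat_lit 0x488102264) (nat_lit 2050))
))) (.node (nat_lit 0x488110260) (.node (nat_lit 0x488110064) (.leaf (nat_lit 0x488110060) (nat_lit 1283))
 (.leaf (nat_lit 0x488110064) (nat_lit 1027))
) (.node (nat_lit 0x488110264) (.leaf (nat_lit 0x488110260) (nat_lit 2307))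
 (.node (nat_lit 0x488802044) (.leaf (nat_lit 0x488110264) (nat_lit 2051))
 (.leaf (nat_lit 0x488802044) (nat_lit 770))
)))) (.node (nat_lit 0x488810244) (.node (nat_lit 0x488802264) (.node (nat_lit 0x488802244) (.leaf (nat_lit 0x488802064) (nat_lit 1026))
 (.leaf (nat_lit 0x488802244) (nat_lit 1794))
) (.node (nat_lit 0x488810044) (.leaf (nat_lit 0x488802264) (nat_lit 2050))
 (.node (nat_lit 0x488810064) (.leaf (nat_lit 0x488810044) (nat_lit 771))
 (.leaf (nat_lit 0x488810064) (nat_lit 1027))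
))) (.node (nat_lit 0x488902044) (.node (nat_lit 0x488810264) (.leaf (nat_lit 0x488810244) (nat_lit 1795))
 (.leaf (nat_lit 0x488810264) (nat_lit 2051))
) (.node (nat_lit 0x488902060) (.leaf (nat_lit 0x488902044) (nat_lit 1282))
 (.node (nat_lit 0x488902244) (.leaf (nat_lit 0x488902060) (nat_lit 1282))
 (.leaf (nat_lit 0x488902244) (nat_lit 2306))
)))))) (.node (nat_lit 0x489810224) (.node (nat_lit 0x489110064) (.node (nat_lit 0x489102060) (.node (nat_lit 0x488910060) (.node (nat_lit 0x488910044) (.leaf (nat_lit 0x488902260) (nat_lit 2306))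
 (.leaf (nat_lit 0x488910044) (nat_lit 1283))
) (.node (nat_lit 0x488910244) (.leaf (nat_lit 0x488910060) (nat_lit 1283))
 (.node (nat_lit 0x488910260) (.leaf (nat_lit 0x488910244) (nat_lit 2307))
 (.leaf (nat_lit 0x488910260) (nat_lit 2307))
))) (.node (nat_lit 0x489102220) (.node (nat_lit 0x489102064) (.leaf (nat_lit 0x489102060) (nat_lit 2562))
 (.leaf (nat_lit 0x489102064) (nat_lit 2306))
) (.node (nat_lit 0x489102224) (.leaf (nat_lit 0x489102220) (nat_lit 1794))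
 (.node (nat_lit 0x489110060) (.leaf (nat_lit 0x489102224) (nat_lit 1538))
 (.leaf (nat_lit 0x489110060) (nat_lit 2563))
)))) (.node (nat_lit 0x489802204) (.node (nat_lit 0x489110224) (.node (nat_lit 0x489110220) (.leaf (nat_lit 0x489110064) (nat_lit 2307))
 (.leaf (nat_lit 0x489110220) (nat_lit 1795))
) (.node (nat_lit 0x489802044) (.leaf (nat_lit 0x489110224) (nat_lit 1539))
 (.node (nat_lit 0x489802064) (.leaf (nat_lit 0x489802044) (nat_lit 2050))
 (.leaf (nat_lit 0x489802064) (nat_lit 2306))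
))) (.node (nat_lit 0x489810044) (.node (nat_lit 0x489802224) (.leaf (nat_lit 0x489802204) (nat_lit 1282))
 (.leaf (nat_lit 0x489802224) (nat_lit 1538))
) (.node (nat_lit 0x489810064) (.leaf (nat_lit 0x489810044) (nat_lit 2051))
 (.node (nat_lit 0x489810204) (.leaf (nat_lit 0x489810064) (nat_lit 2307))
 (.leaf (nat_lit 0x489810204) (nat_lit 1283))
))))) (.node (nat_lit 0x4a0042109) (.node (nat_lit 0x489910044) (.node (nat_lit 0x489902060) (.node (nat_lit 0x489902044) (.leaf (nat_lit 0x489810224) (nat_lit 1539))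
 (.leaf (nat_lit 0x489902044) (nat_lit 2562))
) (.node (nat_lit 0x489902204) (.leaf (nat_lit 0x489902060) (nat_lit 2562))
 (.node (nat_lit 0x489902220) (.leaf (nat_lit 0x489902204) (nat_lit 1794))
 (.leaf (nat_lit 0x489902220) (nat_lit 1794))
))) (.node (nat_lit 0x489910204) (.node (nat_lit 0x489910060) (.leaf (nat_lit 0x489910044) (nat_lit 2563))
 (.leaf (nat_lit 0x489910060) (nat_lit 2563))
) (.node (nat_lit 0x489910220) (.leaf (nat_lit 0x489910204) (nat_lit 1795))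
 (.node (nat_lit 0x4a0042108) (.leaf (nat_lit 0x489910220) (nat_lit 1795))
 (.leaf (nat_lit 0x4a0042108) (nat_lit 1794))
)))) (.node (nat_lit 0x4a0050908) (.node (nat_lit 0x4a0042909) (.node (nat_lit 0x4a0042908) (.leaf (nat_lit 0x4a0042109) (nat_lit 1282))
 (.leaf (nat_lit 0x4a0042908) (nat_lit 2050))
) (.node (nat_lit 0x4a0050108) (.leaf (nat_lit 0x4a0042909) (nat_lit 1538))
 (.node (nat_lit 0x4a0050109) (.leaf (nat_lit 0x4a0050108) (nat_lit 1795))
 (.leaf (nat_lit 0x4a0050109) (nat_lit 1284))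
))) (.node (nat_lit 0x4a0202109) (.node (nat_lit 0x4a0050909) (.leaf (nat_lit 0x4a0050908) (nat_lit 2051))
 (.node (nat_lit 0x4a0202101) (.leaf (nat_lit 0x4a0050909) (nat_lit 1540))
 (.leaf (nat_lit 0x4a0202101) (nat_lit 1026))
)) (.node (nat_lit 0x4a0202901) (.leaf (nat_lit 0x4a0202109) (nat_lit 1538))
 (.node (nat_lit 0x4a0202909) (.leaf (nat_lit 0x4a0202901) (nat_lit 1282))
 (.leaf (nat_lit 0x4a0202909) (nat_lit 1794))
))))))))) (.node (nat_lit 0x812064408) (.node (nat_lit 0x802264408) (.node (nat_lit 0x8010a4210) (.node (nat_lit 0x4a4202101) (.node (nat_lit 0x4a0250901) (.node (nat_lit 0x4a0242108) (.node (nat_lit 0x4a0210901) (.node (nat_lit 0x4a0210109) (.leaf (nat_lit 0x4a0210101) (nat_lit 1028))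
 (.leaf (nat_lit 0x4a0210109) (nat_lit 1539))
) (.node (nat_lit 0x4a0210909) (.leaf (nat_lit 0x4a0210901) (nat_lit 1284))
 (.node (nat_lit 0x4a0242101) (.leaf (nat_lit 0x4a0210909) (nat_lit 1795))
 (.leaf (nat_lit 0x4a0242101) (nat_lit 1794))
))) (.node (nat_lit 0x4a0242908) (.node (nat_lit 0x4a0242901) (.leaf (nat_lit 0x4a0242108) (nat_lit 1538))
 (.leaf (nat_lit 0x4a0242901) (nat_lit 2050))
) (.node (nat_lit 0x4a0250101) (.leaf (nat_lit 0x4a0242908) (nat_lit 1794))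
 (.node (nat_lit 0x4a0250108) (.leaf (nat_lit 0x4a0250101) (nat_lit 1795))
 (.leaf (nat_lit 0x4a0250108) (nat_lit 1540))
)))) (.node (nat_lit 0x4a4042809) (.node (nat_lit 0x4a4042108) (.node (nat_lit 0x4a0250908) (.leaf (nat_lit 0x4a0250901) (nat_lit 2051))
 (.leaf (nat_lit 0x4a0250908) (nat_lit 1796))
) (.node (nat_lit 0x4a4042109) (.leaf (nat_lit 0x4a4042108) (nat_lit 2306))
 (.node (nat_lit 0x4a4042808) (.leaf (nat_lit 0x4a4042109) (nat_lit 1794))
 (.leaf (nat_lit 0x4a4042808) (nat_lit 2306))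
))) (.node (nat_lit 0x4a4050109) (.node (nat_lit 0x4a4050108) (.leaf (nat_lit 0x4a4042809) (nat_lit 1794))
 (.leaf (nat_lit 0x4a4050108) (nat_lit 2307))
) (.node (nat_lit 0x4a4050808) (.leaf (nat_lit 0x4a4050109) (nat_lit 1796))
 (.node (nat_lit 0x4a4050809) (.leaf (nat_lit 0x4a4050808) (nat_lit 2307))
 (.leaf (nat_lit 0x4a4050809) (nat_lit 1796))
))))) (.node (nat_lit 0x4a4242801) (.node (nat_lit 0x4a4210109) (.node (nat_lit 0x4a4202801) (.node (nat_lit 0x4a4202109) (.leaf (nat_lit 0x4a4202101) (nat_lit 1538))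
 (.leaf (nat_lit 0x4a4202109) (nat_lit 2050))
) (.node (nat_lit 0x4a4202809) (.leaf (nat_lit 0x4a4202801) (nat_lit 1538))
 (.node (nat_lit 0x4a4210101) (.leaf (nat_lit 0x4a4202809) (nat_lit 2050))
 (.leaf (nat_lit 0x4a4210101) (nat_lit 1540))
))) (.node (nat_lit 0x4a4210809) (.node (nat_lit 0x4a4210801) (.leaf (nat_lit 0x4a4210109) (nat_lit 2051))
 (.leaf (nat_lit 0x4a4210801) (nat_lit 1540))
) (.node (nat_lit 0x4a4242101) (.leaf (nat_lit 0x4a4210809) (nat_lit 2051))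
 (.node (nat_lit 0x4a4242108) (.leaf (nat_lit 0x4a4242101) (nat_lit 2306))
 (.leaf (nat_lit 0x4a4242108) (nat_lit 2050))
)))) (.node (nat_lit 0x4a4250808) (.node (nat_lit 0x4a4250101) (.node (nat_lit 0x4a4242808) (.leaf (nat_lit 0x4a4242801) (nat_lit 2306))
 (.leaf (nat_lit 0x4a4242808) (nat_lit 2050))
) (.node (nat_lit 0x4a4250108) (.leaf (nat_lit 0x4a4250101) (nat_lit 2307))
 (.node (nat_lit 0x4a4250801) (.leaf (nat_lit 0x4a4250108) (nat_lit 2052))
 (.leaf (nat_lit 0x4a4250801) (nat_lit 2307))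
))) (.node (nat_lit 0x801084212) (.node (nat_lit 0x801084210) (.leaf (nat_lit 0x4a4250808) (nat_lit 2052))
 (.leaf (nat_lit 0x801084210) (nat_lit 2052))
) (.node (nat_lit 0x801084250) (.leaf (nat_lit 0x801084212) (nat_lit 1796))
 (.node (nat_lit 0x801084252) (.leaf (nat_lit 0x801084250) (nat_lit 1539))
 (.leaf (nat_lit 0x801084252) (nat_lit 772))
)))))) (.node (nat_lit 0x802044408) (.node (nat_lit 0x801424242) (.node (nat_lit 0x801404212) (.node (nat_lit 0x8010a4250) (.node (nat_lit 0x8010a4212) (.leaf (nat_lit 0x8010a4210) (nat_lit 2309))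
 (.leaf (nat_lit 0x8010a4212) (nat_lit 2053))
) (.node (nat_lit 0x8010a4252) (.leaf (nat_lit 0x8010a4250) (nat_lit 1797))
 (.node (nat_lit 0x801404202) (.leaf (nat_lit 0x8010a4252) (nat_lit 1029))
 (.leaf (nat_lit 0x801404202) (nat_lit 1540))
))) (.node (nat_lit 0x801404252) (.node (nat_lit 0x801404242) (.leaf (nat_lit 0x801404212) (nat_lit 1796))
 (.leaf (nat_lit 0x801404242) (nat_lit 516))
) (.node (nat_lit 0x801424202) (.leaf (nat_lit 0x801404252) (nat_lit 1283))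
 (.node (nat_lit 0x801424212) (.leaf (nat_lit 0x801424202) (nat_lit 1797))
 (.leaf (nat_lit 0x801424212) (nat_lit 2053))
)))) (.node (nat_lit 0x801484250) (.node (nat_lit 0x801484202) (.node (nat_lit 0x801424252) (.leaf (nat_lit 0x801424242) (nat_lit 773))
 (.leaf (nat_lit 0x801424252) (nat_lit 1541))
) (.node (nat_lit 0x801484210) (.leaf (nat_lit 0x801484202) (nat_lit 2052))
 (.node (nat_lit 0x801484242) (.leaf (nat_lit 0x801484210) (nat_lit 2052))
 (.leaf (nat_lit 0x801484242) (nat_lit 1539))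
))) (.node (nat_lit 0x8014a4210) (.node (nat_lit 0x8014a4202) (.leaf (nat_lit 0x801484250) (nat_lit 1028))
 (.leaf (nat_lit 0x8014a4202) (nat_lit 2309))
) (.node (nat_lit 0x8014a4242) (.leaf (nat_lit 0x8014a4210) (nat_lit 2309))
 (.node (nat_lit 0x8014a4250) (.leaf (nat_lit 0x8014a4242) (nat_lit 1797))
 (.leaf (nat_lit 0x8014a4250) (nat_lit 1285))
))))) (.node (nat_lit 0x802204481) (.node (nat_lit 0x802064409) (.node (nat_lit 0x802044488) (.node (nat_lit 0x802044409) (.leaf (nat_lit 0x802044408) (nat_lit 1795))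
 (.leaf (nat_lit 0x802044409) (nat_lit 1539))
) (.node (nat_lit 0x802044489) (.leaf (nat_lit 0x802044488) (nat_lit 1539))
 (.node (nat_lit 0x802064408) (.leaf (nat_lit 0x802044489) (nat_lit 513))
 (.leaf (nat_lit 0x802064408) (nat_lit 2053))
))) (.node (nat_lit 0x802064489) (.node (nat_lit 0x802064488) (.leaf (nat_lit 0x802064409) (nat_lit 1797))
 (.leaf (nat_lit 0x802064488) (nat_lit 1797))
) (.node (nat_lit 0x802204401) (.leaf (nat_lit 0x802064489) (nat_lit 773))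
 (.node (nat_lit 0x802204409) (.leaf (nat_lit 0x802204401) (nat_lit 1283))
 (.leaf (nat_lit 0x802204409) (nat_lit 1539))
)))) (.node (nat_lit 0x802224489) (.node (nat_lit 0x802224401) (.node (nat_lit 0x802204489) (.leaf (nat_lit 0x802204481) (nat_lit 257))
 (.leaf (nat_lit 0x802204489) (nat_lit 1283))
) (.node (nat_lit 0x802224409) (.leaf (nat_lit 0x802224401) (nat_lit 1541))
 (.node (nat_lit 0x802224481) (.leaf (nat_lit 0x802224409) (nat_lit 1797))
 (.leaf (nat_lit 0x802224481) (nat_lit 517))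
))) (.node (nat_lit 0x802244481) (.node (nat_lit 0x802244401) (.leaf (nat_lit 0x802224489) (nat_lit 1541))
 (.node (nat_lit 0x802244408) (.leaf (nat_lit 0x802244401) (nat_lit 1795))
 (.leaf (nat_lit 0x802244408) (nat_lit 1795))
)) (.node (nat_lit 0x802244488) (.leaf (nat_lit 0x802244481) (nat_lit 1539))
 (.node (nat_lit 0x802264401) (.leaf (nat_lit 0x802244488) (nat_lit 769))
 (.leaf (nat_lit 0x802264401) (nat_lit 2053))
))))))) (.node (nat_lit 0x809424052) (.node (nat_lit 0x808484050) (.node (nat_lit 0x8080a4252) (.node (nat_lit 0x808084250) (.node (nat_lit 0x802264488) (.node (nat_lit 0x802264481) (.leaf (nat_lit 0x802264408) (nat_lit 2053))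
 (.leaf (nat_lit 0x802264481) (nat_lit 1797))
) (.node (nat_lit 0x808084050) (.leaf (nat_lit 0x802264488) (nat_lit 1029))
 (.node (nat_lit 0x808084052) (.leaf (nat_lit 0x808084050) (nat_lit 1283))
 (.leaf (nat_lit 0x808084052) (nat_lit 516))
))) (.node (nat_lit 0x8080a4050) (.node (nat_lit 0x808084252) (.leaf (nat_lit 0x808084250) (nat_lit 1796))
 (.leaf (nat_lit 0x808084252) (nat_lit 1540))
) (.node (nat_lit 0x8080a4052) (.leaf (nat_lit 0x8080a4050) (nat_lit 1541))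
 (.node (nat_lit 0x8080a4250) (.leaf (nat_lit 0x8080a4052) (nat_lit 773))
 (.leaf (nat_lit 0x8080a4250) (nat_lit 2053))
)))) (.node (nat_lit 0x808424042) (.node (nat_lit 0x808404052) (.node (nat_lit 0x808404042) (.leaf (nat_lit 0x8080a4252) (nat_lit 1797))
 (.leaf (nat_lit 0x808404042) (nat_lit 260))
) (.node (nat_lit 0x808404242) (.leaf (nat_lit 0x808404052) (nat_lit 1027))
 (.node (nat_lit 0x808404252) (.leaf (nat_lit 0x808404242) (nat_lit 1284))
 (.leaf (nat_lit 0x808404252) (nat_lit 1540))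
))) (.node (nat_lit 0x808424242) (.node (nat_lit 0x808424052) (.leaf (nat_lit 0x808424042) (nat_lit 517))
 (.leaf (nat_lit 0x808424052) (nat_lit 1285))
) (.node (nat_lit 0x808424252) (.leaf (nat_lit 0x808424242) (nat_lit 1541))
 (.node (nat_lit 0x808484042) (.leaf (nat_lit 0x808424252) (nat_lit 1797))
 (.leaf (nat_lit 0x808484042) (nat_lit 1283))
))))) (.node (nat_lit 0x809084212) (.node (nat_lit 0x8084a4242) (.node (nat_lit 0x808484250) (.node (nat_lit 0x808484242) (.leaf (nat_lit 0x808484050) (nat_lit 772))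
 (.leaf (nat_lit 0x808484242) (nat_lit 1796))
) (.node (nat_lit 0x8084a4042) (.leaf (nat_lit 0x808484250) (nat_lit 1796))
 (.node (nat_lit 0x8084a4050) (.leaf (nat_lit 0x8084a4042) (nat_lit 1541))
 (.leaf (nat_lit 0x8084a4050) (nat_lit 1029))
))) (.node (nat_lit 0x809084050) (.node (nat_lit 0x8084a4250) (.leaf (nat_lit 0x8084a4242) (nat_lit 2053))
 (.leaf (nat_lit 0x8084a4250) (nat_lit 2053))
) (.node (nat_lit 0x809084052) (.leaf (nat_lit 0x809084050) (nat_lit 2052))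
 (.node (nat_lit 0x809084210) (.leaf (nat_lit 0x809084052) (nat_lit 1796))
 (.leaf (nat_lit 0x809084210) (nat_lit 1795))
)))) (.node (nat_lit 0x809404042) (.node (nat_lit 0x8090a4052) (.node (nat_lit 0x8090a4050) (.leaf (nat_lit 0x809084212) (nat_lit 1028))
 (.leaf (nat_lit 0x8090a4050) (nat_lit 2309))
) (.node (nat_lit 0x8090a4210) (.leaf (nat_lit 0x8090a4052) (nat_lit 2053))
 (.node (nat_lit 0x8090a4212) (.leaf (nat_lit 0x8090a4210) (nat_lit 2053))
 (.leaf (nat_lit 0x8090a4212) (nat_lit 1285))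
))) (.node (nat_lit 0x809404202) (.node (nat_lit 0x809404052) (.leaf (nat_lit 0x809404042) (nat_lit 1540))
 (.leaf (nat_lit 0x809404052) (nat_lit 1796))
) (.node (nat_lit 0x809404212) (.leaf (nat_lit 0x809404202) (nat_lit 772))
 (.node (nat_lit 0x809424042) (.leaf (nat_lit 0x809404212) (nat_lit 1539))
 (.leaf (nat_lit 0x809424042) (nat_lit 1797))
)))))) (.node (nat_lit 0x810204089) (.node (nat_lit 0x8094a4210) (.node (nat_lit 0x809484202) (.node (nat_lit 0x809424212) (.node (nat_lit 0x809424202) (.leaf (nat_lit 0x809424052) (nat_lit 2053))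
 (.leaf (nat_lit 0x809424202) (nat_lit 1029))
) (.node (nat_lit 0x809484042) (.leaf (nat_lit 0x809424212) (nat_lit 1797))
 (.node (nat_lit 0x809484050) (.leaf (nat_lit 0x809484042) (nat_lit 2052))
 (.leaf (nat_lit 0x809484050) (nat_lit 2052))
))) (.node (nat_lit 0x8094a4042) (.node (nat_lit 0x809484210) (.leaf (nat_lit 0x809484202) (nat_lit 1795))
 (.leaf (nat_lit 0x809484210) (nat_lit 1284))
) (.node (nat_lit 0x8094a4050) (.leaf (nat_lit 0x8094a4042) (nat_lit 2309))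
 (.node (nat_lit 0x8094a4202) (.leaf (nat_lit 0x8094a4050) (nat_lit 2309))
 (.leaf (nat_lit 0x8094a4202) (nat_lit 2053))
)))) (.node (nat_lit 0x810064088) (.node (nat_lit 0x810044089) (.node (nat_lit 0x810044088) (.leaf (nat_lit 0x8094a4210) (nat_lit 1541))
 (.leaf (nat_lit 0x810044088) (nat_lit 1283))
) (.node (nat_lit 0x810044488) (.leaf (nat_lit 0x810044089) (nat_lit 256))
 (.node (nat_lit 0x810044489) (.leaf (nat_lit 0x810044488) (nat_lit 1539))
 (.leaf (nat_lit 0x810044489) (nat_lit 1283))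
))) (.node (nat_lit 0x810064488) (.node (nat_lit 0x810064089) (.leaf (nat_lit 0x810064088) (nat_lit 1541))
 (.leaf (nat_lit 0x810064089) (nat_lit 517))
) (.node (nat_lit 0x810064489) (.leaf (nat_lit 0x810064488) (nat_lit 1797))
 (.node (nat_lit 0x810204081) (.leaf (nat_lit 0x810064489) (nat_lit 1541))
 (.leaf (nat_lit 0x810204081) (nat_lit 0))
))))) (.node (nat_lit 0x810244488) (.node (nat_lit 0x810224481) (.node (nat_lit 0x810204489) (.node (nat_lit 0x810204481) (.leaf (nat_lit 0x810204089) (nat_lit 1027))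
 (.leaf (nat_lit 0x810204481) (nat_lit 1027))
) (.node (nat_lit 0x810224081) (.leaf (nat_lit 0x810204489) (nat_lit 1283))
 (.node (nat_lit 0x810224089) (.leaf (nat_lit 0x810224081) (nat_lit 261))
 (.leaf (nat_lit 0x810224089) (nat_lit 1285))
))) (.node (nat_lit 0x810244081) (.node (nat_lit 0x810224489) (.leaf (nat_lit 0x810224481) (nat_lit 1285))
 (.leaf (nat_lit 0x810224489) (nat_lit 1541))
) (.node (nat_lit 0x810244088) (.leaf (nat_lit 0x810244081) (nat_lit 1283))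
 (.node (nat_lit 0x810244481) (.leaf (nat_lit 0x810244088) (nat_lit 512))
 (.leaf (nat_lit 0x810244481) (nat_lit 1539))
)))) (.node (nat_lit 0x812044088) (.node (nat_lit 0x810264088) (.node (nat_lit 0x810264081) (.leaf (nat_lit 0x810244488) (nat_lit 1539))
 (.leaf (nat_lit 0x810264081) (nat_lit 1541))
) (.node (nat_lit 0x810264481) (.leaf (nat_lit 0x810264088) (nat_lit 773))
 (.node (nat_lit 0x810264488) (.leaf (nat_lit 0x810264481) (nat_lit 1797))
 (.leaf (nat_lit 0x810264488) (nat_lit 1797))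
))) (.node (nat_lit 0x812044409) (.node (nat_lit 0x812044089) (.leaf (nat_lit 0x812044088) (nat_lit 1795))
 (.node (nat_lit 0x812044408) (.leaf (nat_lit 0x812044089) (nat_lit 1539))
 (.leaf (nat_lit 0x812044408) (nat_lit 1795))
)) (.node (nat_lit 0x812064088) (.leaf (nat_lit 0x812044409) (nat_lit 769))
 (.node (nat_lit 0x812064089) (.leaf (nat_lit 0x812064088) (nat_lit 2053))
 (.leaf (nat_lit 0x812064089) (nat_lit 1797))
)))))))) (.node (nat_lit 0x908420252) (.node (nat_lit 0x9014a0242) (.node (nat_lit 0x901084250) (.node (nat_lit 0x812244081) (.node (nat_lit 0x812204409) (.node (nat_lit 0x812204081) (.node (nat_lit 0x812064409) (.leaf (nat_lit 0x812064408) (nat_lit 2053))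
 (.leaf (nat_lit 0x812064409) (nat_lit 1029))
) (.node (nat_lit 0x812204089) (.leaf (nat_lit 0x812204081) (nat_lit 1283))
 (.node (nat_lit 0x812204401) (.leaf (nat_lit 0x812204089) (nat_lit 1539))
 (.leaf (nat_lit 0x812204401) (nat_lit 513))
))) (.node (nat_lit 0x812224089) (.node (nat_lit 0x812224081) (.leaf (nat_lit 0x812204409) (nat_lit 1539))
 (.leaf (nat_lit 0x812224081) (nat_lit 1541))
) (.node (nat_lit 0x812224401) (.leaf (nat_lit 0x812224089) (nat_lit 1797))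
 (.node (nat_lit 0x812224409) (.leaf (nat_lit 0x812224401) (nat_lit 773))
 (.leaf (nat_lit 0x812224409) (nat_lit 1797))
)))) (.node (nat_lit 0x812264088) (.node (nat_lit 0x812244401) (.node (nat_lit 0x812244088) (.leaf (nat_lit 0x812244081) (nat_lit 1795))
 (.leaf (nat_lit 0x812244088) (nat_lit 1795))
) (.node (nat_lit 0x812244408) (.leaf (nat_lit 0x812244401) (nat_lit 1795))
 (.node (nat_lit 0x812264081) (.leaf (nat_lit 0x812244408) (nat_lit 1025))
 (.leaf (nat_lit 0x812264081) (nat_lit 2053))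
))) (.node (nat_lit 0x812264408) (.node (nat_lit 0x812264401) (.leaf (nat_lit 0x812264088) (nat_lit 2053))
 (.leaf (nat_lit 0x812264401) (nat_lit 2053))
) (.node (nat_lit 0x901084210) (.leaf (nat_lit 0x812264408) (nat_lit 1285))
 (.node (nat_lit 0x901084212) (.leaf (nat_lit 0x901084210) (nat_lit 2562))
 (.leaf (nat_lit 0x901084212) (nat_lit 2306))
))))) (.node (nat_lit 0x901420202) (.node (nat_lit 0x9010a0252) (.node (nat_lit 0x9010a0210) (.node (nat_lit 0x901084252) (.leaf (nat_lit 0x901084250) (nat_lit 2050))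
 (.leaf (nat_lit 0x901084252) (nat_lit 1282))
) (.node (nat_lit 0x9010a0212) (.leaf (nat_lit 0x9010a0210) (nat_lit 2564))
 (.node (nat_lit 0x9010a0250) (.leaf (nat_lit 0x9010a0212) (nat_lit 2308))
 (.leaf (nat_lit 0x9010a0250) (nat_lit 2051))
))) (.node (nat_lit 0x901404212) (.node (nat_lit 0x901404202) (.leaf (nat_lit 0x9010a0252) (nat_lit 1284))
 (.leaf (nat_lit 0x901404202) (nat_lit 2050))
) (.node (nat_lit 0x901404242) (.leaf (nat_lit 0x901404212) (nat_lit 2306))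
 (.node (nat_lit 0x901404252) (.leaf (nat_lit 0x901404242) (nat_lit 1026))
 (.leaf (nat_lit 0x901404252) (nat_lit 1794))
)))) (.node (nat_lit 0x901484210) (.node (nat_lit 0x901420242) (.node (nat_lit 0x901420212) (.leaf (nat_lit 0x901420202) (nat_lit 2052))
 (.leaf (nat_lit 0x901420212) (nat_lit 2308))
) (.node (nat_lit 0x901420252) (.leaf (nat_lit 0x901420242) (nat_lit 1028))
 (.node (nat_lit 0x901484202) (.leaf (nat_lit 0x901420252) (nat_lit 1795))
 (.leaf (nat_lit 0x901484202) (nat_lit 2562))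
))) (.node (nat_lit 0x901484250) (.node (nat_lit 0x901484242) (.leaf (nat_lit 0x901484210) (nat_lit 2562))
 (.leaf (nat_lit 0x901484242) (nat_lit 2050))
) (.node (nat_lit 0x9014a0202) (.leaf (nat_lit 0x901484250) (nat_lit 1538))
 (.node (nat_lit 0x9014a0210) (.leaf (nat_lit 0x9014a0202) (nat_lit 2564))
 (.leaf (nat_lit 0x9014a0210) (nat_lit 2564))
)))))) (.node (nat_lit 0x902244481) (.node (nat_lit 0x902204401) (.node (nat_lit 0x902044489) (.node (nat_lit 0x902044408) (.node (nat_lit 0x9014a0250) (.leaf (nat_lit 0x9014a0242) (nat_lit 2051))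
 (.leaf (nat_lit 0x9014a0250) (nat_lit 1540))
) (.node (nat_lit 0x902044409) (.leaf (nat_lit 0x902044408) (nat_lit 2306))
 (.node (nat_lit 0x902044488) (.leaf (nat_lit 0x902044409) (nat_lit 2050))
 (.leaf (nat_lit 0x902044488) (nat_lit 2050))
))) (.node (nat_lit 0x902060409) (.node (nat_lit 0x902060408) (.leaf (nat_lit 0x902044489) (nat_lit 1026))
 (.leaf (nat_lit 0x902060408) (nat_lit 2307))
) (.node (nat_lit 0x902060488) (.leaf (nat_lit 0x902060409) (nat_lit 2051))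
 (.node (nat_lit 0x902060489) (.leaf (nat_lit 0x902060488) (nat_lit 2051))
 (.leaf (nat_lit 0x902060489) (nat_lit 1026))
)))) (.node (nat_lit 0x902220409) (.node (nat_lit 0x902204481) (.node (nat_lit 0x902204409) (.leaf (nat_lit 0x902204401) (nat_lit 1794))
 (.leaf (nat_lit 0x902204409) (nat_lit 2050))
) (.node (nat_lit 0x902204489) (.leaf (nat_lit 0x902204481) (nat_lit 770))
 (.node (nat_lit 0x902220401) (.leaf (nat_lit 0x902204489) (nat_lit 1794))
 (.leaf (nat_lit 0x902220401) (nat_lit 1795))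
))) (.node (nat_lit 0x902220489) (.node (nat_lit 0x902220481) (.leaf (nat_lit 0x902220409) (nat_lit 2051))
 (.leaf (nat_lit 0x902220481) (nat_lit 770))
) (.node (nat_lit 0x902244401) (.leaf (nat_lit 0x902220489) (nat_lit 1795))
 (.node (nat_lit 0x902244408) (.leaf (nat_lit 0x902244401) (nat_lit 2306))
 (.leaf (nat_lit 0x902244408) (nat_lit 2306))
))))) (.node (nat_lit 0x9080a0050) (.node (nat_lit 0x902260488) (.node (nat_lit 0x902260401) (.node (nat_lit 0x902244488) (.leaf (nat_lit 0x902244481) (nat_lit 2050))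
 (.leaf (nat_lit 0x902244488) (nat_lit 1282))
) (.node (nat_lit 0x902260408) (.leaf (nat_lit 0x902260401) (nat_lit 2307))
 (.node (nat_lit 0x902260481) (.leaf (nat_lit 0x902260408) (nat_lit 2307))
 (.leaf (nat_lit 0x902260481) (nat_lit 2051))
))) (.node (nat_lit 0x908084052) (.node (nat_lit 0x908084050) (.leaf (nat_lit 0x902260488) (nat_lit 1282))
 (.leaf (nat_lit 0x908084050) (nat_lit 1794))
) (.node (nat_lit 0x908084250) (.leaf (nat_lit 0x908084052) (nat_lit 1026))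
 (.node (nat_lit 0x908084252) (.leaf (nat_lit 0x908084250) (nat_lit 2306))
 (.leaf (nat_lit 0x908084252) (nat_lit 2050))
)))) (.node (nat_lit 0x908404052) (.node (nat_lit 0x9080a0250) (.node (nat_lit 0x9080a0052) (.leaf (nat_lit 0x9080a0050) (nat_lit 1795))
 (.leaf (nat_lit 0x9080a0052) (nat_lit 1028))
) (.node (nat_lit 0x9080a0252) (.leaf (nat_lit 0x9080a0250) (nat_lit 2308))
 (.node (nat_lit 0x908404042) (.leaf (nat_lit 0x9080a0252) (nat_lit 2052))
 (.leaf (nat_lit 0x908404042) (nat_lit 770))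
))) (.node (nat_lit 0x908420042) (.node (nat_lit 0x908404242) (.leaf (nat_lit 0x908404052) (nat_lit 1538))
 (.node (nat_lit 0x908404252) (.leaf (nat_lit 0x908404242) (nat_lit 1794))
 (.leaf (nat_lit 0x908404252) (nat_lit 2050))
)) (.node (nat_lit 0x908420052) (.leaf (nat_lit 0x908420042) (nat_lit 772))
 (.node (nat_lit 0x908420242) (.leaf (nat_lit 0x908420052) (nat_lit 1539))
 (.leaf (nat_lit 0x908420242) (nat_lit 1796))
))))))) (.node (nat_lit 0x910060489) (.node (nat_lit 0x909404212) (.node (nat_lit 0x909084052) (.node (nat_lit 0x9084a0042) (.node (nat_lit 0x908484050) (.node (nat_lit 0x908484042) (.leaf (nat_lit 0x908420252) (nat_lit 2052))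
 (.leaf (nat_lit 0x908484042) (nat_lit 1794))
) (.node (nat_lit 0x908484242) (.leaf (nat_lit 0x908484050) (nat_lit 1282))
 (.node (nat_lit 0x908484250) (.leaf (nat_lit 0x908484242) (nat_lit 2306))
 (.leaf (nat_lit 0x908484250) (nat_lit 2306))
))) (.node (nat_lit 0x9084a0242) (.node (nat_lit 0x9084a0050) (.leaf (nat_lit 0x9084a0042) (nat_lit 1795))
 (.leaf (nat_lit 0x9084a0050) (nat_lit 1284))
) (.node (nat_lit 0x9084a0250) (.leaf (nat_lit 0x9084a0242) (nat_lit 2308))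
 (.node (nat_lit 0x909084050) (.leaf (nat_lit 0x9084a0250) (nat_lit 2308))
 (.leaf (nat_lit 0x909084050) (nat_lit 2562))
)))) (.node (nat_lit 0x9090a0210) (.node (nat_lit 0x909084212) (.node (nat_lit 0x909084210) (.leaf (nat_lit 0x909084052) (nat_lit 2306))
 (.leaf (nat_lit 0x909084210) (nat_lit 2306))
) (.node (nat_lit 0x9090a0050) (.leaf (nat_lit 0x909084212) (nat_lit 1538))
 (.node (nat_lit 0x9090a0052) (.leaf (nat_lit 0x9090a0050) (nat_lit 2564))
 (.leaf (nat_lit 0x9090a0052) (nat_lit 2308))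
))) (.node (nat_lit 0x909404042) (.node (nat_lit 0x9090a0212) (.leaf (nat_lit 0x9090a0210) (nat_lit 2307))
 (.leaf (nat_lit 0x9090a0212) (nat_lit 1540))
) (.node (nat_lit 0x909404052) (.leaf (nat_lit 0x909404042) (nat_lit 2050))
 (.node (nat_lit 0x909404202) (.leaf (nat_lit 0x909404052) (nat_lit 2306))
 (.leaf (nat_lit 0x909404202) (nat_lit 1282))
))))) (.node (nat_lit 0x9094a0050) (.node (nat_lit 0x909484042) (.node (nat_lit 0x909420052) (.node (nat_lit 0x909420042) (.leaf (nat_lit 0x909404212) (nat_lit 2050))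
 (.leaf (nat_lit 0x909420042) (nat_lit 2052))
) (.node (nat_lit 0x909420202) (.leaf (nat_lit 0x909420052) (nat_lit 2308))
 (.node (nat_lit 0x909420212) (.leaf (nat_lit 0x909420202) (nat_lit 1284))
 (.leaf (nat_lit 0x909420212) (nat_lit 2051))
))) (.node (nat_lit 0x909484202) (.node (nat_lit 0x909484050) (.leaf (nat_lit 0x909484042) (nat_lit 2562))
 (.leaf (nat_lit 0x909484050) (nat_lit 2562))
) (.node (nat_lit 0x909484210) (.leaf (nat_lit 0x909484202) (nat_lit 2306))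
 (.node (nat_lit 0x9094a0042) (.leaf (nat_lit 0x909484210) (nat_lit 1794))
 (.leaf (nat_lit 0x9094a0042) (nat_lit 2564))
)))) (.node (nat_lit 0x910044488) (.node (nat_lit 0x9094a0210) (.node (nat_lit 0x9094a0202) (.leaf (nat_lit 0x9094a0050) (nat_lit 2564))
 (.leaf (nat_lit 0x9094a0202) (nat_lit 2307))
) (.node (nat_lit 0x910044088) (.leaf (nat_lit 0x9094a0210) (nat_lit 1796))
 (.node (nat_lit 0x910044089) (.leaf (nat_lit 0x910044088) (nat_lit 1794))
 (.leaf (nat_lit 0x910044089) (nat_lit 770))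
))) (.node (nat_lit 0x910060088) (.node (nat_lit 0x910044489) (.leaf (nat_lit 0x910044488) (nat_lit 2050))
 (.leaf (nat_lit 0x910044489) (nat_lit 1794))
) (.node (nat_lit 0x910060089) (.leaf (nat_lit 0x910060088) (nat_lit 1795))
 (.node (nat_lit 0x910060488) (.leaf (nat_lit 0x910060089) (nat_lit 770))
 (.leaf (nat_lit 0x910060488) (nat_lit 2051))
)))))) (.node (nat_lit 0x912044409) (.node (nat_lit 0x910244088) (.node (nat_lit 0x910220081) (.node (nat_lit 0x910204089) (.node (nat_lit 0x910204081) (.leaf (nat_lit 0x910060489) (nat_lit 1795))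
 (.leaf (nat_lit 0x910204081) (nat_lit 514))
) (.node (nat_lit 0x910204481) (.leaf (nat_lit 0x910204089) (nat_lit 1538))
 (.node (nat_lit 0x910204489) (.leaf (nat_lit 0x910204481) (nat_lit 1538))
 (.leaf (nat_lit 0x910204489) (nat_lit 1794))
))) (.node (nat_lit 0x910220481) (.node (nat_lit 0x910220089) (.leaf (nat_lit 0x910220081) (nat_lit 514))
 (.leaf (nat_lit 0x910220089) (nat_lit 1539))
) (.node (nat_lit 0x910220489) (.leaf (nat_lit 0x910220481) (nat_lit 1539))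
 (.node (nat_lit 0x910244081) (.leaf (nat_lit 0x910220489) (nat_lit 1795))
 (.leaf (nat_lit 0x910244081) (nat_lit 1794))
)))) (.node (nat_lit 0x910260481) (.node (nat_lit 0x910244488) (.node (nat_lit 0x910244481) (.leaf (nat_lit 0x910244088) (nat_lit 1026))
 (.leaf (nat_lit 0x910244481) (nat_lit 2050))
) (.node (nat_lit 0x910260081) (.leaf (nat_lit 0x910244488) (nat_lit 2050))
 (.node (nat_lit 0x910260088) (.leaf (nat_lit 0x910260081) (nat_lit 1795))
 (.leaf (nat_lit 0x910260088) (nat_lit 1026))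
))) (.node (nat_lit 0x912044088) (.node (nat_lit 0x910260488) (.leaf (nat_lit 0x910260481) (nat_lit 2051))
 (.leaf (nat_lit 0x910260488) (nat_lit 2051))
) (.node (nat_lit 0x912044089) (.leaf (nat_lit 0x912044088) (nat_lit 2306))
 (.node (nat_lit 0x912044408) (.leaf (nat_lit 0x912044089) (nat_lit 2050))
 (.leaf (nat_lit 0x912044408) (nat_lit 2306))
))))) (.node (nat_lit 0x912220089) (.node (nat_lit 0x912204081) (.node (nat_lit 0x912060089) (.node (nat_lit 0x912060088) (.leaf (nat_lit 0x912044409) (nat_lit 1282))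
 (.leaf (nat_lit 0x912060088) (nat_lit 2307))
) (.node (nat_lit 0x912060408) (.leaf (nat_lit 0x912060089) (nat_lit 2051))
 (.node (nat_lit 0x912060409) (.leaf (nat_lit 0x912060408) (nat_lit 2307))
 (.leaf (nat_lit 0x912060409) (nat_lit 1282))
))) (.node (nat_lit 0x912204401) (.node (nat_lit 0x912204089) (.leaf (nat_lit 0x912204081) (nat_lit 1794))
 (.leaf (nat_lit 0x912204089) (nat_lit 2050))
) (.node (nat_lit 0x912204409) (.leaf (nat_lit 0x912204401) (nat_lit 1026))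
 (.node (nat_lit 0x912220081) (.leaf (nat_lit 0x912204409) (nat_lit 2050))
 (.leaf (nat_lit 0x912220081) (nat_lit 1795))
)))) (.node (nat_lit 0x912244401) (.node (nat_lit 0x912220409) (.node (nat_lit 0x912220401) (.leaf (nat_lit 0x912220089) (nat_lit 2051))
 (.leaf (nat_lit 0x912220401) (nat_lit 1026))
) (.node (nat_lit 0x912244081) (.leaf (nat_lit 0x912220409) (nat_lit 2051))
 (.node (nat_lit 0x912244088) (.leaf (nat_lit 0x912244081) (nat_lit 2306))
 (.leaf (nat_lit 0x912244088) (nat_lit 2306))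
))) (.node (nat_lit 0x912260088) (.node (nat_lit 0x912244408) (.leaf (nat_lit 0x912244401) (nat_lit 2306))
 (.node (nat_lit 0x912260081) (.leaf (nat_lit 0x912244408) (nat_lit 1538))
 (.leaf (nat_lit 0x912260081) (nat_lit 2307))
)) (.node (nat_lit 0x912260401) (.leaf (nat_lit 0x912260088) (nat_lit 2307))
 (.node (nat_lit 0x912260408) (.leaf (nat_lit 0x912260401) (nat_lit 2307))
 (.leaf (nat_lit 0x912260408) (nat_lit 1538))
)))))))))))

theorem N_ok : genOK B6.A [(nat_lit 0x810044089), (nat_lit 0x802204481), (nat_lit 0x110224081), (nat_lit 0x408802044), (nat_lit 0x808404042), (nat_lit 0x810224081)] N_t (nat_lit 1296) = true := by decide +kernel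

noncomputable def S_t : ST :=
(.node (nat_lit 0x260408102) (.node (nat_lit 0x102264488) (.node (nat_lit 0x81812244) (.node (nat_lit 0x60489110) (.node (nat_lit 0x44489910) (.node (nat_lit 0x44409902) (.leaf (nat_lit 0x44089912) (nat_lit 1283))
 (.leaf (nat_lit 0x44409902) (nat_lit 1027))
) (.node (nat_lit 0x60089112) (.leaf (nat_lit 0x44489910) (nat_lit 1539))
 (.node (nat_lit 0x60409102) (.leaf (nat_lit 0x60089112) (nat_lit 1027))
 (.leaf (nat_lit 0x60409102) (nat_lit 771))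
))) (.node (nat_lit 0x64409802) (.node (nat_lit 0x64089812) (.leaf (nat_lit 0x60489110) (nat_lit 1283))
 (.leaf (nat_lit 0x64089812) (nat_lit 1539))
) (.node (nat_lit 0x64489810) (.leaf (nat_lit 0x64409802) (nat_lit 1283))
 (.node (nat_lit 0x81112264) (.leaf (nat_lit 0x64489810) (nat_lit 1795))
 (.leaf (nat_lit 0x81112264) (nat_lit 1027))
)))) (.node (nat_lit 0x89112224) (.node (nat_lit 0x88112064) (.node (nat_lit 0x81912260) (.leaf (nat_lit 0x81812244) (nat_lit 771))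
 (.leaf (nat_lit 0x81912260) (nat_lit 1283))
) (.node (nat_lit 0x88812044) (.leaf (nat_lit 0x88112064) (nat_lit 771))
 (.node (nat_lit 0x88912060) (.leaf (nat_lit 0x88812044) (nat_lit 515))
 (.leaf (nat_lit 0x88912060) (nat_lit 1027))
))) (.node (nat_lit 0x89912220) (.node (nat_lit 0x89812204) (.leaf (nat_lit 0x89112224) (nat_lit 1283))
 (.leaf (nat_lit 0x89812204) (nat_lit 1027))
) (.node (nat_lit 0x102064489) (.leaf (nat_lit 0x89912220) (nat_lit 1539))
 (.node (nat_lit 0x102224481) (.leaf (nat_lit 0x102064489) (nat_lit 770))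
 (.leaf (nat_lit 0x102224481) (nat_lit 514))
))))) (.node (nat_lit 0x220081112) (.node (nat_lit 0x112224401) (.node (nat_lit 0x110224081) (.node (nat_lit 0x110064089) (.leaf (nat_lit 0x102264488) (nat_lit 1026))
 (.leaf (nat_lit 0x110064089) (nat_lit 514))
) (.node (nat_lit 0x110264088) (.leaf (nat_lit 0x110224081) (nat_lit 258))
 (.node (nat_lit 0x112064409) (.leaf (nat_lit 0x110264088) (nat_lit 770))
 (.leaf (nat_lit 0x112064409) (nat_lit 1026))
))) (.node (nat_lit 0x204081912) (.node (nat_lit 0x112264408) (.leaf (nat_lit 0x112224401) (nat_lit 770))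
 (.leaf (nat_lit 0x112264408) (nat_lit 1282))
) (.node (nat_lit 0x204401902) (.leaf (nat_lit 0x204081912) (nat_lit 1027))
 (.node (nat_lit 0x204481910) (.leaf (nat_lit 0x204401902) (nat_lit 771))
 (.leaf (nat_lit 0x204481910) (nat_lit 1283))
)))) (.node (nat_lit 0x224481810) (.node (nat_lit 0x220481110) (.node (nat_lit 0x220401102) (.leaf (nat_lit 0x220081112) (nat_lit 771))
 (.leaf (nat_lit 0x220401102) (nat_lit 515))
) (.node (nat_lit 0x224081812) (.leaf (nat_lit 0x220481110) (nat_lit 1027))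
 (.node (nat_lit 0x224401802) (.leaf (nat_lit 0x224081812) (nat_lit 1283))
 (.leaf (nat_lit 0x224401802) (nat_lit 1027))
))) (.node (nat_lit 0x244408902) (.node (nat_lit 0x244088912) (.leaf (nat_lit 0x224481810) (nat_lit 1539))
 (.leaf (nat_lit 0x244088912) (nat_lit 1539))
) (.node (nat_lit 0x244488910) (.leaf (nat_lit 0x244408902) (nat_lit 1283))
 (.node (nat_lit 0x260088112) (.leaf (nat_lit 0x244488910) (nat_lit 1795))
 (.leaf (nat_lit 0x260088112) (nat_lit 1283))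
)))))) (.node (nat_lit 0x489110224) (.node (nat_lit 0x408902060) (.node (nat_lit 0x401102264) (.node (nat_lit 0x264088812) (.node (nat_lit 0x260488110) (.leaf (nat_lit 0x260408102) (nat_lit 1027))
 (.leaf (nat_lit 0x260488110) (nat_lit 1539))
) (.node (nat_lit 0x264408802) (.leaf (nat_lit 0x264088812) (nat_lit 1795))
 (.node (nat_lit 0x264488810) (.leaf (nat_lit 0x264408802) (nat_lit 1539))
 (.leaf (nat_lit 0x264488810) (nat_lit 2051))
))) (.node (nat_lit 0x401902260) (.node (nat_lit 0x401802244) (.leaf (nat_lit 0x401102264) (nat_lit 771))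
 (.leaf (nat_lit 0x401802244) (nat_lit 515))
) (.node (nat_lit 0x408102064) (.leaf (nat_lit 0x401902260) (nat_lit 1027))
 (.node (nat_lit 0x408802044) (.leaf (nat_lit 0x408102064) (nat_lit 515))
 (.leaf (nat_lit 0x408802044) (nat_lit 259))
)))) (.node (nat_lit 0x481810244) (.node (nat_lit 0x409802204) (.node (nat_lit 0x409102224) (.leaf (nat_lit 0x408902060) (nat_lit 771))
 (.leaf (nat_lit 0x409102224) (nat_lit 1027))
) (.node (nat_lit 0x409902220) (.leaf (nat_lit 0x409802204) (nat_lit 771))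
 (.node (nat_lit 0x481110264) (.leaf (nat_lit 0x409902220) (nat_lit 1283))
 (.leaf (nat_lit 0x481110264) (nat_lit 1283))
))) (.node (nat_lit 0x488110064) (.node (nat_lit 0x481910260) (.leaf (nat_lit 0x481810244) (nat_lit 1027))
 (.leaf (nat_lit 0x481910260) (nat_lit 1539))
) (.node (nat_lit 0x488810044) (.leaf (nat_lit 0x488110064) (nat_lit 1027))
 (.node (nat_lit 0x488910060) (.leaf (nat_lit 0x488810044) (nat_lit 771))
 (.leaf (nat_lit 0x488910060) (nat_lit 1283))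
))))) (.node (nat_lit 0x812204401) (.node (nat_lit 0x802244488) (.node (nat_lit 0x489910220) (.node (nat_lit 0x489810204) (.leaf (nat_lit 0x489110224) (nat_lit 1539))
 (.leaf (nat_lit 0x489810204) (nat_lit 1283))
) (.node (nat_lit 0x802044489) (.leaf (nat_lit 0x489910220) (nat_lit 1795))
 (.node (nat_lit 0x802204481) (.leaf (nat_lit 0x802044489) (nat_lit 513))
 (.leaf (nat_lit 0x802204481) (nat_lit 257))
))) (.node (nat_lit 0x810204081) (.node (nat_lit 0x810044089) (.leaf (nat_lit 0x802244488) (nat_lit 769))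
 (.leaf (nat_lit 0x810044089) (nat_lit 256))
) (.node (nat_lit 0x810244088) (.leaf (nat_lit 0x810204081) (nat_lit 0))
 (.node (nat_lit 0x812044409) (.leaf (nat_lit 0x810244088) (nat_lit 512))
 (.leaf (nat_lit 0x812044409) (nat_lit 769))
)))) (.node (nat_lit 0x910060089) (.node (nat_lit 0x902060489) (.node (nat_lit 0x812244408) (.leaf (nat_lit 0x812204401) (nat_lit 513))
 (.leaf (nat_lit 0x812244408) (nat_lit 1025))
) (.node (nat_lit 0x902220481) (.leaf (nat_lit 0x902060489) (nat_lit 1026))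
 (.node (nat_lit 0x902260488) (.leaf (nat_lit 0x902220481) (nat_lit 770))
 (.leaf (nat_lit 0x902260488) (nat_lit 1282))
))) (.node (nat_lit 0x912060409) (.node (nat_lit 0x910220081) (.leaf (nat_lit 0x910060089) (nat_lit 770))
 (.node (nat_lit 0x910260088) (.leaf (nat_lit 0x910220081) (nat_lit 514))
 (.leaf (nat_lit 0x910260088) (nat_lit 1026))
)) (.node (nat_lit 0x912220401) (.leaf (nat_lit 0x912060409) (nat_lit 1282))
 (.node (nat_lit 0x912260408) (.leaf (nat_lit 0x912220401) (nat_lit 1026))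
 (.leaf (nat_lit 0x912260408) (nat_lit 1538))
)))))))

theorem S_ok : genOK B6.A [(nat_lit 0x810044089), (nat_lit 0x802204481), (nat_lit 0x110224081), (nat_lit 0x408802044)] S_t (nat_lit 81) = true := by decide +kernel

noncomputable def CC_t : ST :=
(.node (nat_lit 0x9010a0252) (.node (nat_lit 0x481110264) (.node (nat_lit 0x212101424) (.node (nat_lit 0x102224481) (.node (nat_lit 0x81912260) (.node (nat_lit 0x52809404) (.node (nat_lit 0x44489910) (.node (nat_lit 0x429094a0) (.node (nat_lit 0x42809484) (.leaf (nat_lit 0x421094a4) (nat_lit 1283))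
 (.leaf (nat_lit 0x42809484) (nat_lit 1027))
) (.node (nat_lit 0x44089912) (.leaf (nat_lit 0x429094a0) (nat_lit 1539))
 (.node (nat_lit 0x44409902) (.leaf (nat_lit 0x44089912) (nat_lit 1283))
 (.leaf (nat_lit 0x44409902) (nat_lit 1027))
))) (.node (nat_lit 0x50809084) (.node (nat_lit 0x501090a4) (.leaf (nat_lit 0x44489910) (nat_lit 1539))
 (.leaf (nat_lit 0x501090a4) (nat_lit 1027))
) (.node (nat_lit 0x509090a0) (.leaf (nat_lit 0x50809084) (nat_lit 771))
 (.node (nat_lit 0x52109424) (.leaf (nat_lit 0x509090a0) (nat_lit 1283))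
 (.leaf (nat_lit 0x52109424) (nat_lit 1283))
)))) (.node (nat_lit 0x64089812) (.node (nat_lit 0x60089112) (.node (nat_lit 0x52909420) (.leaf (nat_lit 0x52809404) (nat_lit 1027))
 (.leaf (nat_lit 0x52909420) (nat_lit 1285))
) (.node (nat_lit 0x60409102) (.leaf (nat_lit 0x60089112) (nat_lit 1027))
 (.node (nat_lit 0x60489110) (.leaf (nat_lit 0x60409102) (nat_lit 771))
 (.leaf (nat_lit 0x60489110) (nat_lit 1283))
))) (.node (nat_lit 0x64489810) (.node (nat_lit 0x64409802) (.leaf (nat_lit 0x64089812) (nat_lit 1539))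
 (.leaf (nat_lit 0x64409802) (nat_lit 1283))
) (.node (nat_lit 0x81112264) (.leaf (nat_lit 0x64489810) (nat_lit 1541))
 (.node (nat_lit 0x81812244) (.leaf (nat_lit 0x81112264) (nat_lit 1027))
 (.leaf (nat_lit 0x81812244) (nat_lit 771))
))))) (.node (nat_lit 0xa0052109) (.node (nat_lit 0x88812044) (.node (nat_lit 0x84212901) (.node (nat_lit 0x84052909) (.leaf (nat_lit 0x81912260) (nat_lit 1283))
 (.leaf (nat_lit 0x84052909) (nat_lit 1284))
) (.node (nat_lit 0x84252908) (.leaf (nat_lit 0x84212901) (nat_lit 1028))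
 (.node (nat_lit 0x88112064) (.leaf (nat_lit 0x84252908) (nat_lit 1285))
 (.leaf (nat_lit 0x88112064) (nat_lit 771))
))) (.node (nat_lit 0x89112224) (.node (nat_lit 0x88912060) (.leaf (nat_lit 0x88812044) (nat_lit 515))
 (.leaf (nat_lit 0x88912060) (nat_lit 1027))
) (.node (nat_lit 0x89812204) (.leaf (nat_lit 0x89112224) (nat_lit 1283))
 (.node (nat_lit 0x89912220) (.leaf (nat_lit 0x89812204) (nat_lit 1027))
 (.leaf (nat_lit 0x89912220) (nat_lit 1539))
)))) (.node (nat_lit 0xa4252808) (.node (nat_lit 0xa0252108) (.node (nat_lit 0xa0212101) (.leaf (nat_lit 0xa0052109) (nat_lit 1028))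
 (.leaf (nat_lit 0xa0212101) (nat_lit 772))
) (.node (nat_lit 0xa4052809) (.leaf (nat_lit 0xa0252108) (nat_lit 1284))
 (.node (nat_lit 0xa4212801) (.leaf (nat_lit 0xa4052809) (nat_lit 1540))
 (.leaf (nat_lit 0xa4212801) (nat_lit 1284))
))) (.node (nat_lit 0x101424242) (.node (nat_lit 0x1010a4252) (.leaf (nat_lit 0xa4252808) (nat_lit 1285))
 (.leaf (nat_lit 0x1010a4252) (nat_lit 1028))
) (.node (nat_lit 0x1014a4250) (.leaf (nat_lit 0x101424242) (nat_lit 772))
 (.node (nat_lit 0x102064489) (.leaf (nat_lit 0x1014a4250) (nat_lit 1029))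
 (.leaf (nat_lit 0x102064489) (nat_lit 770))
)))))) (.node (nat_lit 0x1eb77f7ae) (.node (nat_lit 0x110264088) (.node (nat_lit 0x1090a4212) (.node (nat_lit 0x1080a4052) (.node (nat_lit 0x102264488) (.leaf (nat_lit 0x102224481) (nat_lit 514))
 (.leaf (nat_lit 0x102264488) (nat_lit 1026))
) (.node (nat_lit 0x108424042) (.leaf (nat_lit 0x1080a4052) (nat_lit 772))
 (.node (nat_lit 0x1084a4050) (.leaf (nat_lit 0x108424042) (nat_lit 516))
 (.leaf (nat_lit 0x1084a4050) (nat_lit 1028))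
))) (.node (nat_lit 0x1094a4210) (.node (nat_lit 0x109424202) (.leaf (nat_lit 0x1090a4212) (nat_lit 1284))
 (.leaf (nat_lit 0x109424202) (nat_lit 1028))
) (.node (nat_lit 0x110064089) (.leaf (nat_lit 0x1094a4210) (nat_lit 1285))
 (.node (nat_lit 0x110224081) (.leaf (nat_lit 0x110064089) (nat_lit 514))
 (.leaf (nat_lit 0x110224081) (nat_lit 258))
)))) (.node (nat_lit 0x1ddaffb9e) (.node (nat_lit 0x112224401) (.node (nat_lit 0x112064409) (.leaf (nat_lit 0x110264088) (nat_lit 770))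
 (.leaf (nat_lit 0x112064409) (nat_lit 1026))
) (.node (nat_lit 0x112264408) (.leaf (nat_lit 0x112224401) (nat_lit 770))
 (.node (nat_lit 0x1dd7bfbb5) (.leaf (nat_lit 0x112264408) (nat_lit 1282))
 (.leaf (nat_lit 0x1dd7bfbb5) (nat_lit 1029))
))) (.node (nat_lit 0x1de77fd6e) (.node (nat_lit 0x1ddd7fbab) (.leaf (nat_lit 0x1ddaffb9e) (nat_lit 770))
 (.leaf (nat_lit 0x1ddd7fbab) (nat_lit 770))
) (.node (nat_lit 0x1debbfd73) (.leaf (nat_lit 0x1de77fd6e) (nat_lit 1285))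
 (.node (nat_lit 0x1decffd5d) (.leaf (nat_lit 0x1debbfd73) (nat_lit 1026))
 (.leaf (nat_lit 0x1decffd5d) (nat_lit 1026))
))))) (.node (nat_lit 0x1f5bbfaf3) (.node (nat_lit 0x1eed7fceb) (.node (nat_lit 0x1ebcff79d) (.node (nat_lit 0x1ebbbf7b3) (.leaf (nat_lit 0x1eb77f7ae) (nat_lit 1026))
 (.leaf (nat_lit 0x1ebbbf7b3) (nat_lit 1282))
) (.node (nat_lit 0x1ee7bfcf5) (.leaf (nat_lit 0x1ebcff79d) (nat_lit 770))
 (.node (nat_lit 0x1eeaffcde) (.leaf (nat_lit 0x1ee7bfcf5) (nat_lit 1026))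
 (.leaf (nat_lit 0x1eeaffcde) (nat_lit 1026))
))) (.node (nat_lit 0x1f3aff75e) (.node (nat_lit 0x1f37bf775) (.leaf (nat_lit 0x1eed7fceb) (nat_lit 1026))
 (.leaf (nat_lit 0x1f37bf775) (nat_lit 770))
) (.node (nat_lit 0x1f3d7f76b) (.leaf (nat_lit 0x1f3aff75e) (nat_lit 514))
 (.node (nat_lit 0x1f577faee) (.leaf (nat_lit 0x1f3d7f76b) (nat_lit 1026))
 (.leaf (nat_lit 0x1f577faee) (nat_lit 1026))
)))) (.node (nat_lit 0x204081912) (.node (nat_lit 0x2021014a4) (.node (nat_lit 0x1f5cffadd) (.leaf (nat_lit 0x1f5bbfaf3) (nat_lit 1282))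
 (.leaf (nat_lit 0x1f5cffadd) (nat_lit 1282))
) (.node (nat_lit 0x202801484) (.leaf (nat_lit 0x2021014a4) (nat_lit 1027))
 (.node (nat_lit 0x2029014a0) (.leaf (nat_lit 0x202801484) (nat_lit 771))
 (.leaf (nat_lit 0x2029014a0) (nat_lit 1283))
))) (.node (nat_lit 0x2101010a4) (.node (nat_lit 0x204401902) (.leaf (nat_lit 0x204081912) (nat_lit 1027))
 (.node (nat_lit 0x204481910) (.leaf (nat_lit 0x204401902) (nat_lit 771))
 (.leaf (nat_lit 0x204481910) (nat_lit 1283))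
)) (.node (nat_lit 0x210801084) (.leaf (nat_lit 0x2101010a4) (nat_lit 771))
 (.node (nat_lit 0x2109010a0) (.leaf (nat_lit 0x210801084) (nat_lit 515))
 (.leaf (nat_lit 0x2109010a0) (nat_lit 1027))
))))))) (.node (nat_lit 0x3ba8f755f) (.node (nat_lit 0x252908420) (.node (nat_lit 0x242808484) (.node (nat_lit 0x220481110) (.node (nat_lit 0x212901420) (.node (nat_lit 0x212801404) (.leaf (nat_lit 0x212101424) (nat_lit 1283))
 (.leaf (nat_lit 0x212801404) (nat_lit 1027))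
) (.node (nat_lit 0x220081112) (.leaf (nat_lit 0x212901420) (nat_lit 1541))
 (.node (nat_lit 0x220401102) (.leaf (nat_lit 0x220081112) (nat_lit 771))
 (.leaf (nat_lit 0x220401102) (nat_lit 515))
))) (.node (nat_lit 0x224401802) (.node (nat_lit 0x224081812) (.leaf (nat_lit 0x220481110) (nat_lit 1027))
 (.leaf (nat_lit 0x224081812) (nat_lit 1283))
) (.node (nat_lit 0x224481810) (.leaf (nat_lit 0x224401802) (nat_lit 1027))
 (.node (nat_lit 0x2421084a4) (.leaf (nat_lit 0x224481810) (nat_lit 1539))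
 (.leaf (nat_lit 0x2421084a4) (nat_lit 1539))
)))) (.node (nat_lit 0x2501080a4) (.node (nat_lit 0x244088912) (.node (nat_lit 0x2429084a0) (.leaf (nat_lit 0x242808484) (nat_lit 1283))
 (.leaf (nat_lit 0x2429084a0) (nat_lit 1541))
) (.node (nat_lit 0x244408902) (.leaf (nat_lit 0x244088912) (nat_lit 1539))
 (.node (nat_lit 0x244488910) (.leaf (nat_lit 0x244408902) (nat_lit 1283))
 (.leaf (nat_lit 0x244488910) (nat_lit 1541))
))) (.node (nat_lit 0x2509080a0) (.node (nat_lit 0x250808084) (.leaf (nat_lit 0x2501080a4) (nat_lit 1283))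
 (.leaf (nat_lit 0x250808084) (nat_lit 1027))
) (.node (nat_lit 0x252108424) (.leaf (nat_lit 0x2509080a0) (nat_lit 1539))
 (.node (nat_lit 0x252808404) (.leaf (nat_lit 0x252108424) (nat_lit 1285))
 (.leaf (nat_lit 0x252808404) (nat_lit 1283))
))))) (.node (nat_lit 0x39f577f2f) (.node (nat_lit 0x264408802) (.node (nat_lit 0x260408102) (.node (nat_lit 0x260088112) (.leaf (nat_lit 0x252908420) (nat_lit 1285))
 (.leaf (nat_lit 0x260088112) (nat_lit 1283))
) (.node (nat_lit 0x260488110) (.leaf (nat_lit 0x260408102) (nat_lit 1027))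
 (.node (nat_lit 0x264088812) (.leaf (nat_lit 0x260488110) (nat_lit 1539))
 (.leaf (nat_lit 0x264088812) (nat_lit 1795))
))) (.node (nat_lit 0x3957f7bfc) (.node (nat_lit 0x264488810) (.leaf (nat_lit 0x264408802) (nat_lit 1539))
 (.leaf (nat_lit 0x264488810) (nat_lit 1541))
) (.node (nat_lit 0x3958f7bdf) (.leaf (nat_lit 0x3957f7bfc) (nat_lit 773))
 (.node (nat_lit 0x395f37be3) (.leaf (nat_lit 0x3958f7bdf) (nat_lit 773))
 (.leaf (nat_lit 0x395f37be3) (nat_lit 1024))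
)))) (.node (nat_lit 0x3a3eb77d5) (.node (nat_lit 0x39feb7f15) (.node (nat_lit 0x39fbf7f3a) (.leaf (nat_lit 0x39f577f2f) (nat_lit 1029))
 (.leaf (nat_lit 0x39fbf7f3a) (nat_lit 1280))
) (.node (nat_lit 0x3a35777ef) (.leaf (nat_lit 0x39feb7f15) (nat_lit 1285))
 (.node (nat_lit 0x3a3bf77fa) (.leaf (nat_lit 0x3a35777ef) (nat_lit 1029))
 (.leaf (nat_lit 0x3a3bf77fa) (nat_lit 1285))
))) (.node (nat_lit 0x3af8f7e9f) (.node (nat_lit 0x3af7f7ebc) (.leaf (nat_lit 0x3a3eb77d5) (nat_lit 1282))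
 (.leaf (nat_lit 0x3af7f7ebc) (nat_lit 1025))
) (.node (nat_lit 0x3aff37ea3) (.leaf (nat_lit 0x3af8f7e9f) (nat_lit 1029))
 (.node (nat_lit 0x3ba7f757c) (.leaf (nat_lit 0x3aff37ea3) (nat_lit 1029))
 (.leaf (nat_lit 0x3ba7f757c) (nat_lit 1282))
)))))) (.node (nat_lit 0x3fd73eaa7) (.node (nat_lit 0x3dcf7e9ea) (.node (nat_lit 0x3d773ef67) (.node (nat_lit 0x3bc5778ef) (.node (nat_lit 0x3baf37563) (.leaf (nat_lit 0x3ba8f755f) (nat_lit 1026))
 (.leaf (nat_lit 0x3baf37563) (nat_lit 1285))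
) (.node (nat_lit 0x3bcbf78fa) (.leaf (nat_lit 0x3bc5778ef) (nat_lit 1281))
 (.node (nat_lit 0x3bceb78d5) (.leaf (nat_lit 0x3bcbf78fa) (nat_lit 1285))
 (.leaf (nat_lit 0x3bceb78d5) (nat_lit 1285))
))) (.node (nat_lit 0x3d7efef5c) (.node (nat_lit 0x3d79fef7b) (.leaf (nat_lit 0x3d773ef67) (nat_lit 1027))
 (.leaf (nat_lit 0x3d79fef7b) (nat_lit 1282))
) (.node (nat_lit 0x3dc5fe9fd) (.leaf (nat_lit 0x3d7efef5c) (nat_lit 1282))
 (.node (nat_lit 0x3dcabe9d7) (.leaf (nat_lit 0x3dc5fe9fd) (nat_lit 1027))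
 (.leaf (nat_lit 0x3dcabe9d7) (nat_lit 1026))
)))) (.node (nat_lit 0x3ea9fe5fb) (.node (nat_lit 0x3e7abeed7) (.node (nat_lit 0x3e75feefd) (.leaf (nat_lit 0x3dcf7e9ea) (nat_lit 1026))
 (.leaf (nat_lit 0x3e75feefd) (nat_lit 1282))
) (.node (nat_lit 0x3e7f7eeea) (.leaf (nat_lit 0x3e7abeed7) (nat_lit 1027))
 (.node (nat_lit 0x3ea73e5e7) (.leaf (nat_lit 0x3e7f7eeea) (nat_lit 1282))
 (.leaf (nat_lit 0x3ea73e5e7) (nat_lit 1282))
))) (.node (nat_lit 0x3fb5fe73d) (.node (nat_lit 0x3eaefe5dc) (.leaf (nat_lit 0x3ea9fe5fb) (nat_lit 1284))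
 (.leaf (nat_lit 0x3eaefe5dc) (nat_lit 1026))
) (.node (nat_lit 0x3fbabe717) (.leaf (nat_lit 0x3fb5fe73d) (nat_lit 1026))
 (.node (nat_lit 0x3fbf7e72a) (.leaf (nat_lit 0x3fbabe717) (nat_lit 770))
 (.leaf (nat_lit 0x3fbf7e72a) (nat_lit 1282))
))))) (.node (nat_lit 0x408802044) (.node (nat_lit 0x401902260) (.node (nat_lit 0x3fdefea9c) (.node (nat_lit 0x3fd9feabb) (.leaf (nat_lit 0x3fd73eaa7) (nat_lit 1282))
 (.leaf (nat_lit 0x3fd9feabb) (nat_lit 1538))
) (.node (nat_lit 0x401102264) (.leaf (nat_lit 0x3fdefea9c) (nat_lit 1538))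
 (.node (nat_lit 0x401802244) (.leaf (nat_lit 0x401102264) (nat_lit 771))
 (.leaf (nat_lit 0x401802244) (nat_lit 515))
))) (.node (nat_lit 0x404202901) (.node (nat_lit 0x404042909) (.leaf (nat_lit 0x401902260) (nat_lit 1027))
 (.leaf (nat_lit 0x404042909) (nat_lit 1028))
) (.node (nat_lit 0x404242908) (.leaf (nat_lit 0x404202901) (nat_lit 772))
 (.node (nat_lit 0x408102064) (.leaf (nat_lit 0x404242908) (nat_lit 1029))
 (.leaf (nat_lit 0x408102064) (nat_lit 515))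
)))) (.node (nat_lit 0x420042109) (.node (nat_lit 0x409102224) (.node (nat_lit 0x408902060) (.leaf (nat_lit 0x408802044) (nat_lit 259))
 (.leaf (nat_lit 0x408902060) (nat_lit 771))
) (.node (nat_lit 0x409802204) (.leaf (nat_lit 0x409102224) (nat_lit 1027))
 (.node (nat_lit 0x409902220) (.leaf (nat_lit 0x409802204) (nat_lit 771))
 (.leaf (nat_lit 0x409902220) (nat_lit 1283))
))) (.node (nat_lit 0x424042809) (.node (nat_lit 0x420202101) (.leaf (nat_lit 0x420042109) (nat_lit 772))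
 (.node (nat_lit 0x420242108) (.leaf (nat_lit 0x420202101) (nat_lit 516))
 (.leaf (nat_lit 0x420242108) (nat_lit 1028))
)) (.node (nat_lit 0x424202801) (.leaf (nat_lit 0x424042809) (nat_lit 1284))
 (.node (nat_lit 0x424242808) (.leaf (nat_lit 0x424202801) (nat_lit 1028))
 (.leaf (nat_lit 0x424242808) (nat_lit 1285))
)))))))) (.node (nat_lit 0x7751eeaff) (.node (nat_lit 0x5dcc7d9cf) (.node (nat_lit 0x54ef2fde3) (.node (nat_lit 0x489810204) (.node (nat_lit 0x484250908) (.node (nat_lit 0x481910260) (.node (nat_lit 0x481810244) (.leaf (nat_lit 0x481110264) (nat_lit 1283))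
 (.leaf (nat_lit 0x481810244) (nat_lit 1027))
) (.node (nat_lit 0x484050909) (.leaf (nat_lit 0x481910260) (nat_lit 1539))
 (.node (nat_lit 0x484210901) (.leaf (nat_lit 0x484050909) (nat_lit 1540))
 (.leaf (nat_lit 0x484210901) (nat_lit 1284))
))) (.node (nat_lit 0x488810044) (.node (nat_lit 0x488110064) (.leaf (nat_lit 0x484250908) (nat_lit 1285))
 (.leaf (nat_lit 0x488110064) (nat_lit 1027))
) (.node (nat_lit 0x488910060) (.leaf (nat_lit 0x488810044) (nat_lit 771))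
 (.node (nat_lit 0x489110224) (.leaf (nat_lit 0x488910060) (nat_lit 1283))
 (.leaf (nat_lit 0x489110224) (nat_lit 1539))
)))) (.node (nat_lit 0x4a4050809) (.node (nat_lit 0x4a0050109) (.node (nat_lit 0x489910220) (.leaf (nat_lit 0x489810204) (nat_lit 1283))
 (.leaf (nat_lit 0x489910220) (nat_lit 1541))
) (.node (nat_lit 0x4a0210101) (.leaf (nat_lit 0x4a0050109) (nat_lit 1284))
 (.node (nat_lit 0x4a0250108) (.leaf (nat_lit 0x4a0210101) (nat_lit 1028))
 (.leaf (nat_lit 0x4a0250108) (nat_lit 1540))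
))) (.node (nat_lit 0x4a4250808) (.node (nat_lit 0x4a4210801) (.leaf (nat_lit 0x4a4050809) (nat_lit 1539))
 (.leaf (nat_lit 0x4a4210801) (nat_lit 1541))
) (.node (nat_lit 0x54e7efdfc) (.leaf (nat_lit 0x4a4250808) (nat_lit 1285))
 (.node (nat_lit 0x54e8efddf) (.leaf (nat_lit 0x54e7efdfc) (nat_lit 1029))
 (.leaf (nat_lit 0x54e8efddf) (nat_lit 1029))
))))) (.node (nat_lit 0x5797ef3bc) (.node (nat_lit 0x563def7f9) (.node (nat_lit 0x55fdeff39) (.node (nat_lit 0x55f3aff37) (.leaf (nat_lit 0x54ef2fde3) (nat_lit 1280))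
 (.leaf (nat_lit 0x55f3aff37) (nat_lit 773))
) (.node (nat_lit 0x55fe6ff0e) (.leaf (nat_lit 0x55fdeff39) (nat_lit 1024))
 (.node (nat_lit 0x5633af7f7) (.leaf (nat_lit 0x55fe6ff0e) (nat_lit 1029))
 (.leaf (nat_lit 0x5633af7f7) (nat_lit 773))
))) (.node (nat_lit 0x5777efe7c) (.node (nat_lit 0x563e6f7ce) (.leaf (nat_lit 0x563def7f9) (nat_lit 1024))
 (.leaf (nat_lit 0x563e6f7ce) (nat_lit 1026))
) (.node (nat_lit 0x5778efe5f) (.leaf (nat_lit 0x5777efe7c) (nat_lit 1281))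
 (.node (nat_lit 0x577f2fe63) (.leaf (nat_lit 0x5778efe5f) (nat_lit 1285))
 (.leaf (nat_lit 0x577f2fe63) (nat_lit 1285))
)))) (.node (nat_lit 0x57ce6f8ce) (.node (nat_lit 0x579f2f3a3) (.node (nat_lit 0x5798ef39f) (.leaf (nat_lit 0x5797ef3bc) (nat_lit 1285))
 (.leaf (nat_lit 0x5798ef39f) (nat_lit 1282))
) (.node (nat_lit 0x57c3af8f7) (.leaf (nat_lit 0x579f2f3a3) (nat_lit 1285))
 (.node (nat_lit 0x57cdef8f9) (.leaf (nat_lit 0x57c3af8f7) (nat_lit 1025))
 (.leaf (nat_lit 0x57cdef8f9) (nat_lit 1281))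
))) (.node (nat_lit 0x5cf9fdfbb) (.node (nat_lit 0x5cf73dfa7) (.leaf (nat_lit 0x57ce6f8ce) (nat_lit 1029))
 (.leaf (nat_lit 0x5cf73dfa7) (nat_lit 771))
) (.node (nat_lit 0x5cfefdf9c) (.leaf (nat_lit 0x5cf9fdfbb) (nat_lit 1026))
 (.node (nat_lit 0x5dc3fd9fe) (.leaf (nat_lit 0x5cfefdf9c) (nat_lit 1026))
 (.leaf (nat_lit 0x5dc3fd9fe) (nat_lit 1028))
)))))) (.node (nat_lit 0x72a3e75fe) (.node (nat_lit 0x5fbfbd731) (.node (nat_lit 0x5f173d3e7) (.node (nat_lit 0x5e73fdefe) (.node (nat_lit 0x5dcfbd9f1) (.leaf (nat_lit 0x5dcc7d9cf) (nat_lit 1282))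
 (.leaf (nat_lit 0x5dcfbd9f1) (nat_lit 1282))
) (.node (nat_lit 0x5e7c7decf) (.leaf (nat_lit 0x5e73fdefe) (nat_lit 1282))
 (.node (nat_lit 0x5e7fbdef1) (.leaf (nat_lit 0x5e7c7decf) (nat_lit 1283))
 (.leaf (nat_lit 0x5e7fbdef1) (nat_lit 1541))
))) (.node (nat_lit 0x5f1efd3dc) (.node (nat_lit 0x5f19fd3fb) (.leaf (nat_lit 0x5f173d3e7) (nat_lit 1026))
 (.leaf (nat_lit 0x5f19fd3fb) (nat_lit 1282))
) (.node (nat_lit 0x5fb3fd73e) (.leaf (nat_lit 0x5f1efd3dc) (nat_lit 770))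
 (.node (nat_lit 0x5fbc7d70f) (.leaf (nat_lit 0x5fb3fd73e) (nat_lit 1282))
 (.leaf (nat_lit 0x5fbc7d70f) (nat_lit 1026))
)))) (.node (nat_lit 0x70faa7f97) (.node (nat_lit 0x5fe9fdc7b) (.node (nat_lit 0x5fe73dc67) (.leaf (nat_lit 0x5fbfbd731) (nat_lit 1538))
 (.leaf (nat_lit 0x5fe73dc67) (nat_lit 1027))
) (.node (nat_lit 0x5feefdc5c) (.leaf (nat_lit 0x5fe9fdc7b) (nat_lit 1285))
 (.node (nat_lit 0x70f5e7fbd) (.leaf (nat_lit 0x5feefdc5c) (nat_lit 1282))
 (.leaf (nat_lit 0x70f5e7fbd) (nat_lit 773))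
))) (.node (nat_lit 0x7173e7f7e) (.node (nat_lit 0x70ff67faa) (.leaf (nat_lit 0x70faa7f97) (nat_lit 1280))
 (.leaf (nat_lit 0x70ff67faa) (nat_lit 1024))
) (.node (nat_lit 0x717c67f4f) (.leaf (nat_lit 0x7173e7f7e) (nat_lit 517))
 (.node (nat_lit 0x717fa7f71) (.leaf (nat_lit 0x717c67f4f) (nat_lit 1024))
 (.leaf (nat_lit 0x717fa7f71) (nat_lit 768))
))))) (.node (nat_lit 0x73eaa7c57) (.node (nat_lit 0x731f673ea) (.node (nat_lit 0x72afa75f1) (.node (nat_lit 0x72ac675cf) (.leaf (nat_lit 0x72a3e75fe) (nat_lit 1025))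
 (.leaf (nat_lit 0x72ac675cf) (nat_lit 1027))
) (.node (nat_lit 0x7315e73fd) (.leaf (nat_lit 0x72afa75f1) (nat_lit 1029))
 (.node (nat_lit 0x731aa73d7) (.leaf (nat_lit 0x7315e73fd) (nat_lit 1281))
 (.leaf (nat_lit 0x731aa73d7) (nat_lit 1284))
))) (.node (nat_lit 0x73dc67a8f) (.node (nat_lit 0x73d3e7abe) (.leaf (nat_lit 0x731f673ea) (nat_lit 1029))
 (.leaf (nat_lit 0x73d3e7abe) (nat_lit 769))
) (.node (nat_lit 0x73dfa7ab1) (.leaf (nat_lit 0x73dc67a8f) (nat_lit 773))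
 (.node (nat_lit 0x73e5e7c7d) (.leaf (nat_lit 0x73dfa7ab1) (nat_lit 1025))
 (.leaf (nat_lit 0x73e5e7c7d) (nat_lit 1025))
)))) (.node (nat_lit 0x75e1eed7f) (.node (nat_lit 0x7477aeff5) (.node (nat_lit 0x73ef67c6a) (.leaf (nat_lit 0x73eaa7c57) (nat_lit 1029))
 (.leaf (nat_lit 0x73ef67c6a) (nat_lit 1281))
) (.node (nat_lit 0x747aeefde) (.leaf (nat_lit 0x7477aeff5) (nat_lit 1285))
 (.node (nat_lit 0x747d6efeb) (.leaf (nat_lit 0x747aeefde) (nat_lit 1285))
 (.leaf (nat_lit 0x747d6efeb) (nat_lit 1284))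
))) (.node (nat_lit 0x76b1ee7bf) (.node (nat_lit 0x75ee2ed47) (.leaf (nat_lit 0x75e1eed7f) (nat_lit 1029))
 (.node (nat_lit 0x75efeed78) (.leaf (nat_lit 0x75ee2ed47) (nat_lit 1027))
 (.leaf (nat_lit 0x75efeed78) (nat_lit 1280))
)) (.node (nat_lit 0x76be2e787) (.leaf (nat_lit 0x76b1ee7bf) (nat_lit 1029))
 (.node (nat_lit 0x76bfee7b8) (.leaf (nat_lit 0x76be2e787) (nat_lit 771))
 (.leaf (nat_lit 0x76bfee7b8) (nat_lit 1280))
))))))) (.node (nat_lit 0x7f9bfc3ba) (.node (nat_lit 0x7b3ff5778) (.node (nat_lit 0x787bb5ff3) (.node (nat_lit 0x778d6e1eb) (.node (nat_lit 0x775feeaf8) (.node (nat_lit 0x775e2eac7) (.leaf (nat_lit 0x7751eeaff) (nat_lit 1027))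
 (.leaf (nat_lit 0x775e2eac7) (nat_lit 771))
) (.node (nat_lit 0x7787ae1f5) (.leaf (nat_lit 0x775feeaf8) (nat_lit 1029))
 (.node (nat_lit 0x778aee1de) (.leaf (nat_lit 0x7787ae1f5) (nat_lit 1284))
 (.leaf (nat_lit 0x778aee1de) (nat_lit 1028))
))) (.node (nat_lit 0x77faeee1e) (.node (nat_lit 0x77f7aee35) (.leaf (nat_lit 0x778d6e1eb) (nat_lit 1028))
 (.leaf (nat_lit 0x77f7aee35) (nat_lit 1537))
) (.node (nat_lit 0x77fd6ee2b) (.leaf (nat_lit 0x77faeee1e) (nat_lit 1541))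
 (.node (nat_lit 0x787775fee) (.leaf (nat_lit 0x77fd6ee2b) (nat_lit 1285))
 (.leaf (nat_lit 0x787775fee) (nat_lit 1029))
)))) (.node (nat_lit 0x7ae1f5cff) (.node (nat_lit 0x79d1f5bbf) (.node (nat_lit 0x787cf5fdd) (.leaf (nat_lit 0x787bb5ff3) (nat_lit 1280))
 (.leaf (nat_lit 0x787cf5fdd) (nat_lit 1029))
) (.node (nat_lit 0x79de35b87) (.leaf (nat_lit 0x79d1f5bbf) (nat_lit 1285))
 (.node (nat_lit 0x79dff5bb8) (.leaf (nat_lit 0x79de35b87) (nat_lit 1283))
 (.leaf (nat_lit 0x79dff5bb8) (nat_lit 1536))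
))) (.node (nat_lit 0x7aeff5cf8) (.node (nat_lit 0x7aee35cc7) (.leaf (nat_lit 0x7ae1f5cff) (nat_lit 1283))
 (.leaf (nat_lit 0x7aee35cc7) (nat_lit 1027))
) (.node (nat_lit 0x7b31f577f) (.leaf (nat_lit 0x7aeff5cf8) (nat_lit 1285))
 (.node (nat_lit 0x7b3e35747) (.leaf (nat_lit 0x7b31f577f) (nat_lit 1285))
 (.leaf (nat_lit 0x7b3e35747) (nat_lit 1027))
))))) (.node (nat_lit 0x7d53bcbf7) (.node (nat_lit 0x7bfbb5e33) (.node (nat_lit 0x7b8bb51f3) (.node (nat_lit 0x7b87751ee) (.leaf (nat_lit 0x7b3ff5778) (nat_lit 1537))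
 (.leaf (nat_lit 0x7b87751ee) (nat_lit 1285))
) (.node (nat_lit 0x7b8cf51dd) (.leaf (nat_lit 0x7b8bb51f3) (nat_lit 1281))
 (.node (nat_lit 0x7bf775e2e) (.leaf (nat_lit 0x7b8cf51dd) (nat_lit 1027))
 (.leaf (nat_lit 0x7bf775e2e) (nat_lit 1281))
))) (.node (nat_lit 0x7ce57cdef) (.node (nat_lit 0x7bfcf5e1d) (.leaf (nat_lit 0x7bfbb5e33) (nat_lit 1029))
 (.leaf (nat_lit 0x7bfcf5e1d) (nat_lit 1280))
) (.node (nat_lit 0x7cebfcdfa) (.leaf (nat_lit 0x7ce57cdef) (nat_lit 1027))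
 (.node (nat_lit 0x7ceebcdd5) (.leaf (nat_lit 0x7cebfcdfa) (nat_lit 1282))
 (.leaf (nat_lit 0x7ceebcdd5) (nat_lit 1282))
)))) (.node (nat_lit 0x7efe7ce8e) (.node (nat_lit 0x7d5e7cbce) (.node (nat_lit 0x7d5dfcbf9) (.leaf (nat_lit 0x7d53bcbf7) (nat_lit 1284))
 (.leaf (nat_lit 0x7d5dfcbf9) (nat_lit 1538))
) (.node (nat_lit 0x7ef3bceb7) (.leaf (nat_lit 0x7d5e7cbce) (nat_lit 1285))
 (.node (nat_lit 0x7efdfceb9) (.leaf (nat_lit 0x7ef3bceb7) (nat_lit 1538))
 (.leaf (nat_lit 0x7efdfceb9) (nat_lit 1029))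
))) (.node (nat_lit 0x7f7bfce7a) (.node (nat_lit 0x7f757ce6f) (.leaf (nat_lit 0x7efe7ce8e) (nat_lit 1280))
 (.leaf (nat_lit 0x7f757ce6f) (nat_lit 1283))
) (.node (nat_lit 0x7f7ebce55) (.leaf (nat_lit 0x7f7bfce7a) (nat_lit 773))
 (.node (nat_lit 0x7f957c3af) (.leaf (nat_lit 0x7f7ebce55) (nat_lit 1024))
 (.leaf (nat_lit 0x7f957c3af) (nat_lit 1029))
)))))) (.node (nat_lit 0x812044409) (.node (nat_lit 0x802244488) (.node (nat_lit 0x801084252) (.node (nat_lit 0x7fa3bc577) (.node (nat_lit 0x7f9ebc395) (.leaf (nat_lit 0x7f9bfc3ba) (nat_lit 1025))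
 (.leaf (nat_lit 0x7f9ebc395) (nat_lit 1026))
) (.node (nat_lit 0x7fadfc579) (.leaf (nat_lit 0x7fa3bc577) (nat_lit 1285))
 (.node (nat_lit 0x7fae7c54e) (.leaf (nat_lit 0x7fadfc579) (nat_lit 1281))
 (.leaf (nat_lit 0x7fae7c54e) (nat_lit 1282))
))) (.node (nat_lit 0x801484250) (.node (nat_lit 0x801404242) (.leaf (nat_lit 0x801084252) (nat_lit 772))
 (.leaf (nat_lit 0x801404242) (nat_lit 516))
) (.node (nat_lit 0x802044489) (.leaf (nat_lit 0x801484250) (nat_lit 773))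
 (.node (nat_lit 0x802204481) (.leaf (nat_lit 0x802044489) (nat_lit 513))
 (.leaf (nat_lit 0x802204481) (nat_lit 257))
)))) (.node (nat_lit 0x809404202) (.node (nat_lit 0x808404042) (.node (nat_lit 0x808084052) (.leaf (nat_lit 0x802244488) (nat_lit 769))
 (.leaf (nat_lit 0x808084052) (nat_lit 516))
) (.node (nat_lit 0x808484050) (.leaf (nat_lit 0x808404042) (nat_lit 260))
 (.node (nat_lit 0x809084212) (.leaf (nat_lit 0x808484050) (nat_lit 772))
 (.leaf (nat_lit 0x809084212) (nat_lit 1028))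
))) (.node (nat_lit 0x810044089) (.node (nat_lit 0x809484210) (.leaf (nat_lit 0x809404202) (nat_lit 772))
 (.leaf (nat_lit 0x809484210) (nat_lit 1029))
) (.node (nat_lit 0x810204081) (.leaf (nat_lit 0x810044089) (nat_lit 256))
 (.node (nat_lit 0x810244088) (.leaf (nat_lit 0x810204081) (nat_lit 0))
 (.leaf (nat_lit 0x810244088) (nat_lit 512))
))))) (.node (nat_lit 0x8efddfeb9) (.node (nat_lit 0x8cee9fdd5) (.node (nat_lit 0x812244408) (.node (nat_lit 0x812204401) (.leaf (nat_lit 0x812044409) (nat_lit 769))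
 (.leaf (nat_lit 0x812204401) (nat_lit 513))
) (.node (nat_lit 0x8ce55fdef) (.leaf (nat_lit 0x812244408) (nat_lit 1025))
 (.node (nat_lit 0x8cebdfdfa) (.leaf (nat_lit 0x8ce55fdef) (nat_lit 1029))
 (.leaf (nat_lit 0x8cebdfdfa) (nat_lit 1029))
))) (.node (nat_lit 0x8d5ddfbf9) (.node (nat_lit 0x8d539fbf7) (.leaf (nat_lit 0x8cee9fdd5) (nat_lit 1025))
 (.leaf (nat_lit 0x8d539fbf7) (nat_lit 1285))
) (.node (nat_lit 0x8d5e5fbce) (.leaf (nat_lit 0x8d5ddfbf9) (nat_lit 1285))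
 (.node (nat_lit 0x8ef39feb7) (.leaf (nat_lit 0x8d5e5fbce) (nat_lit 1281))
 (.leaf (nat_lit 0x8ef39feb7) (nat_lit 1285))
)))) (.node (nat_lit 0x8f955f3af) (.node (nat_lit 0x8f755fe6f) (.node (nat_lit 0x8efe5fe8e) (.leaf (nat_lit 0x8efddfeb9) (nat_lit 1282))
 (.leaf (nat_lit 0x8efe5fe8e) (nat_lit 1537))
) (.node (nat_lit 0x8f7bdfe7a) (.leaf (nat_lit 0x8f755fe6f) (nat_lit 1285))
 (.node (nat_lit 0x8f7e9fe55) (.leaf (nat_lit 0x8f7bdfe7a) (nat_lit 1026))
 (.leaf (nat_lit 0x8f7e9fe55) (nat_lit 1281))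
))) (.node (nat_lit 0x8fa39f577) (.node (nat_lit 0x8f9bdf3ba) (.leaf (nat_lit 0x8f955f3af) (nat_lit 1024))
 (.node (nat_lit 0x8f9e9f395) (.leaf (nat_lit 0x8f9bdf3ba) (nat_lit 1280))
 (.leaf (nat_lit 0x8f9e9f395) (nat_lit 773))
)) (.node (nat_lit 0x8faddf579) (.leaf (nat_lit 0x8fa39f577) (nat_lit 1280))
 (.node (nat_lit 0x8fae5f54e) (.leaf (nat_lit 0x8faddf579) (nat_lit 1536))
 (.leaf (nat_lit 0x8fae5f54e) (nat_lit 1029))
))))))))) (.node (nat_lit 0xdd57f9bfc) (.node (nat_lit 0xbb51f3aff) (.node (nat_lit 0xa9cc579cf) (.node (nat_lit 0x9cff7bfaa) (.node (nat_lit 0x909420202) (.node (nat_lit 0x902260488) (.node (nat_lit 0x9014a0250) (.node (nat_lit 0x901420242) (.leaf (nat_lit 0x9010a0252) (nat_lit 1284))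
 (.leaf (nat_lit 0x901420242) (nat_lit 1028))
) (.node (nat_lit 0x902060489) (.leaf (nat_lit 0x9014a0250) (nat_lit 1285))
 (.node (nat_lit 0x902220481) (.leaf (nat_lit 0x902060489) (nat_lit 1026))
 (.leaf (nat_lit 0x902220481) (nat_lit 770))
))) (.node (nat_lit 0x908420042) (.node (nat_lit 0x9080a0052) (.leaf (nat_lit 0x902260488) (nat_lit 1282))
 (.leaf (nat_lit 0x9080a0052) (nat_lit 1028))
) (.node (nat_lit 0x9084a0050) (.leaf (nat_lit 0x908420042) (nat_lit 772))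
 (.node (nat_lit 0x9090a0212) (.leaf (nat_lit 0x9084a0050) (nat_lit 1284))
 (.leaf (nat_lit 0x9090a0212) (nat_lit 1540))
)))) (.node (nat_lit 0x912060409) (.node (nat_lit 0x910060089) (.node (nat_lit 0x9094a0210) (.leaf (nat_lit 0x909420202) (nat_lit 1284))
 (.leaf (nat_lit 0x9094a0210) (nat_lit 1541))
) (.node (nat_lit 0x910220081) (.leaf (nat_lit 0x910060089) (nat_lit 770))
 (.node (nat_lit 0x910260088) (.leaf (nat_lit 0x910220081) (nat_lit 514))
 (.leaf (nat_lit 0x910260088) (nat_lit 1026))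
))) (.node (nat_lit 0x912260408) (.node (nat_lit 0x912220401) (.leaf (nat_lit 0x912060409) (nat_lit 1282))
 (.leaf (nat_lit 0x912220401) (nat_lit 1026))
) (.node (nat_lit 0x9cf5fbfbd) (.leaf (nat_lit 0x912260408) (nat_lit 1538))
 (.node (nat_lit 0x9cfabbf97) (.leaf (nat_lit 0x9cf5fbfbd) (nat_lit 1026))
 (.leaf (nat_lit 0x9cfabbf97) (nat_lit 1283))
))))) (.node (nat_lit 0x9fd3fbabe) (.node (nat_lit 0x9eac7b5cf) (.node (nat_lit 0x9d7c7bf4f) (.node (nat_lit 0x9d73fbf7e) (.leaf (nat_lit 0x9cff7bfaa) (nat_lit 1282))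
 (.leaf (nat_lit 0x9d73fbf7e) (nat_lit 770))
) (.node (nat_lit 0x9d7fbbf71) (.leaf (nat_lit 0x9d7c7bf4f) (nat_lit 1283))
 (.node (nat_lit 0x9ea3fb5fe) (.leaf (nat_lit 0x9d7fbbf71) (nat_lit 1026))
 (.leaf (nat_lit 0x9ea3fb5fe) (nat_lit 1283))
))) (.node (nat_lit 0x9f15fb3fd) (.node (nat_lit 0x9eafbb5f1) (.leaf (nat_lit 0x9eac7b5cf) (nat_lit 1283))
 (.leaf (nat_lit 0x9eafbb5f1) (nat_lit 1282))
) (.node (nat_lit 0x9f1abb3d7) (.leaf (nat_lit 0x9f15fb3fd) (nat_lit 1540))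
 (.node (nat_lit 0x9f1f7b3ea) (.leaf (nat_lit 0x9f1abb3d7) (nat_lit 1540))
 (.leaf (nat_lit 0x9f1f7b3ea) (nat_lit 1282))
)))) (.node (nat_lit 0x9fef7bc6a) (.node (nat_lit 0x9fdfbbab1) (.node (nat_lit 0x9fdc7ba8f) (.leaf (nat_lit 0x9fd3fbabe) (nat_lit 1026))
 (.leaf (nat_lit 0x9fdc7ba8f) (nat_lit 1026))
) (.node (nat_lit 0x9fe5fbc7d) (.leaf (nat_lit 0x9fdfbbab1) (nat_lit 1285))
 (.node (nat_lit 0x9feabbc57) (.leaf (nat_lit 0x9fe5fbc7d) (nat_lit 1282))
 (.leaf (nat_lit 0x9feabbc57) (nat_lit 1282))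
))) (.node (nat_lit 0xa8f9d7fbb) (.node (nat_lit 0xa8f717fa7) (.leaf (nat_lit 0x9fef7bc6a) (nat_lit 1541))
 (.leaf (nat_lit 0xa8f717fa7) (nat_lit 1025))
) (.node (nat_lit 0xa8fed7f9c) (.leaf (nat_lit 0xa8f9d7fbb) (nat_lit 773))
 (.node (nat_lit 0xa9c3d79fe) (.leaf (nat_lit 0xa8fed7f9c) (nat_lit 769))
 (.leaf (nat_lit 0xa9c3d79fe) (nat_lit 1281))
)))))) (.node (nat_lit 0xaee1decff) (.node (nat_lit 0xabbf97731) (.node (nat_lit 0xab17173e7) (.node (nat_lit 0xaa73d7efe) (.node (nat_lit 0xa9cf979f1) (.leaf (nat_lit 0xa9cc579cf) (nat_lit 1025))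
 (.leaf (nat_lit 0xa9cf979f1) (nat_lit 1029))
) (.node (nat_lit 0xaa7c57ecf) (.leaf (nat_lit 0xaa73d7efe) (nat_lit 1029))
 (.node (nat_lit 0xaa7f97ef1) (.leaf (nat_lit 0xaa7c57ecf) (nat_lit 1281))
 (.leaf (nat_lit 0xaa7f97ef1) (nat_lit 1280))
))) (.node (nat_lit 0xab1ed73dc) (.node (nat_lit 0xab19d73fb) (.leaf (nat_lit 0xab17173e7) (nat_lit 768))
 (.leaf (nat_lit 0xab19d73fb) (nat_lit 1024))
) (.node (nat_lit 0xabb3d773e) (.leaf (nat_lit 0xab1ed73dc) (nat_lit 517))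
 (.node (nat_lit 0xabbc5770f) (.leaf (nat_lit 0xabb3d773e) (nat_lit 1024))
 (.leaf (nat_lit 0xabbc5770f) (nat_lit 773))
)))) (.node (nat_lit 0xac7b9eff3) (.node (nat_lit 0xabe9d7c7b) (.node (nat_lit 0xabe717c67) (.leaf (nat_lit 0xabbf97731) (nat_lit 1280))
 (.leaf (nat_lit 0xabe717c67) (nat_lit 1029))
) (.node (nat_lit 0xabeed7c5c) (.leaf (nat_lit 0xabe9d7c7b) (nat_lit 1025))
 (.node (nat_lit 0xac775efee) (.leaf (nat_lit 0xabeed7c5c) (nat_lit 1025))
 (.leaf (nat_lit 0xac775efee) (nat_lit 1285))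
))) (.node (nat_lit 0xadd1debbf) (.node (nat_lit 0xac7cdefdd) (.leaf (nat_lit 0xac7b9eff3) (nat_lit 1285))
 (.leaf (nat_lit 0xac7cdefdd) (nat_lit 1027))
) (.node (nat_lit 0xadde1eb87) (.leaf (nat_lit 0xadd1debbf) (nat_lit 1283))
 (.node (nat_lit 0xaddfdebb8) (.leaf (nat_lit 0xadde1eb87) (nat_lit 1027))
 (.leaf (nat_lit 0xaddfdebb8) (nat_lit 1541))
))))) (.node (nat_lit 0xaffb9ee33) (.node (nat_lit 0xaf3fde778) (.node (nat_lit 0xaeefdecf8) (.node (nat_lit 0xaeee1ecc7) (.leaf (nat_lit 0xaee1decff) (nat_lit 1541))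
 (.leaf (nat_lit 0xaeee1ecc7) (nat_lit 1283))
) (.node (nat_lit 0xaf31de77f) (.leaf (nat_lit 0xaeefdecf8) (nat_lit 1538))
 (.node (nat_lit 0xaf3e1e747) (.leaf (nat_lit 0xaf31de77f) (nat_lit 1027))
 (.leaf (nat_lit 0xaf3e1e747) (nat_lit 771))
))) (.node (nat_lit 0xaf8b9e1f3) (.node (nat_lit 0xaf875e1ee) (.leaf (nat_lit 0xaf3fde778) (nat_lit 1283))
 (.leaf (nat_lit 0xaf875e1ee) (nat_lit 1027))
) (.node (nat_lit 0xaf8cde1dd) (.leaf (nat_lit 0xaf8b9e1f3) (nat_lit 1283))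
 (.node (nat_lit 0xaff75ee2e) (.leaf (nat_lit 0xaf8cde1dd) (nat_lit 771))
 (.leaf (nat_lit 0xaff75ee2e) (nat_lit 1541))
)))) (.node (nat_lit 0xb9e1f3d7f) (.node (nat_lit 0xb877b3ff5) (.node (nat_lit 0xaffcdee1d) (.leaf (nat_lit 0xaffb9ee33) (nat_lit 1282))
 (.leaf (nat_lit 0xaffcdee1d) (nat_lit 1285))
) (.node (nat_lit 0xb87af3fde) (.leaf (nat_lit 0xb877b3ff5) (nat_lit 1538))
 (.node (nat_lit 0xb87d73feb) (.leaf (nat_lit 0xb87af3fde) (nat_lit 1538))
 (.leaf (nat_lit 0xb87d73feb) (nat_lit 1285))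
))) (.node (nat_lit 0xbab1f37bf) (.node (nat_lit 0xb9ee33d47) (.leaf (nat_lit 0xb9e1f3d7f) (nat_lit 1282))
 (.node (nat_lit 0xb9eff3d78) (.leaf (nat_lit 0xb9ee33d47) (nat_lit 1027))
 (.leaf (nat_lit 0xb9eff3d78) (nat_lit 1285))
)) (.node (nat_lit 0xbabe33787) (.leaf (nat_lit 0xbab1f37bf) (nat_lit 1282))
 (.node (nat_lit 0xbabff37b8) (.leaf (nat_lit 0xbabe33787) (nat_lit 1027))
 (.leaf (nat_lit 0xbabff37b8) (nat_lit 1281))
))))))) (.node (nat_lit 0xc7ba8f717) (.node (nat_lit 0xbf7f3ae63) (.node (nat_lit 0xbce8faddf) (.node (nat_lit 0xbb8d731eb) (.node (nat_lit 0xbb5ff3af8) (.node (nat_lit 0xbb5e33ac7) (.leaf (nat_lit 0xbb51f3aff) (nat_lit 1029))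
 (.leaf (nat_lit 0xbb5e33ac7) (nat_lit 1027))
) (.node (nat_lit 0xbb87b31f5) (.leaf (nat_lit 0xbb5ff3af8) (nat_lit 1029))
 (.node (nat_lit 0xbb8af31de) (.leaf (nat_lit 0xbb87b31f5) (nat_lit 1284))
 (.leaf (nat_lit 0xbb8af31de) (nat_lit 1284))
))) (.node (nat_lit 0xbbfaf3e1e) (.node (nat_lit 0xbbf7b3e35) (.leaf (nat_lit 0xbb8d731eb) (nat_lit 1284))
 (.leaf (nat_lit 0xbbf7b3e35) (nat_lit 1541))
) (.node (nat_lit 0xbbfd73e2b) (.leaf (nat_lit 0xbbfaf3e1e) (nat_lit 1541))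
 (.node (nat_lit 0xbce7fadfc) (.leaf (nat_lit 0xbbfd73e2b) (nat_lit 1285))
 (.leaf (nat_lit 0xbce7fadfc) (nat_lit 1282))
)))) (.node (nat_lit 0xbe33ba7f7) (.node (nat_lit 0xbdf3baf37) (.node (nat_lit 0xbcef3ade3) (.leaf (nat_lit 0xbce8faddf) (nat_lit 1282))
 (.leaf (nat_lit 0xbcef3ade3) (nat_lit 1538))
) (.node (nat_lit 0xbdfdfaf39) (.leaf (nat_lit 0xbdf3baf37) (nat_lit 1026))
 (.node (nat_lit 0xbdfe7af0e) (.leaf (nat_lit 0xbdfdfaf39) (nat_lit 1029))
 (.leaf (nat_lit 0xbdfe7af0e) (nat_lit 1280))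
))) (.node (nat_lit 0xbe3e7a7ce) (.node (nat_lit 0xbe3dfa7f9) (.leaf (nat_lit 0xbe33ba7f7) (nat_lit 1026))
 (.leaf (nat_lit 0xbe3dfa7f9) (nat_lit 1282))
) (.node (nat_lit 0xbf77fae7c) (.leaf (nat_lit 0xbe3e7a7ce) (nat_lit 1282))
 (.node (nat_lit 0xbf78fae5f) (.leaf (nat_lit 0xbf77fae7c) (nat_lit 1285))
 (.leaf (nat_lit 0xbf78fae5f) (nat_lit 1538))
))))) (.node (nat_lit 0xc5c5cf9fd) (.node (nat_lit 0xbfcdfa8f9) (.node (nat_lit 0xbf98fa39f) (.node (nat_lit 0xbf97fa3bc) (.leaf (nat_lit 0xbf7f3ae63) (nat_lit 1283))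
 (.leaf (nat_lit 0xbf97fa3bc) (nat_lit 1537))
) (.node (nat_lit 0xbf9f3a3a3) (.leaf (nat_lit 0xbf98fa39f) (nat_lit 1538))
 (.node (nat_lit 0xbfc3ba8f7) (.leaf (nat_lit 0xbf9f3a3a3) (nat_lit 1285))
 (.leaf (nat_lit 0xbfc3ba8f7) (nat_lit 1282))
))) (.node (nat_lit 0xc5770ff67) (.node (nat_lit 0xbfce7a8ce) (.leaf (nat_lit 0xbfcdfa8f9) (nat_lit 1283))
 (.leaf (nat_lit 0xbfce7a8ce) (nat_lit 1282))
) (.node (nat_lit 0xc579cff7b) (.leaf (nat_lit 0xc5770ff67) (nat_lit 1281))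
 (.node (nat_lit 0xc57ecff5c) (.leaf (nat_lit 0xc579cff7b) (nat_lit 1029))
 (.leaf (nat_lit 0xc57ecff5c) (nat_lit 1025))
)))) (.node (nat_lit 0xc67f4feea) (.node (nat_lit 0xc5cf4f9ea) (.node (nat_lit 0xc5ca8f9d7) (.leaf (nat_lit 0xc5c5cf9fd) (nat_lit 1025))
 (.leaf (nat_lit 0xc5ca8f9d7) (nat_lit 769))
) (.node (nat_lit 0xc675cfefd) (.leaf (nat_lit 0xc5cf4f9ea) (nat_lit 773))
 (.node (nat_lit 0xc67a8fed7) (.leaf (nat_lit 0xc675cfefd) (nat_lit 1029))
 (.leaf (nat_lit 0xc67a8fed7) (nat_lit 1025))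
))) (.node (nat_lit 0xc6a9cf5fb) (.node (nat_lit 0xc6a70f5e7) (.leaf (nat_lit 0xc67f4feea) (nat_lit 1025))
 (.leaf (nat_lit 0xc6a70f5e7) (nat_lit 1024))
) (.node (nat_lit 0xc6aecf5dc) (.leaf (nat_lit 0xc6a9cf5fb) (nat_lit 1280))
 (.node (nat_lit 0xc7b5cf73d) (.leaf (nat_lit 0xc6aecf5dc) (nat_lit 773))
 (.leaf (nat_lit 0xc7b5cf73d) (nat_lit 768))
)))))) (.node (nat_lit 0xcff79de35) (.node (nat_lit 0xcdefddd78) (.node (nat_lit 0xcc779dff5) (.node (nat_lit 0xc7d70faa7) (.node (nat_lit 0xc7bf4f72a) (.leaf (nat_lit 0xc7ba8f717) (nat_lit 517))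
 (.leaf (nat_lit 0xc7bf4f72a) (nat_lit 1024))
) (.node (nat_lit 0xc7d9cfabb) (.leaf (nat_lit 0xc7d70faa7) (nat_lit 1029))
 (.node (nat_lit 0xc7decfa9c) (.leaf (nat_lit 0xc7d9cfabb) (nat_lit 1280))
 (.leaf (nat_lit 0xc7decfa9c) (nat_lit 1281))
))) (.node (nat_lit 0xcc7d5dfeb) (.node (nat_lit 0xcc7addfde) (.leaf (nat_lit 0xcc779dff5) (nat_lit 1284))
 (.leaf (nat_lit 0xcc7addfde) (nat_lit 1028))
) (.node (nat_lit 0xcde1ddd7f) (.leaf (nat_lit 0xcc7d5dfeb) (nat_lit 1285))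
 (.node (nat_lit 0xcdee1dd47) (.leaf (nat_lit 0xcde1ddd7f) (nat_lit 1027))
 (.leaf (nat_lit 0xcdee1dd47) (nat_lit 771))
)))) (.node (nat_lit 0xcf5e1dac7) (.node (nat_lit 0xcebe1d787) (.node (nat_lit 0xceb1dd7bf) (.leaf (nat_lit 0xcdefddd78) (nat_lit 1285))
 (.leaf (nat_lit 0xceb1dd7bf) (nat_lit 771))
) (.node (nat_lit 0xcebfdd7b8) (.leaf (nat_lit 0xcebe1d787) (nat_lit 515))
 (.node (nat_lit 0xcf51ddaff) (.leaf (nat_lit 0xcebfdd7b8) (nat_lit 1027))
 (.leaf (nat_lit 0xcf51ddaff) (nat_lit 1282))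
))) (.node (nat_lit 0xcf879d1f5) (.node (nat_lit 0xcf5fddaf8) (.leaf (nat_lit 0xcf5e1dac7) (nat_lit 1027))
 (.leaf (nat_lit 0xcf5fddaf8) (nat_lit 1282))
) (.node (nat_lit 0xcf8add1de) (.leaf (nat_lit 0xcf879d1f5) (nat_lit 1028))
 (.node (nat_lit 0xcf8d5d1eb) (.leaf (nat_lit 0xcf8add1de) (nat_lit 772))
 (.leaf (nat_lit 0xcf8d5d1eb) (nat_lit 1284))
))))) (.node (nat_lit 0xd6ee2bcc7) (.node (nat_lit 0xd47cebfdd) (.node (nat_lit 0xcffd5de2b) (.node (nat_lit 0xcffadde1e) (.leaf (nat_lit 0xcff79de35) (nat_lit 1541))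
 (.leaf (nat_lit 0xcffadde1e) (nat_lit 1284))
) (.node (nat_lit 0xd4776bfee) (.leaf (nat_lit 0xcffd5de2b) (nat_lit 1541))
 (.node (nat_lit 0xd47babff3) (.leaf (nat_lit 0xd4776bfee) (nat_lit 1282))
 (.leaf (nat_lit 0xd47babff3) (nat_lit 1029))
))) (.node (nat_lit 0xd5de2bb87) (.node (nat_lit 0xd5d1ebbbf) (.leaf (nat_lit 0xd47cebfdd) (nat_lit 1282))
 (.leaf (nat_lit 0xd5d1ebbbf) (nat_lit 1283))
) (.node (nat_lit 0xd5dfebbb8) (.leaf (nat_lit 0xd5de2bb87) (nat_lit 1027))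
 (.node (nat_lit 0xd6e1ebcff) (.leaf (nat_lit 0xd5dfebbb8) (nat_lit 1541))
 (.leaf (nat_lit 0xd6e1ebcff) (nat_lit 1285))
)))) (.node (nat_lit 0xd7876b1ee) (.node (nat_lit 0xd731eb77f) (.node (nat_lit 0xd6efebcf8) (.leaf (nat_lit 0xd6ee2bcc7) (nat_lit 1283))
 (.leaf (nat_lit 0xd6efebcf8) (nat_lit 1285))
) (.node (nat_lit 0xd73e2b747) (.leaf (nat_lit 0xd731eb77f) (nat_lit 1541))
 (.node (nat_lit 0xd73feb778) (.leaf (nat_lit 0xd73e2b747) (nat_lit 1283))
 (.leaf (nat_lit 0xd73feb778) (nat_lit 1541))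
))) (.node (nat_lit 0xd7f76be2e) (.node (nat_lit 0xd78bab1f3) (.leaf (nat_lit 0xd7876b1ee) (nat_lit 1027))
 (.node (nat_lit 0xd78ceb1dd) (.leaf (nat_lit 0xd78bab1f3) (nat_lit 1281))
 (.leaf (nat_lit 0xd78ceb1dd) (nat_lit 1283))
)) (.node (nat_lit 0xd7fbabe33) (.leaf (nat_lit 0xd7f76be2e) (nat_lit 1283))
 (.node (nat_lit 0xd7fcebe1d) (.leaf (nat_lit 0xd7fbabe33) (nat_lit 1029))
 (.leaf (nat_lit 0xd7fcebe1d) (nat_lit 1280))
)))))))) (.node (nat_lit 0xef15dc3fd) (.node (nat_lit 0xe5fbcef3a) (.node (nat_lit 0xe1dd47bab) (.node (nat_lit 0xdef8f9e9f) (.node (nat_lit 0xddfeb9f15) (.node (nat_lit 0xdd5f39be3) (.node (nat_lit 0xdd58f9bdf) (.leaf (nat_lit 0xdd57f9bfc) (nat_lit 1026))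
 (.leaf (nat_lit 0xdd58f9bdf) (nat_lit 1026))
) (.node (nat_lit 0xddf579f2f) (.leaf (nat_lit 0xdd5f39be3) (nat_lit 1282))
 (.node (nat_lit 0xddfbf9f3a) (.leaf (nat_lit 0xddf579f2f) (nat_lit 1282))
 (.leaf (nat_lit 0xddfbf9f3a) (nat_lit 1285))
))) (.node (nat_lit 0xde3bf97fa) (.node (nat_lit 0xde35797ef) (.leaf (nat_lit 0xddfeb9f15) (nat_lit 1539))
 (.leaf (nat_lit 0xde35797ef) (nat_lit 1282))
) (.node (nat_lit 0xde3eb97d5) (.leaf (nat_lit 0xde3bf97fa) (nat_lit 1541))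
 (.node (nat_lit 0xdef7f9ebc) (.leaf (nat_lit 0xde3eb97d5) (nat_lit 1538))
 (.leaf (nat_lit 0xdef7f9ebc) (nat_lit 1027))
)))) (.node (nat_lit 0xdfc5798ef) (.node (nat_lit 0xdfa7f957c) (.node (nat_lit 0xdeff39ea3) (.leaf (nat_lit 0xdef8f9e9f) (nat_lit 1282))
 (.leaf (nat_lit 0xdeff39ea3) (nat_lit 1027))
) (.node (nat_lit 0xdfa8f955f) (.leaf (nat_lit 0xdfa7f957c) (nat_lit 1283))
 (.node (nat_lit 0xdfaf39563) (.leaf (nat_lit 0xdfa8f955f) (nat_lit 1282))
 (.leaf (nat_lit 0xdfaf39563) (nat_lit 1283))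
))) (.node (nat_lit 0xdfceb98d5) (.node (nat_lit 0xdfcbf98fa) (.leaf (nat_lit 0xdfc5798ef) (nat_lit 1536))
 (.leaf (nat_lit 0xdfcbf98fa) (nat_lit 1284))
) (.node (nat_lit 0xe1d787bb5) (.leaf (nat_lit 0xdfceb98d5) (nat_lit 1285))
 (.node (nat_lit 0xe1dac7b9e) (.leaf (nat_lit 0xe1d787bb5) (nat_lit 769))
 (.leaf (nat_lit 0xe1dac7b9e) (nat_lit 513))
))))) (.node (nat_lit 0xe33787775) (.node (nat_lit 0xe2bb877b3) (.node (nat_lit 0xe1eb87d73) (.node (nat_lit 0xe1e747d6e) (.leaf (nat_lit 0xe1dd47bab) (nat_lit 517))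
 (.leaf (nat_lit 0xe1e747d6e) (nat_lit 1025))
) (.node (nat_lit 0xe1ecc7d5d) (.leaf (nat_lit 0xe1eb87d73) (nat_lit 773))
 (.node (nat_lit 0xe2b7477ae) (.leaf (nat_lit 0xe1ecc7d5d) (nat_lit 769))
 (.leaf (nat_lit 0xe2b7477ae) (nat_lit 768))
))) (.node (nat_lit 0xe2e787cf5) (.node (nat_lit 0xe2bcc779d) (.leaf (nat_lit 0xe2bb877b3) (nat_lit 1024))
 (.leaf (nat_lit 0xe2bcc779d) (nat_lit 517))
) (.node (nat_lit 0xe2eac7cde) (.leaf (nat_lit 0xe2e787cf5) (nat_lit 773))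
 (.node (nat_lit 0xe2ed47ceb) (.leaf (nat_lit 0xe2eac7cde) (nat_lit 769))
 (.leaf (nat_lit 0xe2ed47ceb) (nat_lit 769))
)))) (.node (nat_lit 0xe35cc7add) (.node (nat_lit 0xe33d4776b) (.node (nat_lit 0xe33ac775e) (.leaf (nat_lit 0xe33787775) (nat_lit 512))
 (.leaf (nat_lit 0xe33ac775e) (nat_lit 261))
) (.node (nat_lit 0xe35747aee) (.leaf (nat_lit 0xe33d4776b) (nat_lit 768))
 (.node (nat_lit 0xe35b87af3) (.leaf (nat_lit 0xe35747aee) (nat_lit 773))
 (.leaf (nat_lit 0xe35b87af3) (nat_lit 1024))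
))) (.node (nat_lit 0xe558cebdf) (.node (nat_lit 0xe557cebfc) (.leaf (nat_lit 0xe35cc7add) (nat_lit 1025))
 (.leaf (nat_lit 0xe557cebfc) (nat_lit 1281))
) (.node (nat_lit 0xe55f0ebe3) (.leaf (nat_lit 0xe558cebdf) (nat_lit 1025))
 (.node (nat_lit 0xe5f54ef2f) (.leaf (nat_lit 0xe55f0ebe3) (nat_lit 1029))
 (.leaf (nat_lit 0xe5f54ef2f) (nat_lit 1537))
)))))) (.node (nat_lit 0xea33957f7) (.node (nat_lit 0xe7af0e563) (.node (nat_lit 0xe6f7ceebc) (.node (nat_lit 0xe6354e7ef) (.node (nat_lit 0xe5fe8ef15) (.leaf (nat_lit 0xe5fbcef3a) (nat_lit 1285))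
 (.leaf (nat_lit 0xe5fe8ef15) (nat_lit 1281))
) (.node (nat_lit 0xe63bce7fa) (.leaf (nat_lit 0xe6354e7ef) (nat_lit 1280))
 (.node (nat_lit 0xe63e8e7d5) (.leaf (nat_lit 0xe63bce7fa) (nat_lit 1536))
 (.leaf (nat_lit 0xe63e8e7d5) (nat_lit 1029))
))) (.node (nat_lit 0xe6ff0eea3) (.node (nat_lit 0xe6f8cee9f) (.leaf (nat_lit 0xe6f7ceebc) (nat_lit 1285))
 (.leaf (nat_lit 0xe6f8cee9f) (nat_lit 1281))
) (.node (nat_lit 0xe7a7ce57c) (.leaf (nat_lit 0xe6ff0eea3) (nat_lit 1281))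
 (.node (nat_lit 0xe7a8ce55f) (.leaf (nat_lit 0xe7a7ce57c) (nat_lit 1024))
 (.leaf (nat_lit 0xe7a8ce55f) (nat_lit 773))
)))) (.node (nat_lit 0xe8e8d5ddf) (.node (nat_lit 0xe7cbce8fa) (.node (nat_lit 0xe7c54e8ef) (.leaf (nat_lit 0xe7af0e563) (nat_lit 1280))
 (.leaf (nat_lit 0xe7c54e8ef) (nat_lit 1285))
) (.node (nat_lit 0xe7ce8e8d5) (.leaf (nat_lit 0xe7cbce8fa) (nat_lit 1285))
 (.node (nat_lit 0xe8e7d5dfc) (.leaf (nat_lit 0xe7ce8e8d5) (nat_lit 1537))
 (.leaf (nat_lit 0xe8e7d5dfc) (nat_lit 1538))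
))) (.node (nat_lit 0xe9f395f37) (.node (nat_lit 0xe8ef15de3) (.leaf (nat_lit 0xe8e8d5ddf) (nat_lit 1281))
 (.leaf (nat_lit 0xe8ef15de3) (nat_lit 1285))
) (.node (nat_lit 0xe9fdd5f39) (.leaf (nat_lit 0xe9f395f37) (nat_lit 1282))
 (.node (nat_lit 0xe9fe55f0e) (.leaf (nat_lit 0xe9fdd5f39) (nat_lit 1029))
 (.leaf (nat_lit 0xe9fe55f0e) (nat_lit 1025))
))))) (.node (nat_lit 0xebcdd58f9) (.node (nat_lit 0xeb7f15e63) (.node (nat_lit 0xea3e557ce) (.node (nat_lit 0xea3dd57f9) (.leaf (nat_lit 0xea33957f7) (nat_lit 1024))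
 (.leaf (nat_lit 0xea3dd57f9) (nat_lit 1280))
) (.node (nat_lit 0xeb77d5e7c) (.leaf (nat_lit 0xea3e557ce) (nat_lit 773))
 (.node (nat_lit 0xeb78d5e5f) (.leaf (nat_lit 0xeb77d5e7c) (nat_lit 1285))
 (.leaf (nat_lit 0xeb78d5e5f) (nat_lit 1536))
))) (.node (nat_lit 0xeb98d539f) (.node (nat_lit 0xeb97d53bc) (.leaf (nat_lit 0xeb7f15e63) (nat_lit 1285))
 (.leaf (nat_lit 0xeb97d53bc) (nat_lit 1280))
) (.node (nat_lit 0xeb9f153a3) (.leaf (nat_lit 0xeb98d539f) (nat_lit 1029))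
 (.node (nat_lit 0xebc3958f7) (.leaf (nat_lit 0xeb9f153a3) (nat_lit 1537))
 (.leaf (nat_lit 0xebc3958f7) (nat_lit 1285))
)))) (.node (nat_lit 0xed73dcf7e) (.node (nat_lit 0xecf5dcfbd) (.node (nat_lit 0xebce558ce) (.leaf (nat_lit 0xebcdd58f9) (nat_lit 1281))
 (.leaf (nat_lit 0xebce558ce) (nat_lit 1281))
) (.node (nat_lit 0xecfa9cf97) (.leaf (nat_lit 0xecf5dcfbd) (nat_lit 1282))
 (.node (nat_lit 0xecff5cfaa) (.leaf (nat_lit 0xecfa9cf97) (nat_lit 1284))
 (.leaf (nat_lit 0xecff5cfaa) (nat_lit 1541))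
))) (.node (nat_lit 0xeea3dc5fe) (.node (nat_lit 0xed7c5cf4f) (.leaf (nat_lit 0xed73dcf7e) (nat_lit 1026))
 (.node (nat_lit 0xed7f9cf71) (.leaf (nat_lit 0xed7c5cf4f) (nat_lit 1027))
 (.leaf (nat_lit 0xed7f9cf71) (nat_lit 1282))
)) (.node (nat_lit 0xeeac5c5cf) (.leaf (nat_lit 0xeea3dc5fe) (nat_lit 1027))
 (.node (nat_lit 0xeeaf9c5f1) (.leaf (nat_lit 0xeeac5c5cf) (nat_lit 771))
 (.leaf (nat_lit 0xeeaf9c5f1) (nat_lit 1283))
))))))) (.node (nat_lit 0xf7bc6a70f) (.node (nat_lit 0xf37ea3e55) (.node (nat_lit 0xf0ebe3dfa) (.node (nat_lit 0xefdf9cab1) (.node (nat_lit 0xef1f5c3ea) (.node (nat_lit 0xef1a9c3d7) (.leaf (nat_lit 0xef15dc3fd) (nat_lit 1284))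
 (.leaf (nat_lit 0xef1a9c3d7) (nat_lit 1028))
) (.node (nat_lit 0xefd3dcabe) (.leaf (nat_lit 0xef1f5c3ea) (nat_lit 1281))
 (.node (nat_lit 0xefdc5ca8f) (.leaf (nat_lit 0xefd3dcabe) (nat_lit 1282))
 (.leaf (nat_lit 0xefdc5ca8f) (nat_lit 1283))
))) (.node (nat_lit 0xefea9cc57) (.node (nat_lit 0xefe5dcc7d) (.leaf (nat_lit 0xefdf9cab1) (nat_lit 1285))
 (.leaf (nat_lit 0xefe5dcc7d) (nat_lit 1538))
) (.node (nat_lit 0xefef5cc6a) (.leaf (nat_lit 0xefea9cc57) (nat_lit 1280))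
 (.node (nat_lit 0xf0e563def) (.leaf (nat_lit 0xefef5cc6a) (nat_lit 1029))
 (.leaf (nat_lit 0xf0e563def) (nat_lit 1283))
)))) (.node (nat_lit 0xf2f3a3eb7) (.node (nat_lit 0xf153a3bf7) (.node (nat_lit 0xf0eea3dd5) (.leaf (nat_lit 0xf0ebe3dfa) (nat_lit 1281))
 (.leaf (nat_lit 0xf0eea3dd5) (nat_lit 1285))
) (.node (nat_lit 0xf15de3bf9) (.leaf (nat_lit 0xf153a3bf7) (nat_lit 1540))
 (.node (nat_lit 0xf15e63bce) (.leaf (nat_lit 0xf15de3bf9) (nat_lit 1537))
 (.leaf (nat_lit 0xf15e63bce) (nat_lit 1285))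
))) (.node (nat_lit 0xf2fe63e8e) (.node (nat_lit 0xf2fde3eb9) (.leaf (nat_lit 0xf2f3a3eb7) (nat_lit 1536))
 (.leaf (nat_lit 0xf2fde3eb9) (nat_lit 1029))
) (.node (nat_lit 0xf37563e6f) (.leaf (nat_lit 0xf2fe63e8e) (nat_lit 1285))
 (.node (nat_lit 0xf37be3e7a) (.leaf (nat_lit 0xf37563e6f) (nat_lit 1280))
 (.leaf (nat_lit 0xf37be3e7a) (nat_lit 773))
))))) (.node (nat_lit 0xf5c3ea9fe) (.node (nat_lit 0xf3ade3579) (.node (nat_lit 0xf39be33ba) (.node (nat_lit 0xf395633af) (.leaf (nat_lit 0xf37ea3e55) (nat_lit 1024))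
 (.leaf (nat_lit 0xf395633af) (nat_lit 1029))
) (.node (nat_lit 0xf39ea3395) (.leaf (nat_lit 0xf39be33ba) (nat_lit 1025))
 (.node (nat_lit 0xf3a3a3577) (.leaf (nat_lit 0xf39ea3395) (nat_lit 1282))
 (.leaf (nat_lit 0xf3a3a3577) (nat_lit 1285))
))) (.node (nat_lit 0xf4f72afa7) (.node (nat_lit 0xf3ae6354e) (.leaf (nat_lit 0xf3ade3579) (nat_lit 1285))
 (.leaf (nat_lit 0xf3ae6354e) (nat_lit 1538))
) (.node (nat_lit 0xf4f9eafbb) (.leaf (nat_lit 0xf4f72afa7) (nat_lit 1027))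
 (.node (nat_lit 0xf4feeaf9c) (.leaf (nat_lit 0xf4f9eafbb) (nat_lit 1285))
 (.leaf (nat_lit 0xf4feeaf9c) (nat_lit 1282))
)))) (.node (nat_lit 0xf67faaef1) (.node (nat_lit 0xf5cfaa9f1) (.node (nat_lit 0xf5cc6a9cf) (.leaf (nat_lit 0xf5c3ea9fe) (nat_lit 1284))
 (.leaf (nat_lit 0xf5cc6a9cf) (nat_lit 1283))
) (.node (nat_lit 0xf673eaefe) (.leaf (nat_lit 0xf5cfaa9f1) (nat_lit 1281))
 (.node (nat_lit 0xf67c6aecf) (.leaf (nat_lit 0xf673eaefe) (nat_lit 1541))
 (.leaf (nat_lit 0xf67c6aecf) (nat_lit 1539))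
))) (.node (nat_lit 0xf719ea3fb) (.node (nat_lit 0xf7172a3e7) (.leaf (nat_lit 0xf67faaef1) (nat_lit 1541))
 (.leaf (nat_lit 0xf7172a3e7) (nat_lit 1027))
) (.node (nat_lit 0xf71eea3dc) (.leaf (nat_lit 0xf719ea3fb) (nat_lit 1283))
 (.node (nat_lit 0xf7b3ea73e) (.leaf (nat_lit 0xf71eea3dc) (nat_lit 1026))
 (.leaf (nat_lit 0xf7b3ea73e) (nat_lit 1538))
)))))) (.node (nat_lit 0xfbd731aa7) (.node (nat_lit 0xf9cf719ea) (.node (nat_lit 0xf97731f67) (.node (nat_lit 0xf7e72ac67) (.node (nat_lit 0xf7bfaa731) (.leaf (nat_lit 0xf7bc6a70f) (nat_lit 1282))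
 (.leaf (nat_lit 0xf7bfaa731) (nat_lit 1029))
) (.node (nat_lit 0xf7e9eac7b) (.leaf (nat_lit 0xf7e72ac67) (nat_lit 1283))
 (.node (nat_lit 0xf7eeeac5c) (.leaf (nat_lit 0xf7e9eac7b) (nat_lit 1285))
 (.leaf (nat_lit 0xf7eeeac5c) (nat_lit 1285))
))) (.node (nat_lit 0xf97ef1f5c) (.node (nat_lit 0xf979f1f7b) (.leaf (nat_lit 0xf97731f67) (nat_lit 1283))
 (.leaf (nat_lit 0xf979f1f7b) (nat_lit 1538))
) (.node (nat_lit 0xf9c5f19fd) (.leaf (nat_lit 0xf97ef1f5c) (nat_lit 1538))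
 (.node (nat_lit 0xf9cab19d7) (.leaf (nat_lit 0xf9c5f19fd) (nat_lit 1283))
 (.leaf (nat_lit 0xf9cab19d7) (nat_lit 1282))
)))) (.node (nat_lit 0xfaa9f15fb) (.node (nat_lit 0xfa7ab1ed7) (.node (nat_lit 0xfa75f1efd) (.leaf (nat_lit 0xf9cf719ea) (nat_lit 1282))
 (.leaf (nat_lit 0xfa75f1efd) (nat_lit 1285))
) (.node (nat_lit 0xfa7f71eea) (.leaf (nat_lit 0xfa7ab1ed7) (nat_lit 1283))
 (.node (nat_lit 0xfaa7315e7) (.leaf (nat_lit 0xfa7f71eea) (nat_lit 1285))
 (.leaf (nat_lit 0xfaa7315e7) (nat_lit 1283))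
))) (.node (nat_lit 0xfbb5f173d) (.node (nat_lit 0xfaaef15dc) (.leaf (nat_lit 0xfaa9f15fb) (nat_lit 1285))
 (.leaf (nat_lit 0xfaaef15dc) (nat_lit 1282))
) (.node (nat_lit 0xfbbab1717) (.leaf (nat_lit 0xfbb5f173d) (nat_lit 1282))
 (.node (nat_lit 0xfbbf7172a) (.leaf (nat_lit 0xfbbab1717) (nat_lit 1026))
 (.leaf (nat_lit 0xfbbf7172a) (nat_lit 1285))
))))) (.node (nat_lit 0xfebbb87b3) (.node (nat_lit 0xfddd78bab) (.node (nat_lit 0xfbdef1a9c) (.node (nat_lit 0xfbd9f1abb) (.leaf (nat_lit 0xfbd731aa7) (nat_lit 1280))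
 (.leaf (nat_lit 0xfbd9f1abb) (nat_lit 1541))
) (.node (nat_lit 0xfdd7b8bb5) (.leaf (nat_lit 0xfbdef1a9c) (nat_lit 1029))
 (.node (nat_lit 0xfddaf8b9e) (.leaf (nat_lit 0xfdd7b8bb5) (nat_lit 1282))
 (.leaf (nat_lit 0xfddaf8b9e) (nat_lit 1026))
))) (.node (nat_lit 0xfdebb8d73) (.node (nat_lit 0xfde778d6e) (.leaf (nat_lit 0xfddd78bab) (nat_lit 1026))
 (.leaf (nat_lit 0xfde778d6e) (nat_lit 1538))
) (.node (nat_lit 0xfdecf8d5d) (.leaf (nat_lit 0xfdebb8d73) (nat_lit 1282))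
 (.node (nat_lit 0xfeb7787ae) (.leaf (nat_lit 0xfdecf8d5d) (nat_lit 1282))
 (.leaf (nat_lit 0xfeb7787ae) (nat_lit 1282))
)))) (.node (nat_lit 0xff37b8775) (.node (nat_lit 0xfee7b8cf5) (.node (nat_lit 0xfebcf879d) (.leaf (nat_lit 0xfebbb87b3) (nat_lit 1541))
 (.leaf (nat_lit 0xfebcf879d) (nat_lit 1026))
) (.node (nat_lit 0xfeeaf8cde) (.leaf (nat_lit 0xfee7b8cf5) (nat_lit 1283))
 (.node (nat_lit 0xfeed78ceb) (.leaf (nat_lit 0xfeeaf8cde) (nat_lit 1282))
 (.leaf (nat_lit 0xfeed78ceb) (nat_lit 1283))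
))) (.node (nat_lit 0xff5778aee) (.node (nat_lit 0xff3af875e) (.leaf (nat_lit 0xff37b8775) (nat_lit 1026))
 (.node (nat_lit 0xff3d7876b) (.leaf (nat_lit 0xff3af875e) (nat_lit 770))
 (.leaf (nat_lit 0xff3d7876b) (nat_lit 1282))
)) (.node (nat_lit 0xff5bb8af3) (.leaf (nat_lit 0xff5778aee) (nat_lit 1282))
 (.node (nat_lit 0xff5cf8add) (.leaf (nat_lit 0xff5bb8af3) (nat_lit 1540))
 (.leaf (nat_lit 0xff5cf8add) (nat_lit 1541))
))))))))))

theorem CC_ok : genOK B6.A [(nat_lit 0x810044089), (nat_lit 0x802204481), (nat_lit 0x110224081), (nat_lit 0x408802044), (nat_lit 0x808404042), (nat_lit 0xe33ac775e)] CC_t (nat_lit 648) = true := by decide +kernel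

noncomputable def Q1_t : ST :=
(.node (nat_lit 0xe2bcc779d) (.node (nat_lit 0x8efddfeb9) (.node (nat_lit 0x810204081) (.leaf (nat_lit 0x808404042) (nat_lit 512))
 (.leaf (nat_lit 0x810204081) (nat_lit 0))
) (.node (nat_lit 0x8f7bdfe7a) (.leaf (nat_lit 0x8efddfeb9) (nat_lit 769))
 (.leaf (nat_lit 0x8f7bdfe7a) (nat_lit 257))
)) (.node (nat_lit 0xecf5dcfbd) (.node (nat_lit 0xe33ac775e) (.leaf (nat_lit 0xe2bcc779d) (nat_lit 768))
 (.leaf (nat_lit 0xe33ac775e) (nat_lit 256))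
) (.node (nat_lit 0xed73dcf7e) (.leaf (nat_lit 0xecf5dcfbd) (nat_lit 513))
 (.leaf (nat_lit 0xed73dcf7e) (nat_lit 512))
)))

theorem Q1_ok : genOK B6.A [(nat_lit 0xe33ac775e), (nat_lit 0x8f7bdfe7a)] Q1_t (nat_lit 8) = true := by decide +kernel

noncomputable def R1_t : ST :=
(.node (nat_lit 0x260088112) (.node (nat_lit 0x102064489) (.node (nat_lit 0x81112264) (.node (nat_lit 0x60489110) (.leaf (nat_lit 0x44089912) (nat_lit 770))
 (.node (nat_lit 0x64409802) (.leaf (nat_lit 0x60489110) (nat_lit 770))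
 (.leaf (nat_lit 0x64409802) (nat_lit 1025))
)) (.node (nat_lit 0x88912060) (.leaf (nat_lit 0x81112264) (nat_lit 514))
 (.node (nat_lit 0x89812204) (.leaf (nat_lit 0x88912060) (nat_lit 769))
 (.leaf (nat_lit 0x89812204) (nat_lit 770))
))) (.node (nat_lit 0x204481910) (.node (nat_lit 0x110264088) (.leaf (nat_lit 0x102064489) (nat_lit 256))
 (.node (nat_lit 0x112224401) (.leaf (nat_lit 0x110264088) (nat_lit 513))
 (.leaf (nat_lit 0x112224401) (nat_lit 769))
)) (.node (nat_lit 0x224081812) (.node (nat_lit 0x220401102) (.leaf (nat_lit 0x204481910) (nat_lit 1026))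
 (.leaf (nat_lit 0x220401102) (nat_lit 514))
) (.node (nat_lit 0x244408902) (.leaf (nat_lit 0x224081812) (nat_lit 769))
 (.leaf (nat_lit 0x244408902) (nat_lit 770))
)))) (.node (nat_lit 0x489910220) (.node (nat_lit 0x408802044) (.node (nat_lit 0x264488810) (.leaf (nat_lit 0x260088112) (nat_lit 1026))
 (.node (nat_lit 0x401902260) (.leaf (nat_lit 0x264488810) (nat_lit 1026))
 (.leaf (nat_lit 0x401902260) (nat_lit 769))
)) (.node (nat_lit 0x481810244) (.node (nat_lit 0x409102224) (.leaf (nat_lit 0x408802044) (nat_lit 258))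
 (.leaf (nat_lit 0x409102224) (nat_lit 513))
) (.node (nat_lit 0x488110064) (.leaf (nat_lit 0x481810244) (nat_lit 514))
 (.leaf (nat_lit 0x488110064) (nat_lit 769))
))) (.node (nat_lit 0x812044409) (.node (nat_lit 0x802244488) (.leaf (nat_lit 0x489910220) (nat_lit 770))
 (.node (nat_lit 0x810204081) (.leaf (nat_lit 0x802244488) (nat_lit 513))
 (.leaf (nat_lit 0x810204081) (nat_lit 0))
)) (.node (nat_lit 0x910060089) (.node (nat_lit 0x902220481) (.leaf (nat_lit 0x812044409) (nat_lit 257))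
 (.leaf (nat_lit 0x902220481) (nat_lit 769))
) (.node (nat_lit 0x912260408) (.leaf (nat_lit 0x910060089) (nat_lit 1025))
 (.leaf (nat_lit 0x912260408) (nat_lit 512))
)))))

theorem R1_ok : genOK B6.A [(nat_lit 0x102064489), (nat_lit 0x812044409), (nat_lit 0x408802044)] R1_t (nat_lit 27) = true := by decide +kernel

noncomputable def F_t : ST :=
(.node (nat_lit 0x809084212) (.node (nat_lit 0x110224081) (.node (nat_lit 0x1080a4052) (.node (nat_lit 0x102060489) (.node (nat_lit 0x101424242) (.node (nat_lit 0x1010a4252) (.leaf (nat_lit 0x1010a0252) (nat_lit 1028))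
 (.node (nat_lit 0x101420242) (.leaf (nat_lit 0x1010a4252) (nat_lit 771))
 (.leaf (nat_lit 0x101420242) (nat_lit 1540))
)) (.node (nat_lit 0x1014a0250) (.leaf (nat_lit 0x101424242) (nat_lit 1283))
 (.node (nat_lit 0x1014a4250) (.leaf (nat_lit 0x1014a0250) (nat_lit 1028))
 (.leaf (nat_lit 0x1014a4250) (nat_lit 771))
))) (.node (nat_lit 0x102224481) (.node (nat_lit 0x102064489) (.leaf (nat_lit 0x102060489) (nat_lit 772))
 (.node (nat_lit 0x102220481) (.leaf (nat_lit 0x102064489) (nat_lit 515))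
 (.leaf (nat_lit 0x102220481) (nat_lit 1284))
)) (.node (nat_lit 0x102264488) (.node (nat_lit 0x102260488) (.leaf (nat_lit 0x102224481) (nat_lit 1027))
 (.leaf (nat_lit 0x102260488) (nat_lit 1028))
) (.node (nat_lit 0x1080a0052) (.leaf (nat_lit 0x102264488) (nat_lit 771))
 (.leaf (nat_lit 0x1080a0052) (nat_lit 1540))
)))) (.node (nat_lit 0x109420202) (.node (nat_lit 0x1084a0050) (.node (nat_lit 0x108420042) (.leaf (nat_lit 0x1080a4052) (nat_lit 1283))
 (.node (nat_lit 0x108424042) (.leaf (nat_lit 0x108420042) (nat_lit 772))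
 (.leaf (nat_lit 0x108424042) (nat_lit 515))
)) (.node (nat_lit 0x1090a0212) (.node (nat_lit 0x1084a4050) (.leaf (nat_lit 0x1084a0050) (nat_lit 1284))
 (.leaf (nat_lit 0x1084a4050) (nat_lit 1027))
) (.node (nat_lit 0x1090a4212) (.leaf (nat_lit 0x1090a0212) (nat_lit 1028))
 (.leaf (nat_lit 0x1090a4212) (nat_lit 771))
))) (.node (nat_lit 0x1094a4210) (.node (nat_lit 0x109424202) (.leaf (nat_lit 0x109420202) (nat_lit 1284))
 (.node (nat_lit 0x1094a0210) (.leaf (nat_lit 0x109424202) (nat_lit 1027))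
 (.leaf (nat_lit 0x1094a0210) (nat_lit 1284))
)) (.node (nat_lit 0x110064089) (.node (nat_lit 0x110060089) (.leaf (nat_lit 0x1094a4210) (nat_lit 1027))
 (.leaf (nat_lit 0x110060089) (nat_lit 1540))
) (.node (nat_lit 0x110220081) (.leaf (nat_lit 0x110064089) (nat_lit 1283))
 (.leaf (nat_lit 0x110220081) (nat_lit 516))
))))) (.node (nat_lit 0x801484250) (.node (nat_lit 0x112224401) (.node (nat_lit 0x112060409) (.node (nat_lit 0x110260088) (.leaf (nat_lit 0x110224081) (nat_lit 259))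
 (.node (nat_lit 0x110264088) (.leaf (nat_lit 0x110260088) (nat_lit 1028))
 (.leaf (nat_lit 0x110264088) (nat_lit 771))
)) (.node (nat_lit 0x112064409) (.leaf (nat_lit 0x112060409) (nat_lit 772))
 (.node (nat_lit 0x112220401) (.leaf (nat_lit 0x112064409) (nat_lit 515))
 (.leaf (nat_lit 0x112220401) (nat_lit 1284))
))) (.node (nat_lit 0x801084252) (.node (nat_lit 0x112260408) (.leaf (nat_lit 0x112224401) (nat_lit 1027))
 (.node (nat_lit 0x112264408) (.leaf (nat_lit 0x112260408) (nat_lit 1028))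
 (.leaf (nat_lit 0x112264408) (nat_lit 771))
)) (.node (nat_lit 0x801404242) (.node (nat_lit 0x8010a4252) (.leaf (nat_lit 0x801084252) (nat_lit 514))
 (.leaf (nat_lit 0x8010a4252) (nat_lit 772))
) (.node (nat_lit 0x801424242) (.leaf (nat_lit 0x801404242) (nat_lit 1025))
 (.leaf (nat_lit 0x801424242) (nat_lit 1284))
)))) (.node (nat_lit 0x802264488) (.node (nat_lit 0x802064489) (.node (nat_lit 0x8014a4250) (.leaf (nat_lit 0x801484250) (nat_lit 514))
 (.node (nat_lit 0x802044489) (.leaf (nat_lit 0x8014a4250) (nat_lit 772))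
 (.leaf (nat_lit 0x802044489) (nat_lit 256))
)) (.node (nat_lit 0x802224481) (.node (nat_lit 0x802204481) (.leaf (nat_lit 0x802064489) (nat_lit 516))
 (.leaf (nat_lit 0x802204481) (nat_lit 769))
) (.node (nat_lit 0x802244488) (.leaf (nat_lit 0x802224481) (nat_lit 1028))
 (.leaf (nat_lit 0x802244488) (nat_lit 513))
))) (.node (nat_lit 0x808404042) (.node (nat_lit 0x808084052) (.leaf (nat_lit 0x802264488) (nat_lit 772))
 (.node (nat_lit 0x8080a4052) (.leaf (nat_lit 0x808084052) (nat_lit 1026))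
 (.leaf (nat_lit 0x8080a4052) (nat_lit 1284))
)) (.node (nat_lit 0x808484050) (.node (nat_lit 0x808424042) (.leaf (nat_lit 0x808404042) (nat_lit 258))
 (.leaf (nat_lit 0x808424042) (nat_lit 516))
) (.node (nat_lit 0x8084a4050) (.leaf (nat_lit 0x808484050) (nat_lit 769))
 (.leaf (nat_lit 0x8084a4050) (nat_lit 1028))
)))))) (.node (nat_lit 0x902220481) (.node (nat_lit 0x812064409) (.node (nat_lit 0x810044089) (.node (nat_lit 0x809424202) (.node (nat_lit 0x8090a4212) (.leaf (nat_lit 0x809084212) (nat_lit 513))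
 (.node (nat_lit 0x809404202) (.leaf (nat_lit 0x8090a4212) (nat_lit 772))
 (.leaf (nat_lit 0x809404202) (nat_lit 770))
)) (.node (nat_lit 0x809484210) (.leaf (nat_lit 0x809424202) (nat_lit 1028))
 (.node (nat_lit 0x8094a4210) (.leaf (nat_lit 0x809484210) (nat_lit 770))
 (.leaf (nat_lit 0x8094a4210) (nat_lit 1028))
))) (.node (nat_lit 0x810224081) (.node (nat_lit 0x810064089) (.leaf (nat_lit 0x810044089) (nat_lit 1025))
 (.node (nat_lit 0x810204081) (.leaf (nat_lit 0x810064089) (nat_lit 1284))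
 (.leaf (nat_lit 0x810204081) (nat_lit 0))
)) (.node (nat_lit 0x810264088) (.node (nat_lit 0x810244088) (.leaf (nat_lit 0x810224081) (nat_lit 260))
 (.leaf (nat_lit 0x810244088) (nat_lit 513))
) (.node (nat_lit 0x812044409) (.leaf (nat_lit 0x810264088) (nat_lit 772))
 (.leaf (nat_lit 0x812044409) (nat_lit 257))
)))) (.node (nat_lit 0x901404242) (.node (nat_lit 0x812244408) (.node (nat_lit 0x812204401) (.leaf (nat_lit 0x812064409) (nat_lit 516))
 (.node (nat_lit 0x812224401) (.leaf (nat_lit 0x812204401) (nat_lit 769))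
 (.leaf (nat_lit 0x812224401) (nat_lit 1028))
)) (.node (nat_lit 0x901084252) (.node (nat_lit 0x812264408) (.leaf (nat_lit 0x812244408) (nat_lit 512))
 (.leaf (nat_lit 0x812264408) (nat_lit 772))
) (.node (nat_lit 0x9010a0252) (.leaf (nat_lit 0x901084252) (nat_lit 1027))
 (.leaf (nat_lit 0x9010a0252) (nat_lit 1027))
))) (.node (nat_lit 0x9014a0250) (.node (nat_lit 0x901420242) (.leaf (nat_lit 0x901404242) (nat_lit 1539))
 (.node (nat_lit 0x901484250) (.leaf (nat_lit 0x901420242) (nat_lit 1539))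
 (.leaf (nat_lit 0x901484250) (nat_lit 1027))
)) (.node (nat_lit 0x902060489) (.node (nat_lit 0x902044489) (.leaf (nat_lit 0x9014a0250) (nat_lit 1027))
 (.leaf (nat_lit 0x902044489) (nat_lit 771))
) (.node (nat_lit 0x902204481) (.leaf (nat_lit 0x902060489) (nat_lit 771))
 (.leaf (nat_lit 0x902204481) (nat_lit 1283))
))))) (.node (nat_lit 0x909484210) (.node (nat_lit 0x908420042) (.node (nat_lit 0x908084052) (.node (nat_lit 0x902244488) (.leaf (nat_lit 0x902220481) (nat_lit 1283))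
 (.node (nat_lit 0x902260488) (.leaf (nat_lit 0x902244488) (nat_lit 1027))
 (.leaf (nat_lit 0x902260488) (nat_lit 1027))
)) (.node (nat_lit 0x9080a0052) (.leaf (nat_lit 0x908084052) (nat_lit 1539))
 (.node (nat_lit 0x908404042) (.leaf (nat_lit 0x9080a0052) (nat_lit 1539))
 (.leaf (nat_lit 0x908404042) (nat_lit 771))
))) (.node (nat_lit 0x909084212) (.node (nat_lit 0x908484050) (.leaf (nat_lit 0x908420042) (nat_lit 771))
 (.node (nat_lit 0x9084a0050) (.leaf (nat_lit 0x908484050) (nat_lit 1283))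
 (.leaf (nat_lit 0x9084a0050) (nat_lit 1283))
)) (.node (nat_lit 0x909404202) (.node (nat_lit 0x9090a0212) (.leaf (nat_lit 0x909084212) (nat_lit 1027))
 (.leaf (nat_lit 0x9090a0212) (nat_lit 1027))
) (.node (nat_lit 0x909420202) (.leaf (nat_lit 0x909404202) (nat_lit 1283))
 (.leaf (nat_lit 0x909420202) (nat_lit 1283))
)))) (.node (nat_lit 0x910260088) (.node (nat_lit 0x910060089) (.node (nat_lit 0x9094a0210) (.leaf (nat_lit 0x909484210) (nat_lit 1283))
 (.node (nat_lit 0x910044089) (.leaf (nat_lit 0x9094a0210) (nat_lit 1283))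
 (.leaf (nat_lit 0x910044089) (nat_lit 1539))
)) (.node (nat_lit 0x910220081) (.node (nat_lit 0x910204081) (.leaf (nat_lit 0x910060089) (nat_lit 1539))
 (.leaf (nat_lit 0x910204081) (nat_lit 515))
) (.node (nat_lit 0x910244088) (.leaf (nat_lit 0x910220081) (nat_lit 515))
 (.leaf (nat_lit 0x910244088) (nat_lit 1027))
))) (.node (nat_lit 0x912204401) (.node (nat_lit 0x912044409) (.leaf (nat_lit 0x910260088) (nat_lit 1027))
 (.node (nat_lit 0x912060409) (.leaf (nat_lit 0x912044409) (nat_lit 771))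
 (.leaf (nat_lit 0x912060409) (nat_lit 771))
)) (.node (nat_lit 0x912244408) (.node (nat_lit 0x912220401) (.leaf (nat_lit 0x912204401) (nat_lit 1283))
 (.leaf (nat_lit 0x912220401) (nat_lit 1283))
) (.node (nat_lit 0x912260408) (.leaf (nat_lit 0x912244408) (nat_lit 1027))
 (.leaf (nat_lit 0x912260408) (nat_lit 1027))
)))))))

theorem F_ok : genOK B6.A [(nat_lit 0x802044489), (nat_lit 0x812044409), (nat_lit 0x808404042), (nat_lit 0x110224081), (nat_lit 0x810224081)] F_t (nat_lit 108) = true := by decide +kernel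

noncomputable def Za_t : ST :=
(.node (nat_lit 0x810204081) (.node (nat_lit 0x80b4c4042) (.node (nat_lit 0x80840465a) (.leaf (nat_lit 0x808404042) (nat_lit 256))
 (.leaf (nat_lit 0x80840465a) (nat_lit 257))
) (.node (nat_lit 0x80b4c465a) (.leaf (nat_lit 0x80b4c4042) (nat_lit 514))
 (.leaf (nat_lit 0x80b4c465a) (nat_lit 514))
)) (.node (nat_lit 0x8132c4081) (.node (nat_lit 0x810204699) (.leaf (nat_lit 0x810204081) (nat_lit 0))
 (.leaf (nat_lit 0x810204699) (nat_lit 513))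
) (.node (nat_lit 0x8132c4699) (.leaf (nat_lit 0x8132c4081) (nat_lit 770))
 (.leaf (nat_lit 0x8132c4699) (nat_lit 258))
)))

theorem Za_ok : genOK B6.A [(nat_lit 0x808404042), (nat_lit 0x80840465a), (nat_lit 0x8132c4699)] Za_t (nat_lit 8) = true := by decide +kernel

noncomputable def Zd_t : ST :=
(.node (nat_lit 0x8106040c1) (.node (nat_lit 0x810204481) (.node (nat_lit 0x810204291) (.leaf (nat_lit 0x810204081) (nat_lit 0))
 (.leaf (nat_lit 0x810204291) (nat_lit 513))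
) (.node (nat_lit 0x810204691) (.leaf (nat_lit 0x810204481) (nat_lit 256))
 (.leaf (nat_lit 0x810204691) (nat_lit 257))
)) (.node (nat_lit 0x8106044c1) (.node (nat_lit 0x8106042d1) (.leaf (nat_lit 0x8106040c1) (nat_lit 770))
 (.leaf (nat_lit 0x8106042d1) (nat_lit 514))
) (.node (nat_lit 0x8106046d1) (.leaf (nat_lit 0x8106044c1) (nat_lit 514))
 (.leaf (nat_lit 0x8106046d1) (nat_lit 258))
)))

theorem Zd_ok : genOK B6.A [(nat_lit 0x810204481), (nat_lit 0x810204691), (nat_lit 0x8106046d1)] Zd_t (nat_lit 8) = true := by decide +kernel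

noncomputable def S3_t : ST :=
(.node (nat_lit 0x810224081) (.node (nat_lit 0x110224081) (.leaf (nat_lit 0x110220081) (nat_lit 513))
 (.node (nat_lit 0x810204081) (.leaf (nat_lit 0x110224081) (nat_lit 256))
 (.leaf (nat_lit 0x810204081) (nat_lit 0))
)) (.node (nat_lit 0x910204081) (.leaf (nat_lit 0x810224081) (nat_lit 257))
 (.node (nat_lit 0x910220081) (.leaf (nat_lit 0x910204081) (nat_lit 512))
 (.leaf (nat_lit 0x910220081) (nat_lit 512))
)))

theorem S3_ok : genOK B6.A [(nat_lit 0x110224081), (nat_lit 0x810224081)] S3_t (nat_lit 6) = true := by decide +kernel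

noncomputable def O32_t : ST :=
(.node (nat_lit 0x910204081) (.node (nat_lit 0x510230d81) (.node (nat_lit 0x3102280ad) (.node (nat_lit 0x1b6222081) (.node (nat_lit 0x150b61081) (.leaf (nat_lit 0x110220081) (nat_lit 262))
 (.leaf (nat_lit 0x150b61081) (nat_lit 1028))
) (.node (nat_lit 0x1f7be3081) (.leaf (nat_lit 0x1b6222081) (nat_lit 769))
 (.leaf (nat_lit 0x1f7be3081) (nat_lit 1280))
)) (.node (nat_lit 0x3be22a0af) (.node (nat_lit 0x3509690ac) (.leaf (nat_lit 0x3102280ad) (nat_lit 516))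
 (.leaf (nat_lit 0x3509690ac) (nat_lit 772))
) (.node (nat_lit 0x3ff9eb0ae) (.leaf (nat_lit 0x3be22a0af) (nat_lit 773))
 (.leaf (nat_lit 0x3ff9eb0ae) (nat_lit 1024))
))) (.node (nat_lit 0x710238fbd) (.node (nat_lit 0x5a6232d01) (.node (nat_lit 0x550f71dc1) (.leaf (nat_lit 0x510230d81) (nat_lit 263))
 (.leaf (nat_lit 0x550f71dc1) (nat_lit 1029))
) (.node (nat_lit 0x5e7ff3d41) (.leaf (nat_lit 0x5a6232d01) (nat_lit 513))
 (.leaf (nat_lit 0x5e7ff3d41) (nat_lit 1281))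
)) (.node (nat_lit 0x7ae23af3f) (.node (nat_lit 0x750d79ffc) (.leaf (nat_lit 0x710238fbd) (nat_lit 1031))
 (.leaf (nat_lit 0x750d79ffc) (nat_lit 1287))
) (.node (nat_lit 0x7efdfbf7e) (.leaf (nat_lit 0x7ae23af3f) (nat_lit 1029))
 (.leaf (nat_lit 0x7efdfbf7e) (nat_lit 1280))
)))) (.node (nat_lit 0xd10204581) (.node (nat_lit 0xb1020408d) (.node (nat_lit 0x996204081) (.node (nat_lit 0x950344081) (.leaf (nat_lit 0x910204081) (nat_lit 0))
 (.leaf (nat_lit 0x950344081) (nat_lit 1284))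
) (.node (nat_lit 0x9d73c4081) (.leaf (nat_lit 0x996204081) (nat_lit 1025))
 (.leaf (nat_lit 0x9d73c4081) (nat_lit 1536))
)) (.node (nat_lit 0xb9e20408f) (.node (nat_lit 0xb5014408c) (.leaf (nat_lit 0xb1020408d) (nat_lit 772))
 (.leaf (nat_lit 0xb5014408c) (nat_lit 1028))
) (.node (nat_lit 0xbdf1c408e) (.leaf (nat_lit 0xb9e20408f) (nat_lit 1029))
 (.leaf (nat_lit 0xbdf1c408e) (nat_lit 1280))
))) (.node (nat_lit 0xf1020479d) (.node (nat_lit 0xd86204501) (.node (nat_lit 0xd507445c1) (.leaf (nat_lit 0xd10204581) (nat_lit 519))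
 (.leaf (nat_lit 0xd507445c1) (nat_lit 1285))
) (.node (nat_lit 0xdc77c4541) (.leaf (nat_lit 0xd86204501) (nat_lit 769))
 (.leaf (nat_lit 0xdc77c4541) (nat_lit 1537))
)) (.node (nat_lit 0xf8e20471f) (.node (nat_lit 0xf505447dc) (.leaf (nat_lit 0xf1020479d) (nat_lit 775))
 (.leaf (nat_lit 0xf505447dc) (nat_lit 1031))
) (.node (nat_lit 0xfcf5c475e) (.leaf (nat_lit 0xf8e20471f) (nat_lit 1025))
 (.leaf (nat_lit 0xfcf5c475e) (nat_lit 1281))
)))))

theorem O32_ok : orbOK B6.A [(nat_lit 0x810044089), (nat_lit 0x802204481), (nat_lit 0x810204089), (nat_lit 0x810204481), (nat_lit 0x808404042), (nat_lit 0x810204699), (nat_lit 0x810224081), (nat_lit 0x810234c81)] (nat_lit 0x910204081) O32_t (nat_lit 32) = true := by decide +kernel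

def wK : List (List ℕ) :=
  [[5, 5, 4, 3, 6, 2, 3, 4, 1, 2, 3, 6, 5, 4, 3, 2, 1, 0, 1, 2, 3, 4, 5, 6, 3, 2, 1, 4, 3, 2, 6, 3, 4, 5],
   [1, 0],
   [3, 6],
   [1, 1, 2, 3, 6, 4, 3, 2, 1, 0, 1, 2, 3, 4, 6, 3, 2, 1, 5, 2, 1, 1, 2, 3, 6, 4, 3, 2, 1, 0, 1, 2, 3, 4, 6, 3, 2, 1, 4, 5, 3, 2, 1, 1, 2, 3, 6, 4, 3, 2, 1, 0, 1, 2, 3, 4, 6, 3, 2, 1, 4, 3, 2, 1],
   [1, 2, 3, 6, 4, 3, 2, 1, 0, 1, 2, 3, 4, 6, 3, 2, 1, 5, 1, 1, 2, 3, 6, 4, 3, 2, 1, 0, 1, 2, 3, 4, 6, 3, 2, 1, 5, 4, 3, 6, 2, 3, 4, 1, 2, 3, 6, 5, 4, 3, 2, 1, 0, 1, 2, 3, 4, 5, 6, 3, 2, 1, 4, 3, 2, 6, 3, 4, 5, 5, 0, 1, 1, 2, 3, 6, 4, 3, 2, 1, 0, 1, 2, 3, 4, 6, 3, 2, 1, 5, 5, 4, 3, 6, 2, 3, 4, 1, 2, 3, 6, 5, 4, 3, 2, 1, 0, 1, 2, 3, 4, 5, 6, 3, 2, 1, 4, 3, 2, 6, 3, 4, 5, 5, 0, 1, 0],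
   [5, 4, 3, 6, 2, 3, 4, 1, 2, 3, 6, 5, 4, 3, 2, 1, 0, 1, 2, 3, 4, 5, 6, 3, 2, 1, 4, 3, 2, 6, 3, 4, 5],
   [0],
   [6],
   [3, 4, 5, 3, 2, 0, 1, 1, 2, 3, 6, 4, 3, 2, 1, 0, 1, 2, 3, 4, 6, 3, 2, 1, 3, 6, 5, 4, 1, 0],
   [1, 2, 3, 6, 4, 3, 2, 1, 0, 1, 2, 3, 4, 6, 3, 2, 1]]

theorem wK_ok : beqL (wK.map (evC B6.A T16.Sp6.cS)) F4L.cK = true := by decide +kernel

end Cfsg.Agent.S8
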