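import Mathlib
import Cfsg.Agent.S8.Defs
import Cfsg.Agent.S8.LData

/-! The listed subgroups of `Sp₆(2)`; use `s.hL.decide s.rep (by decide +kernel)`. -/

set_option autoImplicit false
set_option linter.unusedSectionVars false
set_option synthInstance.maxSize 100000
set_option synthInstance.maxHeartbeats 1000000
set_option maxRecDepth 100000

namespace Cfsg.Agent.S8

open Cfsg.Agent.Spor Cfsg.Agent.Rec Cfsg.Agent.Inv.Fz Cfsg.Agent.T16 Cfsg.Agent.F4L Subgroup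

universe u

variable {G : Type u} [Group G]

namespace Lt

variable (s : Lt G)

/-- `Sp(V₃)`. -/
def S3 : Subgroup G := clos [s.e3, s.d3]

/-- The seven transvections forming a diagram of type `E₇`. -/
noncomputable def st : Sp6.St G where
  d2 := s.d2
  x2 := s.e2 * s.d2
  q1 := s.v * s.x * s.v⁻¹
  x3 := s.e3 * s.d3
  q2 := s.v * (s.v * s.x * s.v⁻¹) * s.v⁻¹
  x1 := s.e1 * s.d1
  d3 := s.d3
  C := s.C
  rep0 := by
    unfold Sp6.cS
    exact (s.rep.term _ (by decide +kernel)).cons <| (s.rep.term _ (by decide +kernel)).cons <|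
      (s.rep.term _ (by decide +kernel)).cons <| (s.rep.term _ (by decide +kernel)).cons <|
      (s.rep.term _ (by decide +kernel)).cons <| (s.rep.term _ (by decide +kernel)).cons <|
      (s.rep.term _ (by decide +kernel)).cons Cod.repL_nil

theorem mem (i : ℕ) : nth 1 s.e i ∈ s.L := nth_mem_clos _ i

theorem e1L : s.e1 ∈ s.L := s.mem 0
theorem e2L : s.e2 ∈ s.L := s.mem 1
theorem e3L : s.e3 ∈ s.L := s.mem 2
theorem vL : s.v ∈ s.L := s.mem 3
theorem aL : s.a ∈ s.L := s.mem 4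
theorem d1L : s.d1 ∈ s.L := s.mem 5
theorem d2L : s.d2 ∈ s.L := s.mem 6
theorem d3L : s.d3 ∈ s.L := s.mem 7
theorem qL : s.q ∈ s.L := s.mem 8
theorem xL : s.x ∈ s.L := s.mem 9

theorem st_M : s.st.M = s.L := by
  refine le_antisymm (clos_le.2 ?_) ?_
  · simp only [st, List.forall_mem_cons, List.not_mem_nil, false_imp_iff, implies_true, and_true]
    have c : ∀ {g}, g ∈ s.L → s.v * g * s.v⁻¹ ∈ s.L := fun h => mul_mem (mul_mem s.vL h) (inv_mem s.vL)
    exact ⟨s.d2L, mul_mem s.e2L s.d2L, c s.xL, mul_mem s.e3L s.d3L, c (c s.xL), mul_mem s.e1L s.d1L, s.d3L⟩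
  · exact (congrArg clos (s.rep.unique (s.st.rep0.words wK wK_ok))).le.trans (clos_words_le _ _)

theorem card_L : Nat.card s.L = 1451520 := s.st_M ▸ s.st.card

theorem equiv : Nonempty (s.L ≃* Matrix.symplecticGroup (Fin 3) (ZMod 2)) := s.st_M ▸ s.st.equiv

theorem simple : IsSimpleGroup s.L :=
  let ⟨φ⟩ := s.equiv
  have := Sp6.simple_sp
  φ.isSimpleGroup

theorem st_d1 : s.st.d1 = s.d1 := (List.cons.inj (((s.st.rep.nth 7).cons Cod.repL_nil).unique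
  ((s.rep.nth 5).cons Cod.repL_nil))).1

/-- The 63 transvections. -/
noncomputable def D : Set G := s.st.D

theorem mem_D {y : G} : y ∈ s.D ↔ ∃ g ∈ s.L, g * s.d1 * g⁻¹ = y := by
  rw [← s.st_M, ← s.st_d1]; rfl

theorem gB0 : s.C.Lists B0_t.dom s.B0 ∧ Nat.card s.B0 = 27 := (s.rep.pick [0, 1, 2]).gen B0_ok
theorem gW3 : s.C.Lists W3_t.dom s.W3 ∧ Nat.card s.W3 = 48 := (s.rep.pick [3, 4, 7]).gen W3_ok
theorem gN : s.C.Lists N_t.dom s.N ∧ Nat.card s.N = 1296 := (s.rep.pick [0, 1, 2, 3, 4, 7]).gen N_ok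
theorem gS : s.C.Lists S_t.dom s.S ∧ Nat.card s.S = 81 := (s.rep.pick [0, 1, 2, 3]).gen S_ok
theorem gCC : s.C.Lists CC_t.dom s.CC ∧ Nat.card s.CC = 648 := (s.rep.pick [0, 1, 2, 3, 4, 8]).gen CC_ok
theorem gQ1 : s.C.Lists Q1_t.dom s.Q1 ∧ Nat.card s.Q1 = 8 :=
  ((s.rep.term _ (by decide +kernel)).cons <| (s.rep.term _ (by decide +kernel)).cons Cod.repL_nil).gen Q1_ok
theorem gR1 : s.C.Lists R1_t.dom s.R1 ∧ Nat.card s.R1 = 27 :=
  ((s.rep.term _ (by decide +kernel)).cons <| (s.rep.term _ (by decide +kernel)).cons <|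
    (s.rep.term _ (by decide +kernel)).cons Cod.repL_nil).gen R1_ok
theorem gY6 : s.C.Lists Y_t.dom s.Y6 ∧ Nat.card s.Y6 = 720 := (s.rep.pick [0, 1, 5, 6, 4, 9]).gen Y_ok
theorem gF : s.C.Lists F_t.dom s.F ∧ Nat.card s.F = 108 :=
  ((s.rep.term _ (by decide +kernel)).cons <| (s.rep.term _ (by decide +kernel)).cons (s.rep.pick [4, 2, 7])).gen F_ok
theorem gZa : s.C.Lists Za_t.dom s.Za ∧ Nat.card s.Za = 8 :=
  ((s.rep.term _ (by decide +kernel)).cons <| (s.rep.term _ (by decide +kernel)).cons <|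
    (s.rep.term _ (by decide +kernel)).cons Cod.repL_nil).gen Za_ok
theorem gZd : s.C.Lists Zd_t.dom s.Zd ∧ Nat.card s.Zd = 8 :=
  ((s.rep.term _ (by decide +kernel)).cons <| (s.rep.term _ (by decide +kernel)).cons <|
    (s.rep.term _ (by decide +kernel)).cons Cod.repL_nil).gen Zd_ok
theorem gS3 : s.C.Lists S3_t.dom s.S3 ∧ Nat.card s.S3 = 6 := (s.rep.pick [2, 7]).gen S3_ok
theorem gD : s.C.Lists Sp6.D_t.dom s.D ∧ s.D.ncard = 63 := s.st.gD

/-- The listed sets. -/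
theorem hL : s.C.ListsL [B0_t.dom, W3_t.dom, N_t.dom, S_t.dom, CC_t.dom, Q1_t.dom, R1_t.dom, Y_t.dom, F_t.dom, Za_t.dom,
    Zd_t.dom, S3_t.dom, Sp6.D_t.dom] [s.B0, s.W3, s.N, s.S, s.CC, s.Q1, s.R1, s.Y6, s.F, s.Za, s.Zd, s.S3, s.D] :=
  s.gB0.1.cons <| s.gW3.1.cons <| s.gN.1.cons <| s.gS.1.cons <| s.gCC.1.cons <| s.gQ1.1.cons <| s.gR1.1.cons <|
    s.gY6.1.cons <| s.gF.1.cons <| s.gZa.1.cons <| s.gZd.1.cons <| s.gS3.1.cons <| s.gD.1.cons Cod.listsL_nil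

theorem sub_le {xs : List G} (h : ∀ x ∈ xs, x ∈ s.e) : clos xs ≤ s.L := clos_le.2 fun x hx => mem_clos (h x hx)

theorem B0_le : s.B0 ≤ s.L := s.sub_le (by simp)
theorem W3_le : s.W3 ≤ s.L := s.sub_le (by simp)
theorem N_le : s.N ≤ s.L := s.sub_le (by simp)
theorem S_le : s.S ≤ s.L := s.sub_le (by simp)
theorem CC_le : s.CC ≤ s.L := s.sub_le (by simp)
theorem Y6_le : s.Y6 ≤ s.L := s.sub_le (by simp)
theorem S3_le : s.S3 ≤ s.L := s.sub_le (by simp)

theorem Q1_le_CC : s.Q1 ≤ s.CC := (s.hL.decide s.rep (by decide +kernel) : ∀ g ∈ s.Q1, g ∈ s.CC)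
theorem R1_le_S : s.R1 ≤ s.S := (s.hL.decide s.rep (by decide +kernel) : ∀ g ∈ s.R1, g ∈ s.S)
theorem F_le_N : s.F ≤ s.N := (s.hL.decide s.rep (by decide +kernel) : ∀ g ∈ s.F, g ∈ s.N)
theorem Za_le_Y6 : s.Za ≤ s.Y6 := (s.hL.decide s.rep (by decide +kernel) : ∀ g ∈ s.Za, g ∈ s.Y6)
theorem Zd_le_Y6 : s.Zd ≤ s.Y6 := (s.hL.decide s.rep (by decide +kernel) : ∀ g ∈ s.Zd, g ∈ s.Y6)
theorem Q1_le : s.Q1 ≤ s.L := s.Q1_le_CC.trans s.CC_le
theorem R1_le : s.R1 ≤ s.L := s.R1_le_S.trans s.S_le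
theorem F_le : s.F ≤ s.L := s.F_le_N.trans s.N_le
theorem Za_le : s.Za ≤ s.L := s.Za_le_Y6.trans s.Y6_le
theorem Zd_le : s.Zd ≤ s.L := s.Zd_le_Y6.trans s.Y6_le

theorem B0_comm : ∀ x ∈ s.B0, ∀ y ∈ s.B0, x * y = y * x := s.hL.decide s.rep (by decide +kernel)
theorem B0_exp : ∀ x ∈ s.B0, x ^ 3 = 1 := s.hL.decide s.rep (by decide +kernel)

/-- The frame of the library `T16`. -/
@[reducible] def fr : Fr G where
  c1 := s.e1
  c2 := s.e2
  c3 := s.e3
  v := s.v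
  t := s.a
  c1_3 := s.hL.decide s.rep (by decide +kernel)
  c12 := s.hL.decide s.rep (by decide +kernel)
  v3 := s.hL.decide s.rep (by decide +kernel)
  t2 := s.hL.decide s.rep (by decide +kernel)
  tv := s.hL.decide s.rep (by decide +kernel)
  vc1 := s.hL.decide s.rep (by decide +kernel)
  vc2 := s.hL.decide s.rep (by decide +kernel)
  tc1 := s.hL.decide s.rep (by decide +kernel)
  tc3 := s.hL.decide s.rep (by decide +kernel)
  card := s.gB0.2

theorem car : s.fr.CaR s.q :=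
  ⟨s.hL.decide s.rep (by decide +kernel), (s.hL.decide s.rep (by decide +kernel) : s.q * s.z = s.z * s.q),
    s.hL.decide s.rep (by decide +kernel), s.hL.decide s.rep (by decide +kernel), s.hL.decide s.rep (by decide +kernel)⟩

end Lt

end Cfsg.Agent.S8
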