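import Mathlib
import Cfsg.Agent.S8.Lst
import Cfsg.Agent.S8.MData

/-! A presentation of `Sp₈(2)` on the nine transvections `d₂, e₂ d₂, q₁, e₃ d₃, q₂, e₁ d₁, d₃, q₄, b t`. -/

set_option autoImplicit false
set_option linter.unusedSectionVars false
set_option synthInstance.maxSize 100000
set_option synthInstance.maxHeartbeats 1000000
set_option maxRecDepth 100000

namespace Cfsg.Agent.S8

open Cfsg.Agent.Spor Cfsg.Agent.Spor.NM Cfsg.Agent.Rec Cfsg.Agent.Inv.Fz Cfsg.Agent.T16 Cfsg.Agent.F4L Subgroup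

universe u v

variable {G : Type u} [Group G]

theorem cod_of_simple {A : Ar} {G₀ : Type v} [Group G₀] {ws : List (List ℕ)} {m N : ℕ} (h : Pres.{max u v} ws m N)
    {C : Cod A G₀} {c : List ℕ} {e₀ : List G₀} (hc : C.RepL c e₀) (h₀ : Sat ws e₀) (hl₀ : e₀.length = m)
    (hN : Nat.card (clos e₀) = N) [IsSimpleGroup (clos e₀)] {e : List G} (hs : Sat ws e) (hl : e.length = m)
    (h1 : nth 1 e 0 ≠ 1) : ∃ C' : Cod A G, C'.RepL c e := by
  obtain ⟨ψ, h2, -⟩ := h.hom h₀ hs hl₀ hl hN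
  refine ⟨_, hc.embed (hl₀.trans hl.symm) (nth_mem_clos e₀) ψ (ψ.ker_eq_bot_iff.1
    (ψ.normal_ker.eq_bot_or_eq_top.resolve_right fun k => h1 ?_)) h2⟩
  rw [← h2]
  exact k.ge (mem_top _)

theorem exists_cod7 {e : List G} (hl : e.length = 7) (hs : Sat rel7' e) (h1 : nth 1 e 0 ≠ 1) :
    ∃ C : Cod B6.A G, C.RepL Sp6.cS e := by
  obtain ⟨φ⟩ := Sp6.s0.equiv
  have := Sp6.simple_sp
  have : IsSimpleGroup (clos Sp6.s0.e) := φ.isSimpleGroup
  exact cod_of_simple pres7' Sp6.s0.rep0 (Sp6.s0.rep0.sat (by decide +kernel)) rfl Sp6.s0.card hs hl h1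

theorem card_ge9 [Finite G] {C : Cod B8.A G} {e : List G} (h : C.RepL c9 e) : 47377612800 ≤ Nat.card (clos e) := by
  have hl : e.length = 9 := h.length_eq.symm
  match e, hl, h with
  | [a0, a1, a2, a3, a4, a5, a6, a7, a8], _, h =>
  obtain ⟨t, ht⟩ : ∃ t, C.Rep (nat_lit 0x8040201088040201) t := ⟨_, (h.words w8 w8_ok).nth 7⟩
  obtain ⟨C7, h7⟩ := exists_cod7 (e := [a0, a1, a2, a3, a4, a5, a6]) rfl
    ((h.pick [0, 1, 2, 3, 4, 5, 6]).sat (by decide +kernel)) (Cod.listsL_nil.decide h (by decide +kernel) : a0 ≠ 1)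
  have c7 : Nat.card (clos [a0, a1, a2, a3, a4, a5, a6]) = 1451520 := (⟨_, _, _, _, _, _, _, C7, h7⟩ : Sp6.St G).card
  have k : (∀ x ∈ [a0, a1, a2, a3, a4, a5, a6], a8 * x = x * a8) ∧
      ∀ x ∈ [a0, a1, a2, a3, a4, a5, a6, a7], t * x = x * t := by
    simp only [List.forall_mem_cons, List.not_mem_nil, false_imp_iff, implies_true, and_true]
    exact Cod.listsL_nil.decide (ht.cons h) (by decide +kernel)
  have o : (cls [a0, a1, a2, a3, a4, a5, a6, a7] a8).ncard = 128 :=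
    ((h.pick [0, 1, 2, 3, 4, 5, 6, 7]).orb (h.nth 8) T128_ok).2
  have b1 := mul_card_le_of_conj (K := clos [a0, a1, a2, a3, a4, a5, a6]) (L := clos [a0, a1, a2, a3, a4, a5, a6, a7])
    (clos_le.2 fun x hx => mem_clos (List.mem_append_left [a7] hx)) (fun g hg => (commute_clos k.1 g hg).symm)
    (S := cls [a0, a1, a2, a3, a4, a5, a6, a7] a8) fun _ h => h
  have b2 := mul_card_le_of_conj (K := clos [a0, a1, a2, a3, a4, a5, a6, a7])
    (L := clos [a0, a1, a2, a3, a4, a5, a6, a7, a8])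
    (clos_le.2 fun x hx => mem_clos (List.mem_append_left [a8] hx)) (fun g hg => (commute_clos k.2 g hg).symm)
    (S := cls [a0, a1, a2, a3, a4, a5, a6, a7, a8] t) fun _ h => h
  rw [o, c7] at b1
  rw [show _ = 255 from (h.orb ht T255_ok).2] at b2
  omega

/-- The general linear group of the model. -/
abbrev G80 : Type := GL (Fin 4 ⊕ Fin 4) (ZMod 2)

theorem fuel8 : 2 * Nat.card G80 ≤ nat_lit 0x20000000000000000 := by
  have h1 : Nat.card G80 ≤ Nat.card (Matrix (Fin 4 ⊕ Fin 4) (Fin 4 ⊕ Fin 4) (ZMod 2)) :=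
    Nat.card_le_card_of_injective _ Units.val_injective
  have h2 : Nat.card (Matrix (Fin 4 ⊕ Fin 4) (Fin 4 ⊕ Fin 4) (ZMod 2)) = 2 ^ 64 := by simp [Matrix]
  exact (Nat.mul_le_mul_left 2 (h1.trans h2.le)).trans (by decide +kernel)

/-- Codes in the model. -/
noncomputable def C80 : Cod B8.A G80 := loopCod (B8.spec.model finSumFinEquiv) fuel8

theorem rep80 : C80.RepL c9 (c9.map C80.elt) := repL_loop _ fuel8 c9_ok

theorem card_sp8 : Nat.card (Matrix.symplecticGroup (Fin 4) (ZMod 2)) = 47377612800 := by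
  rw [Cl.sp_card_std]
  norm_num [Finset.prod_range_succ]

theorem sp_equiv (m : ℕ) (hm : 1 ≤ m) : Nonempty (Matrix.symplecticGroup (Fin m) (ZMod 2) ≃* PSp m (ZMod 2)) := by
  have h := Cl.Sm.card_psp_mul (F := ZMod 2) hm
  refine ⟨MulEquiv.ofBijective (QuotientGroup.mk' (center _)) ((Nat.bijective_iff_surjective_and_card _).2
    ⟨QuotientGroup.mk'_surjective _, ?_⟩)⟩
  rw [← h]
  simp

theorem model8 : clos (c9.map C80.elt) = spGL 4 (ZMod 2) := by
  have h : ∀ a ∈ c9, dec finSumFinEquiv 1 (fun x => (x : ZMod 2)) a * Matrix.J (Fin 4) (ZMod 2) *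
      (dec finSumFinEquiv 1 (fun x => (x : ZMod 2)) a).transpose = Matrix.J (Fin 4) (ZMod 2) := by decide +kernel
  refine eq_of_le_of_card_ge (clos_le.2 fun y hy => ?_) ?_
  · obtain ⟨a, ha, h1, rfl⟩ := rep80.exists_right hy
    have h2 := SymplecticGroup.mem_iff.2 (h a ha)
    rw [← B8.spec.coe_elt _ h1] at h2
    exact (Cl.mem_symplecticGroup_iff_sympForm _).1 h2
  · rw [← Nat.card_congr (Cl.symplecticEquivSpGL 4).toEquiv, card_sp8]
    exact card_ge9 rep80

theorem equiv9 {C : Cod B8.A G} {e : List G} (h : C.RepL c9 e) :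
    Nonempty (clos e ≃* Matrix.symplecticGroup (Fin 4) (ZMod 2)) :=
  let ⟨φ, _⟩ := h.equiv rep80
  ⟨φ.symm.trans ((MulEquiv.subgroupCongr model8).trans (Cl.symplecticEquivSpGL 4).symm)⟩

theorem facts9 {C : Cod B8.A G} {e : List G} (h : C.RepL c9 e) :
    Nat.card (clos e) = 47377612800 ∧ IsSimpleGroup (clos e) ∧ Nonempty (clos e ≃* PSp 4 (ZMod 2)) := by
  obtain ⟨φ⟩ := equiv9 h
  obtain ⟨ψ⟩ := sp_equiv 4 (by norm_num)
  have := S0270.result (F := ZMod 2) 4 (by norm_num) (by norm_num)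
  exact ⟨(Nat.card_congr φ.toEquiv).trans card_sp8, (φ.trans ψ).isSimpleGroup, ⟨φ.trans ψ⟩⟩

/-- Nine letters satisfying the relations. -/
theorem exists_cod9 {e : List G} (hl : e.length = 9) (hs : Sat rel9 e) (h1 : nth 1 e 0 ≠ 1) :
    ∃ C : Cod B8.A G, C.RepL c9 e :=
  have := (facts9 rep80).2.1
  cod_of_simple pres9 rep80 (rep80.sat rel9_ok) (by simp [c9]) (facts9 rep80).1 hs hl h1

/-- The group generated by letters with the codes `c8`. -/
theorem facts8 {C : Cod B8.A G} {e : List G} (h : C.RepL c8 e) :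
    Nat.card (clos e) = 47377612800 ∧ IsSimpleGroup (clos e) ∧ Nonempty (clos e ≃* PSp 4 (ZMod 2)) := by
  have hl : e.length = 13 := h.length_eq.symm
  match e, hl, h with
  | [e1, e2, e3, b, d1, d2, d3, t, v, a, m, q, x], _, h =>
  have h9 : C.RepL c9 [d2, e2 * d2, v * x * v⁻¹, e3 * d3, v * (v * x * v⁻¹) * v⁻¹, e1 * d1, d3,
      v⁻¹ * a * m * v * x * (v⁻¹ * a * m * v)⁻¹, b * t] := by
    unfold c9
    exact (h.term _ (by decide +kernel)).cons <| (h.term _ (by decide +kernel)).cons <|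
      (h.term _ (by decide +kernel)).cons <| (h.term _ (by decide +kernel)).cons <|
      (h.term _ (by decide +kernel)).cons <| (h.term _ (by decide +kernel)).cons <|
      (h.term _ (by decide +kernel)).cons <| (h.term _ (by decide +kernel)).cons <|
      (h.term _ (by decide +kernel)).cons Cod.repL_nil
  have e0 : clos [e1, e2, e3, b, d1, d2, d3, t, v, a, m, q, x] = clos [d2, e2 * d2, v * x * v⁻¹, e3 * d3,
      v * (v * x * v⁻¹) * v⁻¹, e1 * d1, d3, v⁻¹ * a * m * v * x * (v⁻¹ * a * m * v)⁻¹, b * t] := by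
    refine le_antisymm ((congrArg clos (h.unique (h9.words w8 w8_ok))).le.trans (clos_words_le _ _)) (clos_le.2 ?_)
    have k := nth_mem_clos [e1, e2, e3, b, d1, d2, d3, t, v, a, m, q, x]
    have c : ∀ {g y}, g ∈ clos [e1, e2, e3, b, d1, d2, d3, t, v, a, m, q, x] →
        y ∈ clos [e1, e2, e3, b, d1, d2, d3, t, v, a, m, q, x] →
        g * y * g⁻¹ ∈ clos [e1, e2, e3, b, d1, d2, d3, t, v, a, m, q, x] := fun h1 h2 => mul_mem (mul_mem h1 h2) (inv_mem h1)
    simp only [List.forall_mem_cons, List.not_mem_nil, false_imp_iff, implies_true, and_true]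
    exact ⟨k 5, mul_mem (k 1) (k 5), c (k 8) (k 12), mul_mem (k 2) (k 6), c (k 8) (c (k 8) (k 12)), mul_mem (k 0) (k 4),
      k 6, c (mul_mem (mul_mem (mul_mem (inv_mem (k 8)) (k 9)) (k 10)) (k 8)) (k 12), mul_mem (k 3) (k 7)⟩
  rw [e0]
  exact facts9 h9

end Cfsg.Agent.S8
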