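import Mathlib
import Cfsg.Agent.F4T.KData
import Cfsg.Agent.Rec.Wit

/-! Generated by tools/rec: involutions of Sp6(2) -/

set_option autoImplicit false
set_option maxRecDepth 100000
set_option linter.unusedVariables false
set_option exponentiation.threshold 100000

namespace Cfsg.Agent.S8

open Cfsg.Agent.Spor Cfsg.Agent.Rec

universe u

noncomputable def I1_t : ST :=
(.node (nat_lit 0x810234c81) (.node (nat_lit 0x810204481) (.node (nat_lit 0x810044088) (.leaf (nat_lit 0x110220081) (nat_lit 258))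
 (.node (nat_lit 0x810204089) (.leaf (nat_lit 0x810044088) (nat_lit 515))
 (.leaf (nat_lit 0x810204089) (nat_lit 259))
)) (.node (nat_lit 0x810224081) (.node (nat_lit 0x810204699) (.leaf (nat_lit 0x810204481) (nat_lit 515))
 (.leaf (nat_lit 0x810204699) (nat_lit 1024))
) (.node (nat_lit 0x81022c0a9) (.leaf (nat_lit 0x810224081) (nat_lit 0))
 (.leaf (nat_lit 0x81022c0a9) (nat_lit 1024))
))) (.node (nat_lit 0x810a65081) (.node (nat_lit 0x81023ceb9) (.leaf (nat_lit 0x810234c81) (nat_lit 1025))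
 (.node (nat_lit 0x8106444c1) (.leaf (nat_lit 0x81023ceb9) (nat_lit 264))
 (.leaf (nat_lit 0x8106444c1) (nat_lit 777))
)) (.node (nat_lit 0x82a23ee3b) (.node (nat_lit 0x810c7def8) (.leaf (nat_lit 0x810a65081) (nat_lit 777))
 (.leaf (nat_lit 0x810c7def8) (nat_lit 512))
) (.node (nat_lit 0x832226081) (.leaf (nat_lit 0x82a23ee3b) (nat_lit 513))
 (.leaf (nat_lit 0x832226081) (nat_lit 777))
))))

theorem I1_ok : I1_t.all2 (witLeaf B6.A F4L.cK (nat_lit 0x810224081) I1_t) = true := by decide +kernel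

noncomputable def I2_t : ST :=
(.node (nat_lit 0x8196842d3) (.node (nat_lit 0x80841c862) (.node (nat_lit 0x2c4710a55) (.node (nat_lit 0x210819ab4) (.node (nat_lit 0x2108090a4) (.node (nat_lit 0x210801084) (.leaf (nat_lit 0x509090a0) (nat_lit 771))
 (.leaf (nat_lit 0x210801084) (nat_lit 520))
) (.node (nat_lit 0x210811a94) (.leaf (nat_lit 0x2108090a4) (nat_lit 773))
 (.leaf (nat_lit 0x210811a94) (nat_lit 1033))
)) (.node (nat_lit 0x23881bab6) (.node (nat_lit 0x238813a96) (.leaf (nat_lit 0x210819ab4) (nat_lit 777))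
 (.leaf (nat_lit 0x238813a96) (nat_lit 1281))
) (.node (nat_lit 0x250901084) (.leaf (nat_lit 0x23881bab6) (nat_lit 1025))
 (.node (nat_lit 0x284210a15) (.leaf (nat_lit 0x250901084) (nat_lit 1029))
 (.leaf (nat_lit 0x284210a15) (nat_lit 777))
)))) (.node (nat_lit 0x4a4202101) (.node (nat_lit 0x42021ab31) (.node (nat_lit 0x420202101) (.leaf (nat_lit 0x2c4710a55) (nat_lit 1024))
 (.leaf (nat_lit 0x420202101) (nat_lit 259))
) (.node (nat_lit 0x420e1bb71) (.leaf (nat_lit 0x42021ab31) (nat_lit 521))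
 (.node (nat_lit 0x484210901) (.leaf (nat_lit 0x420e1bb71) (nat_lit 768))
 (.leaf (nat_lit 0x484210901) (nat_lit 515))
))) (.node (nat_lit 0x801484250) (.node (nat_lit 0x801084210) (.leaf (nat_lit 0x4a4202101) (nat_lit 775))
 (.leaf (nat_lit 0x801084210) (nat_lit 517))
) (.node (nat_lit 0x808404042) (.leaf (nat_lit 0x801484250) (nat_lit 257))
 (.node (nat_lit 0x808404252) (.leaf (nat_lit 0x808404042) (nat_lit 0))
 (.leaf (nat_lit 0x808404252) (nat_lit 261))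
))))) (.node (nat_lit 0x81021c8a1) (.node (nat_lit 0x810204291) (.node (nat_lit 0x809084212) (.node (nat_lit 0x80841ca72) (.leaf (nat_lit 0x80841c862) (nat_lit 1283))
 (.leaf (nat_lit 0x80841ca72) (nat_lit 1027))
) (.node (nat_lit 0x809484042) (.leaf (nat_lit 0x809084212) (nat_lit 256))
 (.leaf (nat_lit 0x809484042) (nat_lit 518))
)) (.node (nat_lit 0x81020c2b1) (.node (nat_lit 0x81020c0a1) (.leaf (nat_lit 0x810204291) (nat_lit 1281))
 (.leaf (nat_lit 0x81020c0a1) (nat_lit 1544))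
) (.node (nat_lit 0x810214881) (.leaf (nat_lit 0x81020c2b1) (nat_lit 1280))
 (.node (nat_lit 0x810214a91) (.leaf (nat_lit 0x810214881) (nat_lit 1539))
 (.leaf (nat_lit 0x810214a91) (nat_lit 1281))
)))) (.node (nat_lit 0x811284081) (.node (nat_lit 0x8106042d1) (.node (nat_lit 0x81021cab1) (.leaf (nat_lit 0x81021c8a1) (nat_lit 1537))
 (.leaf (nat_lit 0x81021cab1) (nat_lit 520))
) (.node (nat_lit 0x810e050c1) (.leaf (nat_lit 0x8106042d1) (nat_lit 769))
 (.node (nat_lit 0x810e1daf1) (.leaf (nat_lit 0x810e050c1) (nat_lit 1033))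
 (.leaf (nat_lit 0x810e1daf1) (nat_lit 768))
))) (.node (nat_lit 0x818204083) (.node (nat_lit 0x8116840c1) (.leaf (nat_lit 0x811284081) (nat_lit 777))
 (.leaf (nat_lit 0x8116840c1) (nat_lit 521))
) (.node (nat_lit 0x818204293) (.leaf (nat_lit 0x818204083) (nat_lit 1024))
 (.node (nat_lit 0x819284083) (.leaf (nat_lit 0x818204293) (nat_lit 768))
 (.leaf (nat_lit 0x819284083) (nat_lit 521))
)))))) (.node (nat_lit 0xc10204181) (.node (nat_lit 0x8bc206083) (.node (nat_lit 0x838206083) (.node (nat_lit 0x83020e0a1) (.node (nat_lit 0x828c17a52) (.leaf (nat_lit 0x8196842d3) (nat_lit 777))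
 (.leaf (nat_lit 0x828c17a52) (nat_lit 1282))
) (.node (nat_lit 0x830216881) (.leaf (nat_lit 0x83020e0a1) (nat_lit 1289))
 (.leaf (nat_lit 0x830216881) (nat_lit 1027))
)) (.node (nat_lit 0x8507040c1) (.node (nat_lit 0x83821eab3) (.leaf (nat_lit 0x838206083) (nat_lit 1033))
 (.leaf (nat_lit 0x83821eab3) (nat_lit 769))
) (.node (nat_lit 0x850f050c1) (.leaf (nat_lit 0x8507040c1) (nat_lit 1289))
 (.node (nat_lit 0x89c204083) (.leaf (nat_lit 0x850f050c1) (nat_lit 1289))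
 (.leaf (nat_lit 0x89c204083) (nat_lit 1545))
)))) (.node (nat_lit 0xa1020c0a5) (.node (nat_lit 0x8d5384081) (.node (nat_lit 0x8cd584042) (.leaf (nat_lit 0x8bc206083) (nat_lit 1289))
 (.leaf (nat_lit 0x8cd584042) (nat_lit 1033))
) (.node (nat_lit 0xa10204085) (.leaf (nat_lit 0x8d5384081) (nat_lit 776))
 (.node (nat_lit 0xa10204295) (.leaf (nat_lit 0xa10204085) (nat_lit 1538))
 (.leaf (nat_lit 0xa10204295) (nat_lit 1536))
))) (.node (nat_lit 0xa85084214) (.node (nat_lit 0xa1020c2b5) (.leaf (nat_lit 0xa1020c0a5) (nat_lit 1288))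
 (.leaf (nat_lit 0xa1020c2b5) (nat_lit 1536))
) (.node (nat_lit 0xa94204085) (.leaf (nat_lit 0xa85084214) (nat_lit 1280))
 (.node (nat_lit 0xab420e0a5) (.leaf (nat_lit 0xa94204085) (nat_lit 1033))
 (.leaf (nat_lit 0xab420e0a5) (nat_lit 1289))
))))) (.node (nat_lit 0xe0841c966) (.node (nat_lit 0xc94204181) (.node (nat_lit 0xc10214981) (.node (nat_lit 0xc10204391) (.leaf (nat_lit 0xc10204181) (nat_lit 1283))
 (.leaf (nat_lit 0xc10204391) (nat_lit 1793))
) (.node (nat_lit 0xc10214b91) (.leaf (nat_lit 0xc10214981) (nat_lit 1027))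
 (.leaf (nat_lit 0xc10214b91) (nat_lit 1537))
)) (.node (nat_lit 0xccc504352) (.node (nat_lit 0xcb4216981) (.leaf (nat_lit 0xc94204181) (nat_lit 771))
 (.leaf (nat_lit 0xcb4216981) (nat_lit 1027))
) (.node (nat_lit 0xe08404146) (.leaf (nat_lit 0xccc504352) (nat_lit 1032))
 (.node (nat_lit 0xe08404356) (.leaf (nat_lit 0xe08404146) (nat_lit 1544))
 (.leaf (nat_lit 0xe08404356) (nat_lit 1537))
)))) (.node (nat_lit 0xe1021cbb5) (.node (nat_lit 0xe10204185) (.node (nat_lit 0xe0841cb76) (.leaf (nat_lit 0xe0841c966) (nat_lit 1539))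
 (.leaf (nat_lit 0xe0841cb76) (nat_lit 1283))
) (.node (nat_lit 0xe10204395) (.leaf (nat_lit 0xe10204185) (nat_lit 1281))
 (.node (nat_lit 0xe1021c9a5) (.leaf (nat_lit 0xe10204395) (nat_lit 1026))
 (.leaf (nat_lit 0xe1021c9a5) (nat_lit 1537))
))) (.node (nat_lit 0xe50f1dbf5) (.node (nat_lit 0xe507043d5) (.leaf (nat_lit 0xe1021cbb5) (nat_lit 770))
 (.leaf (nat_lit 0xe507043d5) (nat_lit 1032))
) (.node (nat_lit 0xe9c204397) (.leaf (nat_lit 0xe50f1dbf5) (nat_lit 1026))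
 (.node (nat_lit 0xebc21ebb7) (.leaf (nat_lit 0xe9c204397) (nat_lit 1288))
 (.leaf (nat_lit 0xebc21ebb7) (nat_lit 1026))
)))))))

theorem I2_ok : I2_t.all2 (witLeaf B6.A F4L.cK (nat_lit 0x808404042) I2_t) = true := by decide +kernel

noncomputable def I3_t : ST :=
(.node (nat_lit 0x8106440c1) (.node (nat_lit 0x810204691) (.node (nat_lit 0x802224401) (.node (nat_lit 0x563382101) (.node (nat_lit 0x3958c1084) (.node (nat_lit 0x210831a9c) (.leaf (nat_lit 0x2108290ac) (nat_lit 1033))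
 (.leaf (nat_lit 0x210831a9c) (nat_lit 771))
) (.node (nat_lit 0x42022a731) (.leaf (nat_lit 0x3958c1084) (nat_lit 520))
 (.node (nat_lit 0x4ce969732) (.leaf (nat_lit 0x42022a731) (nat_lit 515))
 (.leaf (nat_lit 0x4ce969732) (nat_lit 1027))
))) (.node (nat_lit 0x8014c4650) (.node (nat_lit 0x58d8d9d2a) (.leaf (nat_lit 0x563382101) (nat_lit 520))
 (.leaf (nat_lit 0x58d8d9d2a) (nat_lit 777))
) (.node (nat_lit 0x802044408) (.leaf (nat_lit 0x8014c4650) (nat_lit 1289))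
 (.node (nat_lit 0x802204409) (.leaf (nat_lit 0x802044408) (nat_lit 513))
 (.leaf (nat_lit 0x802204409) (nat_lit 257))
)))) (.node (nat_lit 0x80841ce7a) (.node (nat_lit 0x80840444a) (.node (nat_lit 0x8036c4259) (.leaf (nat_lit 0x802224401) (nat_lit 515))
 (.leaf (nat_lit 0x8036c4259) (nat_lit 1025))
) (.node (nat_lit 0x80840465a) (.leaf (nat_lit 0x80840444a) (nat_lit 1536))
 (.node (nat_lit 0x80841cc6a) (.leaf (nat_lit 0x80840465a) (nat_lit 1283))
 (.leaf (nat_lit 0x80841cc6a) (nat_lit 264))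
))) (.node (nat_lit 0x810044488) (.node (nat_lit 0x809adde3b) (.leaf (nat_lit 0x80841ce7a) (nat_lit 517))
 (.node (nat_lit 0x809eddc6b) (.leaf (nat_lit 0x809adde3b) (nat_lit 512))
 (.leaf (nat_lit 0x809eddc6b) (nat_lit 774))
)) (.node (nat_lit 0x810204299) (.leaf (nat_lit 0x810044488) (nat_lit 256))
 (.node (nat_lit 0x810204489) (.leaf (nat_lit 0x810204299) (nat_lit 768))
 (.leaf (nat_lit 0x810204489) (nat_lit 0))
))))) (.node (nat_lit 0x81022c4a9) (.node (nat_lit 0x81021cca9) (.node (nat_lit 0x81020c2b9) (.node (nat_lit 0x81020c0a9) (.leaf (nat_lit 0x810204691) (nat_lit 769))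
 (.leaf (nat_lit 0x81020c0a9) (nat_lit 1284))
) (.node (nat_lit 0x810214c81) (.leaf (nat_lit 0x81020c2b9) (nat_lit 1288))
 (.node (nat_lit 0x810214e91) (.leaf (nat_lit 0x810214c81) (nat_lit 1027))
 (.leaf (nat_lit 0x810214e91) (nat_lit 1281))
))) (.node (nat_lit 0x810224481) (.node (nat_lit 0x81021ceb9) (.leaf (nat_lit 0x81021cca9) (nat_lit 1539))
 (.node (nat_lit 0x810224089) (.leaf (nat_lit 0x81021ceb9) (nat_lit 1537))
 (.leaf (nat_lit 0x810224089) (nat_lit 515))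
)) (.node (nat_lit 0x810224699) (.leaf (nat_lit 0x810224481) (nat_lit 259))
 (.node (nat_lit 0x81022c0a1) (.leaf (nat_lit 0x810224699) (nat_lit 1025))
 (.leaf (nat_lit 0x81022c0a1) (nat_lit 1283))
)))) (.node (nat_lit 0x81023c8a1) (.node (nat_lit 0x810234881) (.node (nat_lit 0x81022c6b1) (.leaf (nat_lit 0x81022c4a9) (nat_lit 1539))
 (.leaf (nat_lit 0x81022c6b1) (nat_lit 1288))
) (.node (nat_lit 0x810234a99) (.leaf (nat_lit 0x810234881) (nat_lit 1027))
 (.node (nat_lit 0x810234c89) (.leaf (nat_lit 0x810234a99) (nat_lit 1288))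
 (.leaf (nat_lit 0x810234c89) (nat_lit 1283))
))) (.node (nat_lit 0x810244481) (.node (nat_lit 0x81023cab9) (.leaf (nat_lit 0x81023c8a1) (nat_lit 1288))
 (.node (nat_lit 0x81023ceb1) (.leaf (nat_lit 0x81023cab9) (nat_lit 1280))
 (.leaf (nat_lit 0x81023ceb1) (nat_lit 1281))
)) (.node (nat_lit 0x8104442d8) (.leaf (nat_lit 0x810244481) (nat_lit 512))
 (.node (nat_lit 0x8106044c1) (.leaf (nat_lit 0x8104442d8) (nat_lit 777))
 (.leaf (nat_lit 0x8106044c1) (nat_lit 1288))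
)))))) (.node (nat_lit 0x8d6344081) (.node (nat_lit 0x81a6444cb) (.node (nat_lit 0x81820429b) (.node (nat_lit 0x811ac5081) (.node (nat_lit 0x810e758c1) (.leaf (nat_lit 0x8106440c1) (nat_lit 521))
 (.leaf (nat_lit 0x810e758c1) (nat_lit 1032))
) (.node (nat_lit 0x811ec50c1) (.leaf (nat_lit 0x811ac5081) (nat_lit 777))
 (.node (nat_lit 0x81820408b) (.leaf (nat_lit 0x811ec50c1) (nat_lit 1033))
 (.leaf (nat_lit 0x81820408b) (nat_lit 1281))
))) (.node (nat_lit 0x8194c42da) (.node (nat_lit 0x81820c0ab) (.leaf (nat_lit 0x81820429b) (nat_lit 1025))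
 (.node (nat_lit 0x81820c2bb) (.leaf (nat_lit 0x81820c0ab) (nat_lit 1024))
 (.leaf (nat_lit 0x81820c2bb) (nat_lit 1280))
)) (.node (nat_lit 0x81a204083) (.leaf (nat_lit 0x8194c42da) (nat_lit 1025))
 (.node (nat_lit 0x81a22408b) (.leaf (nat_lit 0x81a204083) (nat_lit 521))
 (.leaf (nat_lit 0x81a22408b) (nat_lit 777))
)))) (.node (nat_lit 0x833286081) (.node (nat_lit 0x81b0e408a) (.node (nat_lit 0x81b0c4692) (.leaf (nat_lit 0x81a6444cb) (nat_lit 777))
 (.leaf (nat_lit 0x81b0c4692) (nat_lit 1024))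
) (.node (nat_lit 0x822216c01) (.leaf (nat_lit 0x81b0e408a) (nat_lit 1024))
 (.node (nat_lit 0x830226081) (.leaf (nat_lit 0x822216c01) (nat_lit 1027))
 (.leaf (nat_lit 0x830226081) (nat_lit 1539))
))) (.node (nat_lit 0x83a20e0ab) (.node (nat_lit 0x83349eef8) (.leaf (nat_lit 0x833286081) (nat_lit 777))
 (.node (nat_lit 0x83a206083) (.leaf (nat_lit 0x83349eef8) (nat_lit 513))
 (.leaf (nat_lit 0x83a206083) (nat_lit 1024))
)) (.node (nat_lit 0x83a22e0a3) (.leaf (nat_lit 0x83a20e0ab) (nat_lit 1289))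
 (.node (nat_lit 0x8ce544042) (.leaf (nat_lit 0x83a22e0a3) (nat_lit 1032))
 (.leaf (nat_lit 0x8ce544042) (nat_lit 771))
))))) (.node (nat_lit 0xc10214f91) (.node (nat_lit 0xa9620408d) (.node (nat_lit 0xa1020429d) (.node (nat_lit 0xa1020408d) (.leaf (nat_lit 0x8d6344081) (nat_lit 1033))
 (.leaf (nat_lit 0xa1020408d) (nat_lit 1795))
) (.node (nat_lit 0xa1020c0ad) (.leaf (nat_lit 0xa1020429d) (nat_lit 1540))
 (.node (nat_lit 0xa1020c2bd) (.leaf (nat_lit 0xa1020c0ad) (nat_lit 1540))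
 (.leaf (nat_lit 0xa1020c2bd) (nat_lit 1538))
))) (.node (nat_lit 0xc10204581) (.node (nat_lit 0xab620e0ad) (.leaf (nat_lit 0xa9620408d) (nat_lit 1280))
 (.node (nat_lit 0xbb58ef0a4) (.leaf (nat_lit 0xab620e0ad) (nat_lit 1288))
 (.leaf (nat_lit 0xbb58ef0a4) (nat_lit 775))
)) (.node (nat_lit 0xc10204791) (.leaf (nat_lit 0xc10204581) (nat_lit 1539))
 (.node (nat_lit 0xc10214d81) (.leaf (nat_lit 0xc10204791) (nat_lit 1283))
 (.leaf (nat_lit 0xc10214d81) (nat_lit 1283))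
)))) (.node (nat_lit 0xe0841cd6e) (.node (nat_lit 0xd63bb7901) (.node (nat_lit 0xd32226581) (.leaf (nat_lit 0xc10214f91) (nat_lit 1539))
 (.leaf (nat_lit 0xd32226581) (nat_lit 1027))
) (.node (nat_lit 0xe0840454e) (.leaf (nat_lit 0xd63bb7901) (nat_lit 775))
 (.node (nat_lit 0xe0840475e) (.leaf (nat_lit 0xe0840454e) (nat_lit 770))
 (.leaf (nat_lit 0xe0840475e) (nat_lit 1029))
))) (.node (nat_lit 0xe1020479d) (.node (nat_lit 0xe0841cf7e) (.leaf (nat_lit 0xe0841cd6e) (nat_lit 514))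
 (.node (nat_lit 0xe1020458d) (.leaf (nat_lit 0xe0841cf7e) (nat_lit 773))
 (.leaf (nat_lit 0xe1020458d) (nat_lit 1537))
)) (.node (nat_lit 0xe1021cdad) (.leaf (nat_lit 0xe1020479d) (nat_lit 1288))
 (.node (nat_lit 0xe1021cfbd) (.leaf (nat_lit 0xe1021cdad) (nat_lit 1537))
 (.leaf (nat_lit 0xe1021cfbd) (nat_lit 1032))
)))))))

theorem I3_ok : I3_t.all2 (witLeaf B6.A F4L.cK (nat_lit 0x810204489) I3_t) = true := by decide +kernel

noncomputable def I4_t : ST :=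
(.node (nat_lit 0x81023c8a9) (.node (nat_lit 0x484210909) (.node (nat_lit 0x23283bab4) (.node (nat_lit 0x2108094a4) (.node (nat_lit 0x1090a0212) (.node (nat_lit 0x63dfbc60) (.node (nat_lit 0x635fac60) (.leaf (nat_lit 0x42909420) (nat_lit 1027))
 (.leaf (nat_lit 0x635fac60) (nat_lit 776))
) (.node (nat_lit 0x1014a0250) (.leaf (nat_lit 0x63dfbc60) (nat_lit 1031))
 (.node (nat_lit 0x108420042) (.leaf (nat_lit 0x1014a0250) (nat_lit 514))
 (.leaf (nat_lit 0x108420042) (nat_lit 258))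
))) (.node (nat_lit 0x202801404) (.node (nat_lit 0x1116a00c1) (.leaf (nat_lit 0x1090a0212) (nat_lit 514))
 (.node (nat_lit 0x1192a0083) (.leaf (nat_lit 0x1116a00c1) (nat_lit 777))
 (.leaf (nat_lit 0x1192a0083) (nat_lit 777))
)) (.node (nat_lit 0x202809424) (.leaf (nat_lit 0x202801404) (nat_lit 771))
 (.node (nat_lit 0x210801484) (.leaf (nat_lit 0x202809424) (nat_lit 1029))
 (.leaf (nat_lit 0x210801484) (nat_lit 515))
)))) (.node (nat_lit 0x210839ebc) (.node (nat_lit 0x21082148c) (.node (nat_lit 0x210811e94) (.leaf (nat_lit 0x2108094a4) (nat_lit 773))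
 (.node (nat_lit 0x210819eb4) (.leaf (nat_lit 0x210811e94) (nat_lit 1033))
 (.leaf (nat_lit 0x210819eb4) (nat_lit 777))
)) (.node (nat_lit 0x2108294ac) (.leaf (nat_lit 0x21082148c) (nat_lit 777))
 (.node (nat_lit 0x210831e9c) (.leaf (nat_lit 0x2108294ac) (nat_lit 1033))
 (.leaf (nat_lit 0x210831e9c) (nat_lit 773))
))) (.node (nat_lit 0x22a833e1e) (.node (nat_lit 0x21a811a9e) (.leaf (nat_lit 0x210839ebc) (nat_lit 520))
 (.node (nat_lit 0x21a819abe) (.leaf (nat_lit 0x21a811a9e) (nat_lit 1289))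
 (.leaf (nat_lit 0x21a819abe) (nat_lit 1033))
)) (.node (nat_lit 0x22a83be3e) (.leaf (nat_lit 0x22a833e1e) (nat_lit 1029))
 (.node (nat_lit 0x232833a94) (.leaf (nat_lit 0x22a83be3e) (nat_lit 769))
 (.leaf (nat_lit 0x232833a94) (nat_lit 1289))
))))) (.node (nat_lit 0x2e4f1bc6d) (.node (nat_lit 0x2501084a4) (.node (nat_lit 0x238823696) (.node (nat_lit 0x238813c8e) (.leaf (nat_lit 0x23283bab4) (nat_lit 1033))
 (.node (nat_lit 0x23881bcae) (.leaf (nat_lit 0x238813c8e) (nat_lit 1537))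
 (.leaf (nat_lit 0x23881bcae) (nat_lit 1281))
)) (.node (nat_lit 0x23882b6b6) (.leaf (nat_lit 0x238823696) (nat_lit 1537))
 (.node (nat_lit 0x242901404) (.leaf (nat_lit 0x23882b6b6) (nat_lit 1281))
 (.leaf (nat_lit 0x242901404) (nat_lit 1285))
))) (.node (nat_lit 0x284650e55) (.node (nat_lit 0x250f71edd) (.leaf (nat_lit 0x2501084a4) (nat_lit 772))
 (.node (nat_lit 0x26b7fae7f) (.leaf (nat_lit 0x250f71edd) (nat_lit 768))
 (.leaf (nat_lit 0x26b7fae7f) (nat_lit 1029))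
)) (.node (nat_lit 0x2a465ae75) (.leaf (nat_lit 0x284650e55) (nat_lit 1033))
 (.node (nat_lit 0x2c4710c4d) (.leaf (nat_lit 0x2a465ae75) (nat_lit 1289))
 (.leaf (nat_lit 0x2c4710c4d) (nat_lit 1280))
)))) (.node (nat_lit 0x420e33b59) (.node (nat_lit 0x42023af39) (.node (nat_lit 0x420042108) (.leaf (nat_lit 0x2e4f1bc6d) (nat_lit 1536))
 (.node (nat_lit 0x420202109) (.leaf (nat_lit 0x420042108) (nat_lit 515))
 (.leaf (nat_lit 0x420202109) (nat_lit 259))
)) (.node (nat_lit 0x420a7bb31) (.leaf (nat_lit 0x42023af39) (nat_lit 520))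
 (.node (nat_lit 0x420c7bf78) (.leaf (nat_lit 0x420a7bb31) (nat_lit 1033))
 (.leaf (nat_lit 0x420c7bf78) (nat_lit 768))
))) (.node (nat_lit 0x45a919bba) (.node (nat_lit 0x4501087b0) (.leaf (nat_lit 0x420e33b59) (nat_lit 1280))
 (.node (nat_lit 0x4509693b0) (.leaf (nat_lit 0x4501087b0) (nat_lit 1033))
 (.leaf (nat_lit 0x4509693b0) (nat_lit 1033))
)) (.node (nat_lit 0x46b7e254b) (.leaf (nat_lit 0x45a919bba) (nat_lit 1545))
 (.node (nat_lit 0x484050908) (.leaf (nat_lit 0x46b7e254b) (nat_lit 1289))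
 (.leaf (nat_lit 0x484050908) (nat_lit 771))
)))))) (.node (nat_lit 0x81020c4a1) (.node (nat_lit 0x808424252) (.node (nat_lit 0x610c213dc) (.node (nat_lit 0x4fc91bdaa) (.node (nat_lit 0x4a4042108) (.leaf (nat_lit 0x484210909) (nat_lit 515))
 (.node (nat_lit 0x4d73f0b99) (.leaf (nat_lit 0x4a4042108) (nat_lit 1031))
 (.leaf (nat_lit 0x4d73f0b99) (nat_lit 1537))
)) (.node (nat_lit 0x5ff9f3f92) (.leaf (nat_lit 0x4fc91bdaa) (nat_lit 1793))
 (.node (nat_lit 0x610c097f4) (.leaf (nat_lit 0x5ff9f3f92) (nat_lit 773))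
 (.leaf (nat_lit 0x610c097f4) (nat_lit 1280))
))) (.node (nat_lit 0x8014a4250) (.node (nat_lit 0x7f7bfbfbd) (.leaf (nat_lit 0x610c213dc) (nat_lit 1280))
 (.node (nat_lit 0x8010a4210) (.leaf (nat_lit 0x7f7bfbfbd) (nat_lit 520))
 (.leaf (nat_lit 0x8010a4210) (nat_lit 517))
)) (.node (nat_lit 0x802224409) (.leaf (nat_lit 0x8014a4250) (nat_lit 257))
 (.node (nat_lit 0x808424042) (.leaf (nat_lit 0x802224409) (nat_lit 769))
 (.leaf (nat_lit 0x808424042) (nat_lit 0))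
)))) (.node (nat_lit 0x80843ce7a) (.node (nat_lit 0x80843c862) (.node (nat_lit 0x80842444a) (.leaf (nat_lit 0x808424252) (nat_lit 261))
 (.node (nat_lit 0x80842465a) (.leaf (nat_lit 0x80842444a) (nat_lit 1027))
 (.leaf (nat_lit 0x80842465a) (nat_lit 1283))
)) (.node (nat_lit 0x80843ca72) (.leaf (nat_lit 0x80843c862) (nat_lit 1283))
 (.node (nat_lit 0x80843cc6a) (.leaf (nat_lit 0x80843ca72) (nat_lit 1027))
 (.leaf (nat_lit 0x80843cc6a) (nat_lit 517))
))) (.node (nat_lit 0x809afde3b) (.node (nat_lit 0x8090a4212) (.leaf (nat_lit 0x80843ce7a) (nat_lit 264))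
 (.node (nat_lit 0x8094a4042) (.leaf (nat_lit 0x8090a4212) (nat_lit 256))
 (.leaf (nat_lit 0x8094a4042) (nat_lit 518))
)) (.node (nat_lit 0x809efdc6b) (.leaf (nat_lit 0x809afde3b) (nat_lit 774))
 (.node (nat_lit 0x810064488) (.leaf (nat_lit 0x809efdc6b) (nat_lit 512))
 (.leaf (nat_lit 0x810064488) (nat_lit 768))
))))) (.node (nat_lit 0x810224291) (.node (nat_lit 0x810214c89) (.node (nat_lit 0x81020c6b9) (.node (nat_lit 0x81020c4a9) (.leaf (nat_lit 0x81020c4a1) (nat_lit 1795))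
 (.node (nat_lit 0x81020c6b1) (.leaf (nat_lit 0x81020c4a9) (nat_lit 1796))
 (.leaf (nat_lit 0x81020c6b1) (nat_lit 1795))
)) (.node (nat_lit 0x810214889) (.leaf (nat_lit 0x81020c6b9) (nat_lit 1800))
 (.node (nat_lit 0x810214a99) (.leaf (nat_lit 0x810214889) (nat_lit 1539))
 (.leaf (nat_lit 0x810214a99) (nat_lit 1793))
))) (.node (nat_lit 0x81021cab9) (.node (nat_lit 0x810214e99) (.leaf (nat_lit 0x810214c89) (nat_lit 1539))
 (.node (nat_lit 0x81021c8a9) (.leaf (nat_lit 0x810214e99) (nat_lit 1795))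
 (.leaf (nat_lit 0x81021c8a9) (nat_lit 1537))
)) (.node (nat_lit 0x81021cca1) (.leaf (nat_lit 0x81021cab9) (nat_lit 1027))
 (.node (nat_lit 0x81021ceb1) (.leaf (nat_lit 0x81021cca1) (nat_lit 1792))
 (.leaf (nat_lit 0x81021ceb1) (nat_lit 1288))
)))) (.node (nat_lit 0x81022c4a1) (.node (nat_lit 0x810224691) (.node (nat_lit 0x810224299) (.leaf (nat_lit 0x810224291) (nat_lit 1281))
 (.node (nat_lit 0x810224489) (.leaf (nat_lit 0x810224299) (nat_lit 1280))
 (.leaf (nat_lit 0x810224489) (nat_lit 520))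
)) (.node (nat_lit 0x81022c2b1) (.leaf (nat_lit 0x810224691) (nat_lit 1281))
 (.node (nat_lit 0x81022c2b9) (.leaf (nat_lit 0x81022c2b1) (nat_lit 1536))
 (.leaf (nat_lit 0x81022c2b9) (nat_lit 1537))
))) (.node (nat_lit 0x810234a91) (.node (nat_lit 0x81022c6b9) (.leaf (nat_lit 0x81022c4a1) (nat_lit 1795))
 (.node (nat_lit 0x810234889) (.leaf (nat_lit 0x81022c6b9) (nat_lit 1539))
 (.leaf (nat_lit 0x810234889) (nat_lit 1539))
)) (.node (nat_lit 0x810234e91) (.leaf (nat_lit 0x810234a91) (nat_lit 1537))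
 (.node (nat_lit 0x810234e99) (.leaf (nat_lit 0x810234e91) (nat_lit 1537))
 (.leaf (nat_lit 0x810234e99) (nat_lit 1800))
))))))) (.node (nat_lit 0xa1020c4a5) (.node (nat_lit 0x82223ec29) (.node (nat_lit 0x8112a4081) (.node (nat_lit 0x8106242d1) (.node (nat_lit 0x81023cca1) (.node (nat_lit 0x81023cab1) (.leaf (nat_lit 0x81023c8a9) (nat_lit 1795))
 (.leaf (nat_lit 0x81023cab1) (nat_lit 776))
) (.node (nat_lit 0x81023cca9) (.leaf (nat_lit 0x81023cca1) (nat_lit 2056))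
 (.node (nat_lit 0x8106240c1) (.leaf (nat_lit 0x81023cca9) (nat_lit 1288))
 (.leaf (nat_lit 0x8106240c1) (nat_lit 1025))
))) (.node (nat_lit 0x810a15c81) (.node (nat_lit 0x8106640c1) (.leaf (nat_lit 0x8106242d1) (nat_lit 769))
 (.node (nat_lit 0x810a0d4a1) (.leaf (nat_lit 0x8106640c1) (nat_lit 1033))
 (.leaf (nat_lit 0x810a0d4a1) (nat_lit 1283))
)) (.node (nat_lit 0x810e250c1) (.leaf (nat_lit 0x810a15c81) (nat_lit 1545))
 (.node (nat_lit 0x810e3daf1) (.leaf (nat_lit 0x810e250c1) (nat_lit 1289))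
 (.leaf (nat_lit 0x810e3daf1) (nat_lit 1024))
)))) (.node (nat_lit 0x81822429b) (.node (nat_lit 0x811ee50c1) (.node (nat_lit 0x8116a40c1) (.leaf (nat_lit 0x8112a4081) (nat_lit 777))
 (.node (nat_lit 0x811ae5081) (.leaf (nat_lit 0x8116a40c1) (nat_lit 521))
 (.leaf (nat_lit 0x811ae5081) (nat_lit 1033))
)) (.node (nat_lit 0x818224083) (.leaf (nat_lit 0x811ee50c1) (nat_lit 777))
 (.node (nat_lit 0x818224293) (.leaf (nat_lit 0x818224083) (nat_lit 1024))
 (.leaf (nat_lit 0x818224293) (nat_lit 768))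
))) (.node (nat_lit 0x8192a4083) (.node (nat_lit 0x81822c0ab) (.leaf (nat_lit 0x81822429b) (nat_lit 1537))
 (.node (nat_lit 0x81822c2bb) (.leaf (nat_lit 0x81822c0ab) (nat_lit 1280))
 (.leaf (nat_lit 0x81822c2bb) (nat_lit 1024))
)) (.node (nat_lit 0x8196a42d3) (.leaf (nat_lit 0x8192a4083) (nat_lit 521))
 (.node (nat_lit 0x81a224083) (.leaf (nat_lit 0x8196a42d3) (nat_lit 777))
 (.leaf (nat_lit 0x81a224083) (nat_lit 1033))
))))) (.node (nat_lit 0x838226083) (.node (nat_lit 0x830206089) (.node (nat_lit 0x828c17c4a) (.node (nat_lit 0x822a77c01) (.leaf (nat_lit 0x82223ec29) (nat_lit 1024))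
 (.node (nat_lit 0x823ed7a59) (.leaf (nat_lit 0x822a77c01) (nat_lit 777))
 (.leaf (nat_lit 0x823ed7a59) (nat_lit 1794))
)) (.node (nat_lit 0x828c37a52) (.leaf (nat_lit 0x828c17c4a) (nat_lit 1539))
 (.node (nat_lit 0x82bce7042) (.leaf (nat_lit 0x828c37a52) (nat_lit 1539))
 (.leaf (nat_lit 0x82bce7042) (nat_lit 769))
))) (.node (nat_lit 0x83021e8a9) (.node (nat_lit 0x83020e0a9) (.leaf (nat_lit 0x830206089) (nat_lit 1283))
 (.node (nat_lit 0x830216889) (.leaf (nat_lit 0x83020e0a9) (nat_lit 1289))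
 (.leaf (nat_lit 0x830216889) (nat_lit 1027))
)) (.node (nat_lit 0x83820608b) (.leaf (nat_lit 0x83021e8a9) (nat_lit 1545))
 (.node (nat_lit 0x83821eabb) (.leaf (nat_lit 0x83820608b) (nat_lit 1545))
 (.leaf (nat_lit 0x83821eabb) (nat_lit 1283))
)))) (.node (nat_lit 0x8b4046088) (.node (nat_lit 0x83a226083) (.node (nat_lit 0x83822e0a3) (.leaf (nat_lit 0x838226083) (nat_lit 1289))
 (.node (nat_lit 0x83823eab3) (.leaf (nat_lit 0x83822e0a3) (nat_lit 1288))
 (.leaf (nat_lit 0x83823eab3) (nat_lit 1025))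
)) (.node (nat_lit 0x83ac77ed2) (.leaf (nat_lit 0x83a226083) (nat_lit 1289))
 (.node (nat_lit 0x83b8f7e92) (.leaf (nat_lit 0x83ac77ed2) (nat_lit 520))
 (.leaf (nat_lit 0x83b8f7e92) (nat_lit 1030))
))) (.node (nat_lit 0xa1020448d) (.node (nat_lit 0x8b4206089) (.leaf (nat_lit 0x8b4046088) (nat_lit 1027))
 (.node (nat_lit 0xa10204485) (.leaf (nat_lit 0x8b4206089) (nat_lit 771))
 (.leaf (nat_lit 0xa10204485) (nat_lit 1540))
)) (.node (nat_lit 0xa10204695) (.leaf (nat_lit 0xa1020448d) (nat_lit 1800))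
 (.node (nat_lit 0xa1020469d) (.leaf (nat_lit 0xa10204695) (nat_lit 1539))
 (.leaf (nat_lit 0xa1020469d) (nat_lit 1794))
)))))) (.node (nat_lit 0xcb4216989) (.node (nat_lit 0xc10204589) (.node (nat_lit 0xa50b0d4a5) (.node (nat_lit 0xa1020c6bd) (.node (nat_lit 0xa1020c4ad) (.leaf (nat_lit 0xa1020c4a5) (nat_lit 1284))
 (.node (nat_lit 0xa1020c6b5) (.leaf (nat_lit 0xa1020c4ad) (nat_lit 2055))
 (.leaf (nat_lit 0xa1020c6b5) (nat_lit 1795))
)) (.node (nat_lit 0xa42304405) (.leaf (nat_lit 0xa1020c6bd) (nat_lit 1544))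
 (.node (nat_lit 0xa50304485) (.leaf (nat_lit 0xa42304405) (nat_lit 1283))
 (.leaf (nat_lit 0xa50304485) (nat_lit 1027))
))) (.node (nat_lit 0xab420e0ad) (.node (nat_lit 0xa9420408d) (.leaf (nat_lit 0xa50b0d4a5) (nat_lit 1283))
 (.node (nat_lit 0xa946444c5) (.leaf (nat_lit 0xa9420408d) (nat_lit 1033))
 (.leaf (nat_lit 0xa946444c5) (nat_lit 1289))
)) (.node (nat_lit 0xc10204189) (.leaf (nat_lit 0xab420e0ad) (nat_lit 1289))
 (.node (nat_lit 0xc10204399) (.leaf (nat_lit 0xc10204189) (nat_lit 1283))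
 (.leaf (nat_lit 0xc10204399) (nat_lit 1800))
)))) (.node (nat_lit 0xc50304581) (.node (nat_lit 0xc10214b99) (.node (nat_lit 0xc10204799) (.leaf (nat_lit 0xc10204589) (nat_lit 2056))
 (.node (nat_lit 0xc10214989) (.leaf (nat_lit 0xc10204799) (nat_lit 1539))
 (.leaf (nat_lit 0xc10214989) (nat_lit 1027))
)) (.node (nat_lit 0xc10214d89) (.leaf (nat_lit 0xc10214b99) (nat_lit 2055))
 (.node (nat_lit 0xc10214f99) (.leaf (nat_lit 0xc10214d89) (nat_lit 1795))
 (.leaf (nat_lit 0xc10214f99) (nat_lit 1283))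
))) (.node (nat_lit 0xc5a30418b) (.node (nat_lit 0xc50b15d81) (.leaf (nat_lit 0xc50304581) (nat_lit 1289))
 (.node (nat_lit 0xc50f15dc1) (.leaf (nat_lit 0xc50b15d81) (nat_lit 1545))
 (.leaf (nat_lit 0xc50f15dc1) (nat_lit 1288))
)) (.node (nat_lit 0xc94044188) (.leaf (nat_lit 0xc5a30418b) (nat_lit 1545))
 (.node (nat_lit 0xc94204189) (.leaf (nat_lit 0xc94044188) (nat_lit 1027))
 (.leaf (nat_lit 0xc94204189) (nat_lit 771))
))))) (.node (nat_lit 0xe08434f56) (.node (nat_lit 0xe0842c37e) (.node (nat_lit 0xdc77dcf71) (.node (nat_lit 0xcc77c4359) (.leaf (nat_lit 0xcb4216989) (nat_lit 1027))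
 (.node (nat_lit 0xcf5faf7f9) (.leaf (nat_lit 0xcc77c4359) (nat_lit 1544))
 (.leaf (nat_lit 0xcf5faf7f9) (nat_lit 1029))
)) (.node (nat_lit 0xe036c4545) (.leaf (nat_lit 0xdc77dcf71) (nat_lit 1032))
 (.node (nat_lit 0xe0842c16e) (.leaf (nat_lit 0xe036c4545) (nat_lit 1537))
 (.leaf (nat_lit 0xe0842c16e) (nat_lit 1800))
))) (.node (nat_lit 0xe0843494e) (.node (nat_lit 0xe0842c566) (.leaf (nat_lit 0xe0842c37e) (nat_lit 1799))
 (.node (nat_lit 0xe0842c776) (.leaf (nat_lit 0xe0842c566) (nat_lit 1795))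
 (.leaf (nat_lit 0xe0842c776) (nat_lit 1539))
)) (.node (nat_lit 0xe08434b5e) (.leaf (nat_lit 0xe0843494e) (nat_lit 1795))
 (.node (nat_lit 0xe08434d46) (.leaf (nat_lit 0xe08434b5e) (nat_lit 1539))
 (.leaf (nat_lit 0xe08434d46) (nat_lit 2056))
)))) (.node (nat_lit 0xe1021cbbd) (.node (nat_lit 0xe10204585) (.node (nat_lit 0xe1020418d) (.leaf (nat_lit 0xe08434f56) (nat_lit 1799))
 (.node (nat_lit 0xe1020439d) (.leaf (nat_lit 0xe1020418d) (nat_lit 1281))
 (.leaf (nat_lit 0xe1020439d) (nat_lit 1539))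
)) (.node (nat_lit 0xe10204795) (.leaf (nat_lit 0xe10204585) (nat_lit 1536))
 (.node (nat_lit 0xe1021c9ad) (.leaf (nat_lit 0xe10204795) (nat_lit 1544))
 (.leaf (nat_lit 0xe1021c9ad) (nat_lit 1537))
))) (.node (nat_lit 0xe1b0c418e) (.node (nat_lit 0xe1021cda5) (.leaf (nat_lit 0xe1021cbbd) (nat_lit 1283))
 (.node (nat_lit 0xe1021cfb5) (.leaf (nat_lit 0xe1021cda5) (nat_lit 1792))
 (.leaf (nat_lit 0xe1021cfb5) (nat_lit 1536))
)) (.node (nat_lit 0xe23eef775) (.leaf (nat_lit 0xe1b0c418e) (nat_lit 1792))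
 (.node (nat_lit 0xefdfa75cf) (.leaf (nat_lit 0xe23eef775) (nat_lit 1282))
 (.leaf (nat_lit 0xefdfa75cf) (nat_lit 776))
))))))))

theorem I4_ok : I4_t.all2 (witLeaf B6.A F4L.cK (nat_lit 0x808424042) I4_t) = true := by decide +kernel

end Cfsg.Agent.S8
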