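import Mathlib
import Cfsg.Agent.S8.Lst
import Cfsg.Agent.S8.LData2
import Cfsg.Agent.S8.Mod
import Cfsg.Agent.T16.SpTop
import Cfsg.Agent.S0814

/-! Facts about `Sp₆(2)`. -/

set_option autoImplicit false
set_option linter.unusedSectionVars false
set_option synthInstance.maxSize 100000
set_option synthInstance.maxHeartbeats 1000000
set_option maxRecDepth 100000

namespace Cfsg.Agent.S8

open Cfsg.Agent.Spor Cfsg.Agent.Rec Cfsg.Agent.Inv.Fz Cfsg.Agent.T16 Cfsg.Agent.F4L Subgroup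

universe u

variable {G : Type u} [Group G] [Finite G]

theorem gen27' {c1 c2 c3 : G} {X M : Subgroup G} (h27 : Nat.card (clos [c1, c2, c3]) = 27)
    (h3 : ∀ x ∈ clos [c1, c2, c3], x ^ 3 = 1) (hc : ∀ x ∈ clos [c1, c2, c3], ∀ y ∈ clos [c1, c2, c3], x * y = y * x)
    (hn : clos [c1, c2, c3] ≤ normalizer (X : Set G)) (hX : (Nat.card X).Coprime 3)
    (h : ∀ P ∈ [(c2, c3), (c1, c3), (c1, c2), (c1 * c2⁻¹, c3), (c1 * c2, c3), (c1 * c3⁻¹, c2), (c1 * c3, c2),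
      (c2 * c3⁻¹, c1), (c2 * c3, c1), (c1 * c2⁻¹, c2 * c3⁻¹), (c1 * c2⁻¹, c2 * c3), (c1 * c2, c2 * c3),
      (c1 * c2, c2 * c3⁻¹)], ∀ k ∈ X, k * P.1 = P.1 * k → k * P.2 = P.2 * k → k ∈ M) : X ≤ M := by
  generalize hA : clos [c1, c2, c3] = A at h27 h3 hc hn
  have hm : IsMulCommutative A := ⟨⟨fun a b => Subtype.ext (hc a a.2 b b.2)⟩⟩
  refine GT.CopAct.le_of_hyperplane_centralizer_le (p := 3) ⟨hm, h3⟩ (fun e => by simp [e] at h27) hn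
    ((Nat.Prime.coprime_iff_not_dvd Nat.prime_three).1 hX.symm) fun B hB h9 k hk => ?_
  have hN : (B.subgroupOf A).Normal := ⟨fun a ha g => by rwa [mul_comm' g, mul_inv_cancel_right]⟩
  have φ := mulEquivOfPrimeCardEq (p := 3) (G := A ⧸ B.subgroupOf A) (G' := Multiplicative (ZMod 3)) h9 (by simp)
  let ψ : A →* Multiplicative (ZMod 3) := φ.toMonoidHom.comp (QuotientGroup.mk' _)
  have m : ∀ x : A, ψ x = 1 → k * x = x * k := fun x hx =>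
    (hk.2 _ ((QuotientGroup.eq_one_iff x).1 (φ.map_eq_one_iff.1 hx))).symm
  obtain ⟨x1, rfl⟩ : ∃ x : A, (x : G) = c1 := ⟨⟨c1, hA ▸ mem_clos (by simp)⟩, rfl⟩
  obtain ⟨x2, rfl⟩ : ∃ x : A, (x : G) = c2 := ⟨⟨c2, hA ▸ mem_clos (by simp)⟩, rfl⟩
  obtain ⟨x3, rfl⟩ : ∃ x : A, (x : G) = c3 := ⟨⟨c3, hA ▸ mem_clos (by simp)⟩, rfl⟩
  have d : ∀ c1 c2 c3 : Multiplicative (ZMod 3), ∃ P ∈ [(c2, c3), (c1, c3), (c1, c2), (c1 * c2⁻¹, c3), (c1 * c2, c3),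
      (c1 * c3⁻¹, c2), (c1 * c3, c2), (c2 * c3⁻¹, c1), (c2 * c3, c1), (c1 * c2⁻¹, c2 * c3⁻¹), (c1 * c2⁻¹, c2 * c3),
      (c1 * c2, c2 * c3), (c1 * c2, c2 * c3⁻¹)], P.1 = 1 ∧ P.2 = 1 := by decide
  obtain ⟨P, hP, e⟩ := d (ψ x1) (ψ x2) (ψ x3)
  simp only [List.forall_mem_cons, List.not_mem_nil, false_imp_iff, implies_true, and_true] at h
  obtain ⟨h1, h2, h3, h4, h5, h6, h7, h8, h9, h10, h11, h12, h13⟩ := h
  simp only [List.mem_cons, List.not_mem_nil, or_false, ← map_inv, ← map_mul] at hP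
  rcases hP with rfl | rfl | rfl | rfl | rfl | rfl | rfl | rfl | rfl | rfl | rfl | rfl | rfl
  exacts [h1 k hk.1 (m _ e.1) (m _ e.2), h2 k hk.1 (m _ e.1) (m _ e.2), h3 k hk.1 (m _ e.1) (m _ e.2),
    h4 k hk.1 (m _ e.1) (m _ e.2), h5 k hk.1 (m _ e.1) (m _ e.2), h6 k hk.1 (m _ e.1) (m _ e.2),
    h7 k hk.1 (m _ e.1) (m _ e.2), h8 k hk.1 (m _ e.1) (m _ e.2), h9 k hk.1 (m _ e.1) (m _ e.2),
    h10 k hk.1 (m _ e.1) (m _ e.2), h11 k hk.1 (m _ e.1) (m _ e.2), h12 k hk.1 (m _ e.1) (m _ e.2),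
    h13 k hk.1 (m _ e.1) (m _ e.2)]

theorem no3 {X : Subgroup G} (h3 : (Nat.card X).Coprime 3) {y : G} (hy : y ∈ X) : orderOf y ≠ 3 := fun e =>
  absurd (Nat.Coprime.coprime_dvd_left (e ▸ X.orderOf_dvd_natCard hy) h3) (by norm_num)

theorem one_of_cube {X : Subgroup G} (h3 : (Nat.card X).Coprime 3) {y : G} (hy : y ∈ X) (h : y ^ 3 = 1) : y = 1 :=
  by_contra fun h1 => no3 h3 hy (orderOf_eq_prime h h1)

theorem comm_mem {X : Subgroup G} {g k : G} (hg : g ∈ normalizer (X : Set G)) (hk : k ∈ X) : k * g * k⁻¹ * g⁻¹ ∈ X :=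
  mem_eq (by group) (mul_mem hk (conj_mem_of_mem_norm hg (inv_mem hk)))

theorem mem_of_cube {M : Subgroup G} {k : G} (h : (orderOf k).Coprime 3) (h3 : k ^ 3 ∈ M) : k ∈ M :=
  zpowers_le.2 h3 (mem_zpowers_pow_iff.2 h.symm)

namespace Lt

variable (s : Lt G)

theorem center {g : G} (hg : g ∈ s.L) (h : ∀ l ∈ s.L, g * l = l * g) : g = 1 := by
  have := s.simple
  rcases (inferInstance : (Subgroup.center s.L).Normal).eq_bot_or_eq_top with e | e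
  · have : (⟨g, hg⟩ : s.L) ∈ Subgroup.center s.L := mem_center_iff.2 fun l => Subtype.ext (h l l.2).symm
    rw [e, mem_bot] at this
    exact congrArg Subtype.val this
  · have : (⟨s.e1, s.e1L⟩ : s.L) ∈ Subgroup.center s.L := e ▸ mem_top _
    exact absurd (congrArg Subtype.val (mem_center_iff.1 this ⟨s.d1, s.d1L⟩))
      (s.hL.decide s.rep (by decide +kernel) : ¬ s.d1 * s.e1 = s.e1 * s.d1)

theorem card_aut : Nat.card (MulAut s.L) = Nat.card s.L := by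
  obtain ⟨φ⟩ := s.equiv
  obtain ⟨ψ⟩ := sp_equiv 3 (by norm_num)
  have := S0814.result (F := ZMod 2) 2 1 le_rfl (by simp) 3 (by norm_num) (by norm_num)
  rw [Nat.card_congr (MulAut.congr (φ.trans ψ)).toEquiv, this, Nat.card_congr (φ.trans ψ).toEquiv]
  simp

/-- All automorphisms are inner. -/
theorem out {g : G} (hg : g ∈ normalizer (s.L : Set G)) : ∃ l ∈ s.L, g * l⁻¹ ∈ centralizer (s.L : Set G) := by
  have hi : Function.Injective (MulAut.conj : s.L →* MulAut s.L) := (injective_iff_map_eq_one _).2 fun a ha =>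
    Subtype.ext (s.center a.2 fun l hl => by
      have := congrArg Subtype.val (MulEquiv.congr_fun ha ⟨l, hl⟩)
      exact mul_inv_eq_iff_eq_mul.1 this)
  obtain ⟨l, hl⟩ := ((Nat.bijective_iff_injective_and_card _).2 ⟨hi, s.card_aut.symm⟩).2
    (s.L.normalizerMonoidHom ⟨g, hg⟩)
  refine ⟨l, l.2, fun x hx => ?_⟩
  have : (l : G) * ((l : G)⁻¹ * x * l) * (l : G)⁻¹ = g * ((l : G)⁻¹ * x * l) * g⁻¹ :=
    congrArg Subtype.val (MulEquiv.congr_fun hl ⟨(l : G)⁻¹ * x * l, mul_mem (mul_mem (inv_mem l.2) hx) l.2⟩)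
  calc x * (g * (l : G)⁻¹) = l * ((l : G)⁻¹ * x * l) * (l : G)⁻¹ * (g * (l : G)⁻¹) := by group
    _ = _ := by rw [this]; group

/-- `L` is generated by its involutions. -/
theorem le_of_inv {M : Subgroup G} (h : ∀ i ∈ s.L, i * i = 1 → i ∈ M) : s.L ≤ M := by
  refine s.st_M.ge.trans (clos_le.2 fun y hy => h y (s.st_M.le (mem_clos hy)) ?_)
  revert y
  simp only [List.forall_mem_cons, List.not_mem_nil, false_imp_iff, implies_true, and_true]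
  exact Cod.listsL_nil.decide s.st.rep0 (by decide +kernel)

theorem conj_D {g y : G} (hg : g ∈ s.L) (hy : y ∈ s.D) : g * y * g⁻¹ ∈ s.D := conj_mem_cls (s.st_M.ge hg) hy

theorem D_le {y : G} (hy : y ∈ s.D) : y ∈ s.L := s.st_M.le (s.st.D_le hy)

theorem inv_cls {i : G} (hi : i ∈ s.L) (h : i * i = 1) : ∃ l ∈ s.L, l * i * l⁻¹ = 1 ∨ l * i * l⁻¹ = s.d3 ∨
    l * i * l⁻¹ = s.a ∨ l * i * l⁻¹ = s.d1 * s.d2 ∨ l * i * l⁻¹ = s.a * s.d3 := by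
  obtain ⟨m, hm, h1⟩ := exists_conj_mem_syl s.st.sylR (s.st_M.ge hi) (k := 1) (by rw [pow_one, sq, h])
  rw [s.st_M] at hm
  obtain ⟨W1, l1, m1⟩ := s.rep.wit (s.rep.nth 7) I1_ok
  obtain ⟨W2, l2, m2⟩ := s.rep.wit (s.rep.nth 4) I2_ok
  obtain ⟨W3, l3, m3⟩ := s.rep.wit (x := s.d1 * s.d2) (s.rep.term _ (by decide +kernel)) I3_ok
  obtain ⟨W4, l4, m4⟩ := s.rep.wit (x := s.a * s.d3) (s.rep.term _ (by decide +kernel)) I4_ok
  have k : ∀ y ∈ s.st.R, y * y = 1 → y = 1 ∨ y ∈ W1 ∨ y ∈ W2 ∨ y ∈ W3 ∨ y ∈ W4 :=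
    (Cod.Lists.cons (C := s.C) s.st.gR.1 <| l1.cons <| l2.cons <| l3.cons <| l4.cons Cod.listsL_nil).decide Cod.repL_nil
      (by decide +kernel)
  have c : ∀ {x : G}, m * i * m⁻¹ ∈ cls s.e x → ∃ l ∈ s.L, l * i * l⁻¹ = x := fun ⟨g, hg, e⟩ =>
    ⟨g⁻¹ * m, mul_mem (inv_mem hg) hm, by
      calc _ = g⁻¹ * (m * i * m⁻¹) * g := by group
        _ = _ := by rw [← e]; group⟩
  rcases k _ h1 (conj_sq h) with e | e | e | e | e
  · exact ⟨m, hm, .inl e⟩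
  · exact (c (m1 e)).imp fun _ h => ⟨h.1, .inr (.inl h.2)⟩
  · exact (c (m2 e)).imp fun _ h => ⟨h.1, .inr (.inr (.inl h.2))⟩
  · exact (c (m3 e)).imp fun _ h => ⟨h.1, .inr (.inr (.inr (.inl h.2)))⟩
  · exact (c (m4 e)).imp fun _ h => ⟨h.1, .inr (.inr (.inr (.inr h.2)))⟩

end Lt

theorem lt_of_rep {G : Type u} [Group G] {C : Cod B6.A G} {e : List G} (h : C.RepL cK e) : ∃ s : Lt G, s.L = clos e := by
  have hl : e.length = 10 := (List.Forall₂.length_eq h).symm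
  match e, hl, h with
  | [_, _, _, _, _, _, _, _, _, _], _, h => exact ⟨⟨_, _, _, _, _, _, _, _, _, _, C, h⟩, rfl⟩

/-- Letters in a group isomorphic to `Sp₆(2)`. -/
theorem exists_lt {L : Subgroup G} {F : Type*} [Field F] [Fintype F] (hF : Fintype.card F = 2)
    (h : Nonempty (L ≃* PSp 3 F)) : ∃ s : Lt G, s.L = L := by
  obtain ⟨φ⟩ := h
  obtain ⟨ψ⟩ := sp_equiv 3 (by norm_num)
  obtain ⟨s, -⟩ := lt_of_rep (Sp6.s0.rep0.words wK wK_ok)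
  obtain ⟨χ⟩ := s.equiv
  obtain ⟨C, e, h1, h2⟩ := s.rep.transport
    (χ.trans (ψ.trans ((Cl.pspMapEquiv 3 (ZMod.ringEquivOfPrime F Nat.prime_two hF)).trans φ.symm)))
  exact (lt_of_rep h1).imp fun _ h => h.trans h2

theorem cj_comm' {g x a : G} (h : g * a = a * g) (hx : x * a = a * x) : g * x * g⁻¹ * a = a * (g * x * g⁻¹) :=
  ((show Commute g a from h).mul_left hx).mul_left (show Commute g a from h).inv_left

theorem comm_of_cj {c g x : G} (h : c * x * c⁻¹ = g * x * g⁻¹) : c⁻¹ * g * x = x * (c⁻¹ * g) := by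
  calc _ = c⁻¹ * (g * x * g⁻¹) * g := by group
    _ = _ := by rw [← h]; group

namespace Lt

variable (s : Lt G)

theorem D_facts : s.d3 ∈ s.D ∧ s.e3 * s.d3 ∈ s.D ∧ s.v * s.d3 * s.v⁻¹ = s.d1 := s.hL.decide s.rep (by decide +kernel)

theorem Y6_comm : ∀ y ∈ s.Y6, y * s.e3 = s.e3 * y ∧ y * s.d3 = s.d3 * y := s.hL.decide s.rep (by decide +kernel)

theorem cen_e3_d3 {g : G} (hg : g ∈ s.L) (h1 : g * s.e3 = s.e3 * g) (h2 : g * s.d3 = s.d3 * g) : g ∈ s.Y6 := by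
  have k1 := mul_card_le_of_conj (K := s.L ⊓ centralizer {s.d3}) inf_le_left (fun k hk => mem_cen.1 hk.2) (S := s.D)
    fun y hy => by
      obtain ⟨g, hg, rfl⟩ := s.mem_D.1 hy
      exact ⟨g * s.v, mul_mem hg s.vL, by rw [← s.D_facts.2.2]; group⟩
  have r : s.C.RepL _ [s.e1, s.e2, s.d1, s.d2, s.a, s.x, s.d3, s.v * s.x * s.v⁻¹] :=
    (s.rep.pick [0, 1, 5, 6, 4, 9, 7]).append (s.st.rep0.pick [2])
  have hO := (r.orb (x := s.e3 * s.d3) (s.rep.term _ (by decide +kernel)) O32_ok).2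
  have k2 := mul_card_le_of_conj (L := s.L ⊓ centralizer {s.d3})
    (K := (s.L ⊓ centralizer {s.d3}) ⊓ centralizer {s.e3 * s.d3}) inf_le_left (fun k hk => mem_cen.1 hk.2)
    (S := cls [s.e1, s.e2, s.d1, s.d2, s.a, s.x, s.d3, s.v * s.x * s.v⁻¹] (s.e3 * s.d3)) fun y ⟨g, hg, e⟩ =>
      ⟨g, clos_le.2 (by
        simp only [List.forall_mem_cons, List.not_mem_nil, false_imp_iff, implies_true, and_true, mem_inf, mem_cen]
        exact ⟨⟨s.e1L, s.hL.decide s.rep (by decide +kernel)⟩, ⟨s.e2L, s.hL.decide s.rep (by decide +kernel)⟩,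
          ⟨s.d1L, s.hL.decide s.rep (by decide +kernel)⟩, ⟨s.d2L, s.hL.decide s.rep (by decide +kernel)⟩,
          ⟨s.aL, s.hL.decide s.rep (by decide +kernel)⟩, ⟨s.xL, s.hL.decide s.rep (by decide +kernel)⟩, s.d3L,
          ⟨mul_mem (mul_mem s.vL s.xL) (inv_mem s.vL), s.hL.decide s.rep (by decide +kernel)⟩⟩) hg, e⟩
  rw [s.gD.2, s.card_L] at k1
  rw [hO] at k2
  change 32 * _ ≤ _ at k2
  refine (eq_of_le_of_card_ge (H := s.Y6) (K := (s.L ⊓ centralizer {s.d3}) ⊓ centralizer {s.e3 * s.d3})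
    (fun y hy => ⟨⟨s.Y6_le hy, mem_cen.2 (s.Y6_comm y hy).2⟩,
      mem_cen.2 ((show Commute y s.e3 from (s.Y6_comm y hy).1).mul_right (s.Y6_comm y hy).2)⟩)
    (by rw [s.gY6.2]; omega)).ge ⟨⟨hg, mem_cen.2 h2⟩, mem_cen.2 ((show Commute g s.e3 from h1).mul_right h2)⟩

theorem norm_S3 {g : G} (hg : g ∈ s.L) (h1 : g * s.d3 * g⁻¹ ∈ s.S3) (h2 : g * (s.e3 * s.d3) * g⁻¹ ∈ s.S3) :
    ∃ c ∈ s.S3, c⁻¹ * g ∈ s.Y6 := by
  have k : ∀ y ∈ s.S3, ∀ y' ∈ s.S3, y ∈ s.D → y' ∈ s.D → y ≠ y' →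
      ∃ c ∈ s.S3, c * s.d3 * c⁻¹ = y ∧ c * (s.e3 * s.d3) * c⁻¹ = y' := s.hL.decide s.rep (by decide +kernel)
  have k2 : s.d3 ≠ s.e3 * s.d3 ∧ s.e3 * s.d3 * s.d3 = s.e3 := s.hL.decide s.rep (by decide +kernel)
  obtain ⟨c, hc, e1, e2⟩ := k _ h1 _ h2 (s.conj_D hg s.D_facts.1) (s.conj_D hg s.D_facts.2.1) (by simpa using k2.1)
  exact ⟨c, hc, s.cen_e3_d3 (mul_mem (inv_mem (s.S3_le hc)) hg)
    (k2.2 ▸ (show Commute (c⁻¹ * g) _ from comm_of_cj e2).mul_right (comm_of_cj e1)) (comm_of_cj e1)⟩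

theorem cen_e3 {g : G} (hg : g ∈ s.L) (h : g * s.e3 = s.e3 * g) : ∃ c ∈ zpowers s.e3, ∃ y ∈ s.Y6, g = c * y := by
  have k : (∀ y ∈ s.D, y * s.e3 = s.e3⁻¹ * y → y ∈ s.S3) ∧ s.d3 * s.e3 = s.e3⁻¹ * s.d3 ∧
      s.e3 * s.d3 * s.e3 = s.e3⁻¹ * (s.e3 * s.d3) ∧ ∀ c ∈ s.S3, c * s.e3 = s.e3 * c → c = 1 ∨ c = s.e3 ∨ c = s.e3⁻¹ :=
    s.hL.decide s.rep (by decide +kernel)
  have k1 : ∀ y ∈ s.D, y * s.e3 = s.e3⁻¹ * y → g * y * g⁻¹ ∈ s.S3 := fun y hy e => k.1 _ (s.conj_D hg hy) (by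
    have h' : g * s.e3 * g⁻¹ = s.e3 := by rw [h]; group
    rw [← h', conj_mul, e, ← conj_mul]; group)
  obtain ⟨c, hc, hy⟩ := s.norm_S3 hg (k1 _ s.D_facts.1 k.2.1) (k1 _ s.D_facts.2.1 k.2.2.1)
  refine ⟨c, ?_, _, hy, by group⟩
  have : c * s.e3 = s.e3 * c := by
    simpa using ((show Commute g s.e3 from h).mul_left (show Commute _ s.e3 from (s.Y6_comm _ hy).1).inv_left).eq
  rcases k.2.2.2 c hc this with rfl | rfl | rfl
  exacts [one_mem _, mem_zpowers _, inv_mem (mem_zpowers _)]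

theorem cen_f {g : G} (hg : g ∈ s.L) (h : g * s.f = s.f * g) : g ∈ s.F := by
  have k : (∀ y ∈ s.D, y * s.f = s.f * y → y ∈ s.S3) ∧ s.d3 * s.f = s.f * s.d3 ∧
      s.e3 * s.d3 * s.f = s.f * (s.e3 * s.d3) ∧ (∀ c ∈ s.S3, c * s.f = s.f * c ∧ c ∈ s.F) ∧
      ∀ y ∈ s.Y6, y * s.f = s.f * y → y ∈ s.F := s.hL.decide s.rep (by decide +kernel)
  obtain ⟨c, hc, hy⟩ := s.norm_S3 hg (k.1 _ (s.conj_D hg s.D_facts.1) (cj_comm' h k.2.1))
    (k.1 _ (s.conj_D hg s.D_facts.2.1) (cj_comm' h k.2.2.1))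
  exact mem_eq (by group) (mul_mem (k.2.2.2.1 c hc).2 (k.2.2.2.2 _ hy
    ((show Commute c s.f from (k.2.2.2.1 c hc).1).inv_left.mul_left h)))

theorem CC_comm : ∀ c ∈ s.CC, c * s.z = s.z * c := s.hL.decide s.rep (by decide +kernel)

theorem cen_z {g : G} (hg : g ∈ s.L) (h : g * s.z = s.z * g) : g ∈ s.CC := by
  have k : (∀ y ∈ s.D, ¬ y * (s.z * y * s.z⁻¹) = s.z * y * s.z⁻¹ * y → ∃ c ∈ s.CC, c * s.d3 * c⁻¹ = y) ∧
      ¬ s.d3 * (s.z * s.d3 * s.z⁻¹) = s.z * s.d3 * s.z⁻¹ * s.d3 ∧ s.d3 * (s.z * s.d3 * s.z⁻¹) = s.e3 ∧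
      ∀ y ∈ s.Y6, y * s.z = s.z * y → y ∈ s.CC := s.hL.decide s.rep (by decide +kernel)
  have h' : g * s.z * g⁻¹ = s.z := by rw [h]; group
  obtain ⟨c, hc, e⟩ := k.1 _ (s.conj_D hg s.D_facts.1) fun e => k.2.1 (by
    rw [← h', conj_inv, conj_mul, conj_mul, conj_mul, conj_mul] at e
    exact mul_left_cancel (mul_right_cancel e))
  have c1 : Commute (c⁻¹ * g) s.z := (show Commute c s.z from s.CC_comm c hc).inv_left.mul_left h
  have c2 : Commute (c⁻¹ * g) s.d3 := comm_of_cj e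
  exact mem_eq (by group) (mul_mem hc (k.2.2.2 _ (s.cen_e3_d3 (mul_mem (inv_mem (s.CC_le hc)) hg)
    (k.2.2.1 ▸ c2.mul_right ((c1.mul_right c2).mul_right c1.inv_right)) c2) c1))

theorem cen_H {g : G} (hg : g ∈ s.L) (h1 : g * s.z = s.z * g) (h2 : g * s.u = s.u * g) : g ∈ s.B0 :=
  (s.hL.decide s.rep (by decide +kernel) : ∀ c ∈ s.CC, c * s.u = s.u * c → c ∈ s.B0) g (s.cen_z hg h1) h2

theorem e1B : s.e1 ∈ s.B0 := mem_clos (by simp)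
theorem e2B : s.e2 ∈ s.B0 := mem_clos (by simp)
theorem e3B : s.e3 ∈ s.B0 := mem_clos (by simp)

theorem cen_B0 {g : G} (hg : g ∈ s.L) (h : ∀ j ∈ s.B0, g * j = j * g) : g ∈ s.B0 :=
  s.cen_H hg (h _ (mul_mem (mul_mem s.e1B s.e2B) s.e3B)) (h _ (mul_mem s.e1B (inv_mem s.e2B)))

theorem N_norm : s.N ≤ normalizer (s.B0 : Set G) := clos_le.2 fun g hg => mem_normalizer_of_conj_mem (by
  revert g
  simp only [List.forall_mem_cons, List.not_mem_nil, false_imp_iff, implies_true, and_true]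
  exact s.hL.decide s.rep (by decide +kernel))

theorem W3_le_N : s.W3 ≤ s.N := clos_le.2 fun x hx => mem_clos (by simp at hx ⊢; tauto)
theorem B0_le_N : s.B0 ≤ s.N := clos_le.2 fun x hx => mem_clos (by simp at hx ⊢; tauto)
theorem B0_le_S : s.B0 ≤ s.S := clos_le.2 fun x hx => mem_clos (by simp at hx ⊢; tauto)

theorem norm_B0 {g : G} (hg : g ∈ s.L) (h : g ∈ normalizer (s.B0 : Set G)) : g ∈ s.N := by
  have k : (∀ j ∈ s.B0, (∃ y ∈ s.D, y * j = j * y) ∨ ∃ k ∈ s.W3, k * s.z * k⁻¹ = j) ∧ (∀ y ∈ s.D, ¬ y * s.z = s.z * y) ∧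
      ∀ c ∈ s.CC, c * s.e1 * c⁻¹ ∈ s.B0 → c ∈ s.N := s.hL.decide s.rep (by decide +kernel)
  rcases k.1 _ (conj_mem_of_mem_norm h (mul_mem (mul_mem s.e1B s.e2B) s.e3B)) with ⟨y, hy, e⟩ | ⟨c, hc, e⟩
  · refine (k.2.1 _ (s.conj_D (inv_mem hg) hy) ?_).elim
    calc _ = g⁻¹ * (y * (g * s.z * g⁻¹)) * g := by group
      _ = _ := by rw [e]; group
  · have hc' := s.W3_le_N hc
    exact mem_eq (by group) (mul_mem hc' (k.2.2 _ (s.cen_z (mul_mem (inv_mem (s.W3_le hc)) hg) (comm_of_cj e))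
      (conj_mem_of_mem_norm (mul_mem (inv_mem (s.N_norm hc')) h) s.e1B)))

theorem mem_N {g : G} (hg : g ∈ s.N) : ∃ j ∈ s.B0, ∃ k ∈ s.W3, g = j * k := by
  have : s.N ≤ s.W3 ⊔ s.B0 := clos_le.2 (by
    simp only [List.forall_mem_cons, List.not_mem_nil, false_imp_iff, implies_true, and_true]
    exact ⟨mem_sup_right s.e1B, mem_sup_right s.e2B, mem_sup_right s.e3B, mem_sup_left (mem_clos (by simp)),
      mem_sup_left (mem_clos (by simp)), mem_sup_left (mem_clos (by simp))⟩)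
  obtain ⟨a, ha, b, hb, rfl⟩ := (mem_sup_iff_of_le_normalizer (s.W3_le_N.trans s.N_norm)).1 (this hg)
  exact ⟨_, conj_mem_of_mem_norm (s.N_norm (s.W3_le_N ha)) hb, a, ha, by group⟩

theorem sylS : IsSylIn 3 s.S s.L := isSylIn_of_card s.S_le (k := 4) (m := 17920) s.gS.2 s.card_L (by norm_num)

theorem conj_three {g : G} (hg : g ∈ s.L) (h : g ^ 3 = 1) : ∃ l ∈ s.L, l * g * l⁻¹ ∈ s.B0 := by
  obtain ⟨m, hm, h1⟩ := exists_conj_mem_syl s.sylS hg (k := 1) (by rwa [pow_one])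
  have k : ∀ y ∈ s.S, y ^ 3 = 1 → ∃ c ∈ s.Q1, c * y * c⁻¹ ∈ s.B0 := s.hL.decide s.rep (by decide +kernel)
  obtain ⟨c, hc, e⟩ := k _ h1 (by rw [conj_pow, h]; group)
  exact ⟨c * m, mul_mem (s.Q1_le hc) hm, mem_eq (by group) e⟩

/-- Elementary abelian 3-subgroups. -/
theorem elem {E : Subgroup G} (hE : E ≤ s.L) (hc : ∀ x ∈ E, ∀ y ∈ E, x * y = y * x) (h3 : ∀ x ∈ E, x ^ 3 = 1) :
    Nat.card E ≤ 27 ∧ (27 ≤ Nat.card E → ∃ l ∈ s.L, Inv.Fz.cj l E = s.B0) := by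
  obtain ⟨l, hl, h⟩ := s.sylS.exists_cj_le (Q := E) (fun x => ⟨1, Subtype.ext (by simpa using h3 x x.2)⟩) hE
  by_cases hB : Inv.Fz.cj l E ≤ s.B0
  · have := card_le_of_le hB
    rw [card_cj, s.gB0.2] at this
    exact ⟨this, fun h27 => ⟨l, hl, eq_of_le_of_card_ge hB (by rwa [card_cj, s.gB0.2])⟩⟩
  · obtain ⟨y, hy, hy'⟩ := SetLike.not_le_iff_exists.1 hB
    have k := s.hL.all_count s.rep s.gS.1 s.gS.1 (fun y => ¬ y ∈ s.B0) (fun y x => x * y = y * x) 9 (by decide +kernel)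
      y (h hy) hy'
    have := (card_le_ncard (F := Inv.Fz.cj l E) fun x hx => (⟨h hx, by
      have := hc _ (mem_cj.1 hx) _ (mem_cj.1 hy)
      simp only [mul_assoc, mul_inv_cancel_left, mul_right_inj] at this
      simpa only [← mul_assoc, mul_left_inj] using this⟩ : x ∈ {x | x ∈ (s.S : Set G) ∧ x * y = y * x})).trans k
    rw [card_cj] at this
    exact ⟨by omega, fun h27 => by omega⟩

theorem sig {X : Subgroup G} (hX : X ≤ s.L) (h3 : (Nat.card X).Coprime 3) (hn : s.B0 ≤ normalizer (X : Set G)) :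
    X = ⊥ := by
  have k1 : ∀ k ∈ X, k ∈ s.N → k = 1 := fun k hk h => one_of_cube h3 hk (s.B0_exp _ (s.cen_B0 (hX hk) fun j hj => by
    have := one_of_cube h3 (comm_mem (hn hj) hk)
      (s.B0_exp _ (mul_mem (conj_mem_of_mem_norm (s.N_norm h) hj) (inv_mem hj)))
    rwa [mul_inv_eq_one, mul_inv_eq_iff_eq_mul] at this))
  have k2 : ∀ y, (∃ c ∈ s.W3, c * y * c⁻¹ = s.f) → ∀ k ∈ X, k * y = y * k → k ∈ (⊥ : Subgroup G) :=
    fun y ⟨c, hc, e⟩ k hk h => k1 k hk (mem_eq (by group) (mul_mem (mul_mem (inv_mem (s.W3_le_N hc))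
      (s.F_le_N (s.cen_f (mul_mem (mul_mem (s.W3_le hc) (hX hk)) (inv_mem (s.W3_le hc))) (by rw [← e, conj_mul, conj_mul, h])))) (s.W3_le_N hc)))
  have p : ∀ {k x y : G}, k * x = x * k → k * y = y * k → k * (x * y) = x * y * k := fun h1 h2 =>
    (show Commute _ _ from h1).mul_right h2
  refine le_bot_iff.1 (gen27' s.gB0.2 s.B0_exp s.B0_comm hn h3 ?_)
  simp only [List.forall_mem_cons, List.not_mem_nil, false_imp_iff, implies_true, and_true]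
  refine ⟨fun k hk h1 h2 => k2 _ ?_ k hk (p h1 h2), fun k hk h1 h2 => k2 _ ?_ k hk (p h1 h2),
    fun k hk h1 h2 => k2 _ ?_ k hk (p h1 h2), fun k hk h1 _ => k2 _ ?_ k hk h1, fun k hk h1 _ => k2 _ ?_ k hk h1,
    fun k hk h1 _ => k2 _ ?_ k hk h1, fun k hk h1 _ => k2 _ ?_ k hk h1, fun k hk h1 _ => k2 _ ?_ k hk h1,
    fun k hk h1 _ => k2 _ ?_ k hk h1, fun k hk h1 _ => k2 _ ?_ k hk h1, fun k hk h1 _ => k2 _ ?_ k hk h1,
    fun k hk h1 _ => k2 _ ?_ k hk h1, fun k hk h1 _ => k2 _ ?_ k hk h1⟩ <;>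
  exact s.hL.decide s.rep (by decide +kernel)

/-- The characterisation of `x` in `Y6`. -/
theorem x_unique {k : G} (hk : k ∈ s.Y6) (h2 : k * k = 1) (h3 : k * s.d1 = s.d1 * k) (h4 : k * s.d2 = s.d2 * k)
    (h5 : (k * s.e1 * s.d1) ^ 3 = 1) (h6 : (k * s.e2 * s.d2) ^ 3 = 1) : k = s.x :=
  (s.hL.decide s.rep (by decide +kernel) : ∀ k ∈ s.Y6, k * k = 1 → k * s.d1 = s.d1 * k → k * s.d2 = s.d2 * k →
    (k * s.e1 * s.d1) ^ 3 = 1 → (k * s.e2 * s.d2) ^ 3 = 1 → k = s.x) k hk h2 h3 h4 h5 h6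

theorem mem_Y6 {g : G} (hg : g ∈ s.L) (h : g * s.e3 = s.e3 * g) (h3 : (orderOf g).Coprime 3) : g ∈ s.Y6 := by
  obtain ⟨c, ⟨i, rfl⟩, y, hy, rfl⟩ := s.cen_e3 hg h
  refine mem_of_cube h3 ?_
  rw [((show Commute y s.e3 from (s.Y6_comm y hy).1).symm.zpow_left i).mul_pow, ← zpow_natCast, ← zpow_mul, mul_comm,
    zpow_mul, zpow_natCast, s.B0_exp _ s.e3B, one_zpow, one_mul]
  exact pow_mem hy 3

section three

variable {X : Subgroup G} (hX : X ≤ s.L) (h3 : (Nat.card X).Coprime 3)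
include hX h3

theorem le_Y6 (h1 : X ≤ centralizer {s.e3}) : X ≤ s.Y6 := fun _ hk =>
  s.mem_Y6 (hX hk) (mem_cen.1 (h1 hk)) (Nat.Coprime.coprime_dvd_left (X.orderOf_dvd_natCard hk) h3)

omit hX in
theorem le_four {Z : Subgroup G} {a f p : G} (hY : X ≤ s.Y6) (h2 : X ≤ centralizer {a}) (hn : f ∈ normalizer (X : Set G))
    (k1 : ∀ k ∈ s.Y6, k * a = a * k → k ∈ Z ∨ orderOf (k * k) = 3 ∨ Let (k * f * k⁻¹ * f⁻¹) fun c => orderOf (c * c) = 3)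
    (k2 : ∀ k ∈ Z, k = 1 ∨ k = a ∨ Let (k * f * k⁻¹ * f⁻¹) fun c => c = p ∨ f * c * f⁻¹ = p ∨ f⁻¹ * c * f⁻¹⁻¹ = p) :
    X ≤ Z ∧ (X ≤ zpowers a ∨ p ∈ X) := by
  have h : X ≤ Z := fun k hk => by
    rcases k1 k (hY hk) (mem_cen.1 (h2 hk)) with e | e | e
    exacts [e, (no3 h3 (mul_mem hk hk) e).elim, (no3 h3 (mul_mem (comm_mem hn hk) (comm_mem hn hk)) e).elim]
  refine ⟨h, or_iff_not_imp_right.2 fun hp k hk => ?_⟩
  rcases k2 k (h hk) with rfl | rfl | e | e | e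
  exacts [one_mem _, mem_zpowers _, (hp (e ▸ comm_mem hn hk)).elim,
    (hp (e ▸ conj_mem_of_mem_norm hn (comm_mem hn hk))).elim,
    (hp (e ▸ conj_mem_of_mem_norm (inv_mem hn) (comm_mem hn hk))).elim]

theorem le_Za (h1 : X ≤ centralizer {s.e3}) (h2 : X ≤ centralizer {s.a}) (hn : s.f ∈ normalizer (X : Set G)) :
    X ≤ s.Za ∧ (X ≤ zpowers s.a ∨ s.p ∈ X) :=
  s.le_four h3 (s.le_Y6 hX h3 h1) h2 hn (s.hL.decide s.rep (by decide +kernel)) (s.hL.decide s.rep (by decide +kernel))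

theorem le_a (h1 : X ≤ centralizer {s.f}) (h2 : X ≤ centralizer {s.a}) (hn : s.e3 ∈ normalizer (X : Set G)) :
    X ≤ zpowers s.a := fun k hk => by
  have k1 : ∀ k ∈ s.F, k * s.a = s.a * k → k = 1 ∨ k = s.a ∨ orderOf (k * k) = 3 ∨
      orderOf (k * s.e3 * k⁻¹ * s.e3⁻¹) = 3 := s.hL.decide s.rep (by decide +kernel)
  rcases k1 k (s.cen_f (hX hk) (mem_cen.1 (h1 hk))) (mem_cen.1 (h2 hk)) with rfl | rfl | e | e
  exacts [one_mem _, mem_zpowers _, (no3 h3 (mul_mem hk hk) e).elim, (no3 h3 (comm_mem hn hk) e).elim]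

theorem le_Q1 (h1 : X ≤ centralizer {s.z}) (h2 : X ≤ centralizer {s.a}) (hn : s.e3 ∈ normalizer (X : Set G)) :
    X ≤ zpowers s.a ∨ X = s.Q1 := by
  have k1 : (∀ k ∈ s.CC, k * s.a = s.a * k → k ∈ s.Q1 ∨ orderOf (k ^ 4) = 3) ∧ ∀ k ∈ s.Q1, k = 1 ∨ k = s.a ∨
      k = s.q ∨ k⁻¹ = s.q ∨ s.e3 * k * s.e3⁻¹ = s.q ∨ s.e3 * k⁻¹ * s.e3⁻¹ = s.q ∨ s.e3⁻¹ * k * s.e3⁻¹⁻¹ = s.q ∨
      s.e3⁻¹ * k⁻¹ * s.e3⁻¹⁻¹ = s.q := s.hL.decide s.rep (by decide +kernel)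
  have h : X ≤ s.Q1 := fun k hk =>
    (k1.1 k (s.cen_z (hX hk) (mem_cen.1 (h1 hk))) (mem_cen.1 (h2 hk))).resolve_right (no3 h3 (pow_mem hk 4))
  by_cases hq : s.q ∈ X
  · refine .inr (le_antisymm h (clos_le.2 ?_))
    simp only [List.forall_mem_cons, List.not_mem_nil, false_imp_iff, implies_true, and_true]
    exact ⟨hq, conj_mem_of_mem_norm hn hq⟩
  refine .inl fun k hk => ?_
  rcases k1.2 k (h hk) with rfl | rfl | e | e | e | e | e | e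
  exacts [one_mem _, mem_zpowers _, (hq (e ▸ hk)).elim, (hq (e ▸ inv_mem hk)).elim,
    (hq (e ▸ conj_mem_of_mem_norm hn hk)).elim, (hq (e ▸ conj_mem_of_mem_norm hn (inv_mem hk))).elim,
    (hq (e ▸ conj_mem_of_mem_norm (inv_mem hn) hk)).elim, (hq (e ▸ conj_mem_of_mem_norm (inv_mem hn) (inv_mem hk))).elim]

theorem le_Zd (h1 : X ≤ centralizer {s.e3}) (h2 : X ≤ centralizer {s.d2}) (hn : s.e1 ∈ normalizer (X : Set G)) :
    X ≤ s.Zd ∧ (X ≤ zpowers s.d2 ∨ s.k ∈ X) :=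
  s.le_four h3 (s.le_Y6 hX h3 h1) h2 hn (s.hL.decide s.rep (by decide +kernel)) (s.hL.decide s.rep (by decide +kernel))

theorem le_d3 (h1 : X ≤ centralizer {s.f}) (h2 : X ≤ centralizer {s.d3}) (hn : s.u ∈ normalizer (X : Set G)) :
    X ≤ zpowers s.d3 := fun k hk => by
  have k1 : ∀ k ∈ s.F, k * s.d3 = s.d3 * k → k = 1 ∨ k = s.d3 ∨ orderOf (k * k) = 3 ∨
      orderOf (k * s.u * k⁻¹ * s.u⁻¹) = 3 := s.hL.decide s.rep (by decide +kernel)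
  rcases k1 k (s.cen_f (hX hk) (mem_cen.1 (h1 hk))) (mem_cen.1 (h2 hk)) with rfl | rfl | e | e
  exacts [one_mem _, mem_zpowers _, (no3 h3 (mul_mem hk hk) e).elim, (no3 h3 (comm_mem hn hk) e).elim]

end three

end Lt

end Cfsg.Agent.S8
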