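import Mathlib
import Cfsg.Agent.S8.LF

/-! Basic facts about the standing configuration. -/

set_option autoImplicit false
set_option linter.unusedSectionVars false
set_option synthInstance.maxSize 100000
set_option synthInstance.maxHeartbeats 1000000
set_option maxRecDepth 100000

namespace Cfsg.Agent.S8

open Cfsg.Agent.Spor Cfsg.Agent.Rec Cfsg.Agent.Inv.Fz Cfsg.Agent.T16 Cfsg.Agent.F4L Subgroup

universe u

variable {G : Type u} [Group G] [Finite G]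

/-- A group of order prime to three normalised by an elementary abelian group `⟨c₁, c₂, c₃⟩` of order 27 is generated by the
centralisers of the thirteen subgroups of index three. -/
theorem gen27 {c1 c2 c3 : G} {X M : Subgroup G} (h27 : Nat.card (clos [c1, c2, c3]) = 27)
    (h3 : ∀ x ∈ clos [c1, c2, c3], x ^ 3 = 1) (hc : ∀ x ∈ clos [c1, c2, c3], ∀ y ∈ clos [c1, c2, c3], x * y = y * x)
    (hn : clos [c1, c2, c3] ≤ normalizer (X : Set G)) (hX : (Nat.card X).Coprime 3)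
    (h : ∀ P ∈ [(c2, c3), (c1, c3), (c1, c2), (c1 * c2⁻¹, c3), (c1 * c2, c3), (c1 * c3⁻¹, c2), (c1 * c3, c2),
      (c2 * c3⁻¹, c1), (c2 * c3, c1), (c1 * c2⁻¹, c2 * c3⁻¹), (c1 * c2⁻¹, c2 * c3), (c1 * c2, c2 * c3),
      (c1 * c2, c2 * c3⁻¹)], ∀ k ∈ X, k * P.1 = P.1 * k → k * P.2 = P.2 * k → k ∈ M) : X ≤ M := gen27' h27 h3 hc hn hX h

namespace Bs

variable (s : Bs G)

theorem b_pow : s.b ^ 3 = 1 := s.b3 ▸ pow_orderOf_eq_one s.b
theorem b_not_L : s.b ∉ s.L := fun h => by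
  have := s.b3
  rw [s.center h fun l hl => (s.bc l hl).symm] at this
  simp at this
theorem Y_inf {y : G} (hy : y ∈ s.Y) (h : y ∈ s.L) : y = 1 := s.center h (s.YL y hy)
theorem B0_le_J : s.B0 ≤ s.J := clos_le.2 fun x hx => mem_clos (by simp at hx ⊢; tauto)
theorem b_mem_J : s.b ∈ s.J := mem_clos (by simp)
theorem zp_L {c : G} (hc : c ∈ zpowers s.b) : ∀ l ∈ s.L, c * l = l * c := fun l hl =>
  let ⟨i, e⟩ := hc
  e ▸ ((show Commute l s.b from s.bc l hl).zpow_right i).symm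

theorem zp_Y {c y : G} (hc : c ∈ zpowers s.b) (hy : y ∈ s.Y) : Commute y c :=
  let ⟨i, e⟩ := hc
  e ▸ (show Commute y s.b from s.Yb y hy).zpow_right i

theorem zp_pow {c : G} (hc : c ∈ zpowers s.b) : c ^ 3 = 1 := by
  rcases mem_zpowers_three s.b_pow hc with rfl | rfl | rfl <;> simp [s.b_pow]

theorem mem_J' {j : G} : j ∈ s.J ↔ ∃ c ∈ zpowers s.b, ∃ i ∈ s.B0, j = c * i := by
  rw [← mem_sup_iff_of_le_normalizer fun c hc => centralizer_le_normalizer _ fun i hi => (s.zp_L hc i (s.B0_le hi)).symm]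
  refine SetLike.ext_iff.1 (le_antisymm (clos_le.2 ?_) (sup_le (zpowers_le.2 s.b_mem_J) s.B0_le_J)) j
  simp only [List.forall_mem_cons, List.not_mem_nil, false_imp_iff, implies_true, and_true]
  exact ⟨mem_sup_right s.e1B, mem_sup_right s.e2B, mem_sup_right s.e3B, mem_sup_left (mem_zpowers _)⟩

theorem comm_J {g : G} (h1 : g * s.b = s.b * g) (h2 : ∀ i ∈ s.B0, g * i = i * g) : ∀ j ∈ s.J, g * j = j * g := fun j hj => by
  obtain ⟨c, ⟨k, rfl⟩, i, hi, rfl⟩ := s.mem_J'.1 hj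
  exact ((show Commute g s.b from h1).zpow_right k).mul_right (h2 i hi)

theorem J_comm : ∀ x ∈ s.J, ∀ y ∈ s.J, x * y = y * x := fun x hx => by
  obtain ⟨c, hc, i, hi, rfl⟩ := s.mem_J'.1 hx
  refine fun y hy => (show Commute c y from s.comm_J ?_ (fun l hl => s.zp_L hc l (s.B0_le hl)) y hy).mul_left
    (s.comm_J (s.bc i (s.B0_le hi)) (s.B0_comm i hi) y hy)
  obtain ⟨k, rfl⟩ := hc
  exact (Commute.refl s.b).zpow_left k
theorem J_exp : ∀ x ∈ s.J, x ^ 3 = 1 := fun x hx => by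
  obtain ⟨c, hc, i, hi, rfl⟩ := s.mem_J'.1 hx
  rw [(show Commute c i from s.zp_L hc i (s.B0_le hi)).mul_pow, s.zp_pow hc, s.B0_exp i hi, one_mul]
theorem zp_inf {c : G} (hc : c ∈ zpowers s.b) (h : c ∈ s.L) : c = 1 := s.center h (s.zp_L hc)

theorem card_mul {K X : Subgroup G} (hb : s.b ∈ K) (hX : X ≤ K) (hL : X ≤ s.L)
    (h : ∀ k ∈ K, ∃ c ∈ zpowers s.b, ∃ x ∈ X, k = c * x) : Nat.card K = 3 * Nat.card X := by
  have := GT.CopAct.card_mul_card_inf_eq_of_forall (zpowers_le.2 hb) hX fun k hk =>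
    let ⟨c, hc, x, hx, e⟩ := h k hk
    ⟨c, hc, x, hx, e.symm⟩
  rwa [show zpowers s.b ⊓ X = ⊥ from le_bot_iff.1 fun c hc => s.zp_inf hc.1 (hL hc.2), card_bot, mul_one, Nat.card_zpowers,
    s.b3] at this

theorem card_J : Nat.card s.J = 81 := (s.card_mul s.b_mem_J s.B0_le_J s.B0_le fun _ => s.mem_J'.1).trans (by rw [s.gB0.2])
theorem mem_J {j : G} : j ∈ s.J ↔ ∃ c ∈ zpowers s.b, ∃ i ∈ s.B0, j = c * i := s.mem_J'
theorem J_inf_L {j : G} (hj : j ∈ s.J) (h : j ∈ s.L) : j ∈ s.B0 := by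
  obtain ⟨c, hc, i, hi, rfl⟩ := s.mem_J.1 hj
  rwa [s.zp_inf hc ((mul_mem_cancel_right (s.B0_le hi)).1 h), one_mul]
theorem N_le_NJ : s.N ≤ s.NJ := fun g hg => mem_normalizer_of_conj_mem fun j hj => by
  obtain ⟨c, hc, i, hi, rfl⟩ := s.mem_J.1 hj
  exact s.mem_J.2 ⟨c, hc, _, conj_mem_of_mem_norm (s.N_norm hg) hi, by
    rw [← mul_assoc g, ← s.zp_L hc g (s.N_le hg)]; group⟩

theorem dec_pow {d l : G} (hd : ∀ g ∈ s.L, d * g = g * d) (hl : l ∈ s.L) {k : ℕ} (h : (d * l) ^ k = 1) :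
    d ^ k = 1 ∧ l ^ k = 1 := by
  rw [(show Commute d l from hd l hl).mul_pow] at h
  have : l ^ k = 1 := s.center (pow_mem hl k) fun g hg => by
    rw [eq_inv_of_mul_eq_one_right h]
    exact ((show Commute d g from hd g hg).pow_left k).inv_left
  exact ⟨by rwa [this, mul_one] at h, this⟩

theorem yc_L {y c : G} (hy : y ∈ s.Y) (hc : c ∈ zpowers s.b) : ∀ g ∈ s.L, y * c * g = g * (y * c) := fun g hg =>
  (show Commute y g from s.YL y hy g hg).mul_left (s.zp_L hc g hg)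

theorem Y_pow {y : G} (hy : y ∈ s.Y) : y ^ Nat.card s.Y = 1 := orderOf_dvd_iff_pow_eq_one.1 (s.Y.orderOf_dvd_natCard hy)

/-- Elements of 2-power order in `C(b)` lie in `L`. -/
theorem two_mem {g : G} (h : g * s.b = s.b * g) {n : ℕ} (h2 : g ^ 2 ^ n = 1) : g ∈ s.L := by
  obtain ⟨y, hy, c, hc, l, hl, rfl⟩ := s.cen g h
  have h1 : (y * c) ^ (3 * Nat.card s.Y) = 1 := by
    rw [(s.zp_Y hc hy).mul_pow, pow_mul c, s.zp_pow hc, mul_comm, pow_mul, s.Y_pow hy]; simp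
  have h3 : (2 ^ n).Coprime (3 * Nat.card s.Y) :=
    Nat.Coprime.pow_left n (Nat.Coprime.mul_right (by norm_num) ((Nat.coprime_two_left.2 s.odd)))
  rwa [orderOf_eq_one_iff.1 (Nat.eq_one_of_dvd_coprimes h3 (orderOf_dvd_of_pow_eq_one (s.dec_pow (s.yc_L hy hc) hl h2).1)
    (orderOf_dvd_of_pow_eq_one h1)), one_mul]

theorem two_le {X : Subgroup G} (h : X ≤ centralizer {s.b}) (h2 : IsPGroup 2 X) : X ≤ s.L := fun x hx =>
  let ⟨_, e⟩ := h2 ⟨x, hx⟩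
  s.two_mem (mem_cen.1 (h hx)) (congrArg Subtype.val e)

theorem cop_le (hY : s.Y = ⊥) {X : Subgroup G} (h : X ≤ centralizer {s.b}) (h3 : (Nat.card X).Coprime 3) : X ≤ s.L := fun x hx => by
  obtain ⟨y, hy, c, hc, l, hl, rfl⟩ := s.cen x (mem_cen.1 (h hx))
  rw [hY, mem_bot] at hy
  rw [hy, one_mul] at hx ⊢
  rwa [orderOf_eq_one_iff.1 (Nat.eq_one_of_dvd_coprimes h3 (orderOf_dvd_of_pow_eq_one (s.dec_pow (s.zp_L hc) hl
    (orderOf_dvd_iff_pow_eq_one.1 (X.orderOf_dvd_natCard hx))).1) (orderOf_dvd_of_pow_eq_one (s.zp_pow hc))), one_mul]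

/-- Elements of 3-power order in `C(b)`. -/
theorem three_mem {g : G} (h : g * s.b = s.b * g) {n : ℕ} (h3 : g ^ 3 ^ n = 1) :
    ∃ c ∈ zpowers s.b, ∃ l ∈ s.L, g = c * l ∧ l ^ 3 ^ n = 1 := by
  obtain ⟨y, hy, c, hc, l, hl, rfl⟩ := s.cen g h
  obtain ⟨h1, h2⟩ := s.dec_pow (s.yc_L hy hc) hl h3
  have h4 : y ^ 3 ^ (n + 1) = 1 := by
    have : (y * c) ^ 3 ^ (n + 1) = 1 := by rw [pow_succ, pow_mul, h1, one_pow]
    rwa [(s.zp_Y hc hy).mul_pow, pow_succ' 3 n, pow_mul c, s.zp_pow hc, one_pow, mul_one, ← pow_succ'] at this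
  rw [orderOf_eq_one_iff.1 (Nat.eq_one_of_dvd_coprimes (s.cop.pow_right _) (s.Y.orderOf_dvd_natCard hy)
    (orderOf_dvd_of_pow_eq_one h4)), one_mul]
  exact ⟨c, hc, l, hl, rfl, h2⟩

theorem conj_J {g : G} (h : g * s.b = s.b * g) (h3 : g ^ 3 = 1) : ∃ l ∈ s.L, l * g * l⁻¹ ∈ s.J := by
  obtain ⟨c, hc, l, hl, rfl, e⟩ := s.three_mem h (n := 1) (by rwa [pow_one])
  obtain ⟨k, hk, e'⟩ := s.conj_three hl (by rwa [pow_one] at e)
  exact ⟨k, hk, s.mem_J.2 ⟨c, hc, _, e', by rw [← mul_assoc k, ← s.zp_L hc k hk]; group⟩⟩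

theorem cen_J {g : G} (h : ∀ j ∈ s.J, g * j = j * g) : ∃ y ∈ s.Y, ∃ j ∈ s.J, g = y * j := by
  obtain ⟨y, hy, c, hc, l, hl, rfl⟩ := s.cen g (h _ s.b_mem_J)
  refine ⟨y, hy, c * l, s.mem_J.2 ⟨c, hc, l, s.cen_B0 hl fun j hj => ?_, rfl⟩, mul_assoc _ _ _⟩
  simpa only [inv_mul_cancel_left] using ((show Commute (y * c) j from s.yc_L hy hc j (s.B0_le hj)).inv_left.mul_left (h j (s.B0_le_J hj))).eq

theorem Y_J : ∀ y ∈ s.Y, ∀ j ∈ s.J, y * j = j * y := fun y hy => s.comm_J (s.Yb y hy) fun i hi => s.YL y hy i (s.B0_le hi)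

theorem mem_Y {g : G} (h : ∀ j ∈ s.J, g * j = j * g) (h3 : (orderOf g).Coprime 3) : g ∈ s.Y := by
  obtain ⟨y, hy, j, hj, rfl⟩ := s.cen_J h
  refine mem_of_cube h3 ?_
  rw [(show Commute y j from s.Y_J y hy j hj).mul_pow, s.J_exp j hj, mul_one]
  exact pow_mem hy 3

theorem cj_J_eq {g : G} (hg : g ∈ s.NJ) : (s.cj g).J = s.J := s.cj_J g ▸ cj_eq_iff.2 hg

theorem cj_Y_eq {g : G} (hg : g ∈ s.NJ) : (s.cj g).Y = s.Y := cj_eq_of_le (cj_le_iff.2 fun y hy => s.mem_Y (fun j hj => by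
    have := s.Y_J y hy _ (conj_mem_of_mem_norm (inv_mem hg) hj)
    calc _ = g * (y * (g⁻¹ * j * g⁻¹⁻¹)) * g⁻¹ := by group
      _ = _ := by rw [this]; group) (by
    rw [show orderOf (g * y * g⁻¹) = orderOf y from (MulAut.conj g).orderOf_eq y]
    exact Nat.Coprime.coprime_dvd_left (s.Y.orderOf_dvd_natCard hy) s.cop))

/-- The stabiliser of `b` in `N(J)` acts monomially. -/
theorem njb {g : G} (hg : g ∈ s.NJ) (h : g * s.b = s.b * g) : ∃ y ∈ s.Y, ∃ j ∈ s.J, ∃ k ∈ s.W3, g = y * j * k := by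
  obtain ⟨y, hy, c, hc, l, hl, rfl⟩ := s.cen g h
  have hc' := zpowers_le.2 s.b_mem_J hc
  have h1 : l ∈ s.NJ := (mul_mem_cancel_left (mul_mem (centralizer_le_normalizer _ fun j hj => (s.Y_J y hy j hj).symm)
    (le_normalizer hc'))).1 hg
  obtain ⟨j, hj, k, hk, rfl⟩ := s.mem_N (s.norm_B0 hl (mem_normalizer_of_conj_mem fun i hi => s.J_inf_L
    (conj_mem_of_mem_norm h1 (s.B0_le_J hi)) (mul_mem (mul_mem hl (s.B0_le hi)) (inv_mem hl))))
  exact ⟨y, hy, c * j, mul_mem hc' (s.B0_le_J hj), k, hk, by group⟩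

/-- An elementary abelian group of order 81 in `C(b)` is conjugate to `J`. -/
theorem elem81 {E : Subgroup G} (hE : E ≤ centralizer {s.b}) (hc : ∀ x ∈ E, ∀ y ∈ E, x * y = y * x)
    (h3 : ∀ x ∈ E, x ^ 3 = 1) (h : 81 ≤ Nat.card E) : ∃ l ∈ s.L, Inv.Fz.cj l E = s.J := by
  have k0 : ∀ c ∈ zpowers s.b, ∀ x ∈ E, Commute c x := fun c ⟨i, e⟩ x hx =>
    e ▸ ((show Commute x s.b from mem_cen.1 (hE hx)).zpow_right i).symm
  have k1 : ∀ x ∈ zpowers s.b ⊔ E, ∃ c ∈ zpowers s.b, ∃ y ∈ E, x = c * y := fun x =>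
    (mem_sup_iff_of_le_normalizer fun c hc => centralizer_le_normalizer _ fun x hx => (k0 c hc x hx).symm).1
  have k2 : ∀ x ∈ zpowers s.b ⊔ E, ∃ c ∈ zpowers s.b, ∃ l ∈ (zpowers s.b ⊔ E) ⊓ s.L, x = c * l := fun x hx => by
    obtain ⟨c, hc, y, hy, rfl⟩ := k1 x hx
    obtain ⟨c', hc', l, hl, e, -⟩ := s.three_mem (mem_cen.1 (hE hy)) (n := 1) (by rw [pow_one, h3 y hy])
    exact ⟨c * c', mul_mem hc hc', l, ⟨(mul_mem_cancel_left (mem_sup_left hc')).1 (e ▸ mem_sup_right hy), hl⟩,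
      by rw [e, mul_assoc]⟩
  have k3 := s.card_mul (mem_sup_left (mem_zpowers _)) inf_le_left inf_le_right k2
  have k4 := card_le_of_le (le_sup_right : E ≤ zpowers s.b ⊔ E)
  obtain ⟨l, hl, e⟩ := (s.elem (E := (zpowers s.b ⊔ E) ⊓ s.L) inf_le_right (fun x hx y hy => by
    obtain ⟨c, hc', x, hx, e⟩ := k1 x hx.1
    obtain ⟨d, hd, y, hy, e'⟩ := k1 y hy.1
    rw [e, e']
    exact ((show Commute c d from s.J_comm _ (zpowers_le.2 s.b_mem_J hc') _ (zpowers_le.2 s.b_mem_J hd)).mul_right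
      (k0 c hc' y hy)).mul_left ((k0 d hd x hx).symm.mul_right (hc x hx y hy))) fun x hx => by
    obtain ⟨c, hc, x, hx, e⟩ := k1 x hx.1
    rw [e, (k0 c hc x hx).mul_pow, s.zp_pow hc, h3 x hx, one_mul]).2 (by omega)
  refine ⟨l, hl, eq_of_le_of_card_ge (cj_le_iff.2 fun x hx => ?_) (by rwa [card_cj, s.card_J])⟩
  obtain ⟨c, hc, y, hy, rfl⟩ := k2 x (mem_sup_right hx)
  exact s.mem_J.2 ⟨c, hc, _, e ▸ conj_mem_cj.2 hy, by rw [← mul_assoc l, ← s.zp_L hc l hl]; group⟩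

/-- `N(J)` controls the fusion of the conjugates of `b` in `J`. -/
theorem fus {g : G} (h : g * s.b * g⁻¹ ∈ s.J) : ∃ n ∈ s.NJ, n * s.b * n⁻¹ = g * s.b * g⁻¹ := by
  obtain ⟨l, hl, e⟩ := s.elem81 (E := Inv.Fz.cj g⁻¹ s.J) (cj_le_iff.2 fun x hx => mem_cen.2 (by
      calc _ = g⁻¹ * (x * (g * s.b * g⁻¹)) * g := by group
        _ = _ := by rw [s.J_comm x hx _ h]; group))
    (by
      rintro _ ⟨x, hx, rfl⟩ _ ⟨y, hy, rfl⟩
      exact (show Commute x y from s.J_comm x hx y hy).map _)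
    (by
      rintro _ ⟨x, hx, rfl⟩
      rw [← map_pow, s.J_exp x hx, map_one])
    (by rw [card_cj, s.card_J])
  rw [cj_cj] at e
  exact ⟨_, inv_mem (cj_eq_iff.1 e), by
    rw [mul_inv_rev, inv_inv, mul_assoc g, s.bc _ (inv_mem hl)]; group⟩

theorem norm_L {g : G} (h : g * s.b * g⁻¹ = s.b ∨ g * s.b * g⁻¹ = s.b⁻¹) : g ∈ normalizer (s.L : Set G) := mem_normalizer_of_conj_mem fun x hx => by
  have : s.L ≤ Inv.Fz.cj g⁻¹ s.L := s.le_of_inv fun i hi h2 => mem_cj.2 (s.two_mem (n := 1) (by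
    have e : g * i * g⁻¹ * (g * s.b * g⁻¹) = g * s.b * g⁻¹ * (g * i * g⁻¹) := by rw [conj_mul, conj_mul, s.bc i hi]
    rw [inv_inv]
    rcases h with h | h <;> rw [h] at e
    exacts [e, Commute.inv_right_iff.1 e]) (by rw [pow_one, sq, inv_inv, conj_sq h2]))
  simpa using mem_cj.1 (this hx)

/-- An involution that normalises `⟨b⟩` and centralises `B₀` centralises `L`. -/
theorem inv_cen {i : G} (h2 : i * i = 1) (h : i * s.b * i⁻¹ = s.b ∨ i * s.b * i⁻¹ = s.b⁻¹)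
    (hc : ∀ j ∈ s.B0, i * j = j * i) : ∀ l ∈ s.L, i * l = l * i := by
  obtain ⟨l, hl, hd⟩ := s.out (s.norm_L h)
  have h1 : l ∈ s.B0 := s.cen_B0 hl fun j hj => by
    simpa using ((show Commute j _ from hd j (s.B0_le hj)).symm.inv_left.mul_left (hc j hj)).eq
  have h3 := (s.dec_pow (fun g hg => (hd g hg).symm) hl (k := 2) (by rw [inv_mul_cancel_right, sq, h2])).2
  have h4 : l = 1 := by
    have := s.B0_exp l h1
    rwa [pow_succ, h3, one_mul] at this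
  exact fun g hg => by simpa [h4] using (hd g hg).symm

/-- Elements of 2-power order that centralise a conjugate of `b` in `J` centralise `Y`. -/
theorem Y_two {n g : G} (hn : n ∈ s.NJ) (h : g * (n * s.b * n⁻¹) = n * s.b * n⁻¹ * g) {k : ℕ} (h2 : g ^ 2 ^ k = 1) :
    ∀ y ∈ s.Y, y * g = g * y := fun y hy =>
  (s.cj n).YL y ((s.cj_Y_eq hn).ge hy) g ((s.cj n).two_mem h h2)

/-- `J` normalises no non-trivial 2-subgroup. -/
theorem J_two (gl : Gl G) {X : Subgroup G} (h2 : IsPGroup 2 X) (hn : s.J ≤ normalizer (X : Set G)) : X = ⊥ := gl.rk _ _ s.J_comm s.J_exp s.card_J.ge h2 hn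

end Bs

end Cfsg.Agent.S8
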