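import Mathlib
import Cfsg.Agent.S8.Loc

/-! The affine case: the homocyclic group of order `9³`. -/

set_option autoImplicit false
set_option linter.unusedSectionVars false
set_option synthInstance.maxSize 100000
set_option synthInstance.maxHeartbeats 1000000
set_option maxRecDepth 100000

namespace Cfsg.Agent.S8

open Cfsg.Agent.Spor Cfsg.Agent.Rec Cfsg.Agent.Inv.Fz Cfsg.Agent.T16 Cfsg.Agent.F4L Subgroup

universe u

variable {G : Type u} [Group G] [Finite G]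

namespace AfA

section letters

variable (s : Lt G)

theorem dd : s.d1 * s.d1 = 1 ∧ s.d2 * s.d2 = 1 ∧ s.d3 * s.d3 = 1 ∧ s.d1 * s.d2 = s.d2 * s.d1 ∧
    s.d1 * s.d3 = s.d3 * s.d1 ∧ s.d2 * s.d3 = s.d3 * s.d2 := s.hL.decide s.rep (by decide +kernel)

theorem de : s.d1 * s.e1 * s.d1⁻¹ = s.e1⁻¹ ∧ s.d2 * s.e1 = s.e1 * s.d2 ∧ s.d3 * s.e1 = s.e1 * s.d3 ∧
    s.d1 * s.e2 = s.e2 * s.d1 ∧ s.d1 * s.e3 = s.e3 * s.d1 ∧ s.e1 ≠ 1 ∧ s.d1 ≠ 1 :=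
  s.hL.decide s.rep (by decide +kernel)

theorem vv : s.v * s.d1 * s.v⁻¹ = s.d2 ∧ s.v * s.d2 * s.v⁻¹ = s.d3 ∧ s.v * s.d3 * s.v⁻¹ = s.d1 ∧
    s.v * s.e1 * s.v⁻¹ = s.e2 ∧ s.v * s.e2 * s.v⁻¹ = s.e3 ∧ s.v * s.e3 * s.v⁻¹ = s.e1 ∧ s.v * s.v * s.v = 1 :=
  s.hL.decide s.rep (by decide +kernel)

theorem nB : ∀ i ∈ s.B0, s.d1 * i * s.d1⁻¹ ∈ s.B0 ∧ s.d2 * i * s.d2⁻¹ ∈ s.B0 ∧ s.d3 * i * s.d3⁻¹ ∈ s.B0 ∧
    s.v⁻¹ * i * s.v ∈ s.B0 ∧ s.v * i * s.v⁻¹ ∈ s.B0 := s.hL.decide s.rep (by decide +kernel)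

theorem fix23 : ∀ i ∈ s.B0, s.d2 * i = i * s.d2 → s.d3 * i = i * s.d3 → i = 1 ∨ i = s.e1 ∨ i = s.e1⁻¹ :=
  s.hL.decide s.rep (by decide +kernel)

theorem inv12 : ∀ i ∈ s.B0, s.d1 * i * s.d1⁻¹ = i⁻¹ → s.d2 * i * s.d2⁻¹ = i⁻¹ → i = 1 :=
  s.hL.decide s.rep (by decide +kernel)

theorem e1B : s.e1 ∈ s.B0 := mem_clos (by simp)
theorem e2B : s.e2 ∈ s.B0 := mem_clos (by simp)
theorem e3B : s.e3 ∈ s.B0 := mem_clos (by simp)

theorem nine : 9 ≤ Nat.card (clos [s.e2, s.e3]) := by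
  have h : ∀ i ∈ s.B0, s.d1 * i = i * s.d1 → ∃ j ∈ s.B0, ∃ k ∈ s.B0, (j = 1 ∨ j = s.e2 ∨ j = s.e2⁻¹) ∧
      (k = 1 ∨ k = s.e3 ∨ k = s.e3⁻¹) ∧ i = j * k := s.hL.decide s.rep (by decide +kernel)
  have h' : ∀ i ∈ s.B0, ∃ j ∈ s.B0, (j = 1 ∨ j = s.e1 ∨ j = s.e1⁻¹) ∧ s.d1 * (j⁻¹ * i) = j⁻¹ * i * s.d1 :=
    s.hL.decide s.rep (by decide +kernel)
  have h3 : orderOf s.e1 = 3 := by
    have : Fact (Nat.Prime 3) := ⟨by norm_num⟩
    exact orderOf_eq_prime (s.B0_exp _ (e1B s)) (de s).2.2.2.2.2.1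
  have hs : Function.Surjective fun p : zpowers s.e1 × clos [s.e2, s.e3] => (⟨p.1 * p.2,
      mul_mem (zpowers_le.2 (e1B s) p.1.2) (clos_le.2 (by simp [e2B, e3B]) p.2.2)⟩ : s.B0) := by
    rintro ⟨i, hi⟩
    obtain ⟨j, hj, h1, h2⟩ := h' i hi
    obtain ⟨a, -, b, -, h4, h5, h6⟩ := h _ (mul_mem (inv_mem hj) hi) h2
    have m2 : s.e2 ∈ clos [s.e2, s.e3] := mem_clos (by simp)
    have m3 : s.e3 ∈ clos [s.e2, s.e3] := mem_clos (by simp)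
    refine ⟨⟨⟨j, ?_⟩, ⟨j⁻¹ * i, ?_⟩⟩, Subtype.ext (mul_inv_cancel_left j i)⟩
    · rcases h1 with rfl | rfl | rfl
      exacts [one_mem _, mem_zpowers _, inv_mem (mem_zpowers _)]
    · rw [h6]
      refine mul_mem ?_ ?_
      · rcases h4 with rfl | rfl | rfl
        exacts [one_mem _, m2, inv_mem m2]
      · rcases h5 with rfl | rfl | rfl
        exacts [one_mem _, m3, inv_mem m3]
  have := Nat.card_le_card_of_surjective _ hs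
  rw [Nat.card_prod, Nat.card_zpowers, h3, s.gB0.2] at this
  omega

end letters

theorem odd_fix {d g : G} (hd : d * d = 1) {k : ℕ} (h : (g⁻¹ * d * g * d) ^ (2 * k + 1) = 1) :
    d * (g * (g⁻¹ * d * g * d) ^ (k + 1)) = g * (g⁻¹ * d * g * d) ^ (k + 1) * d := by
  have hi : d⁻¹ = d := inv_eq_of_mul_eq_one_right hd
  set m := g⁻¹ * d * g * d with hm
  have h1 : d * m * d⁻¹ = m⁻¹ := by
    rw [hm, mul_inv_rev, mul_inv_rev, mul_inv_rev, inv_inv, hi]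
    calc _ = d * g⁻¹ * d * g * (d * d) := by group
      _ = _ := by rw [hd]; group
  have h2 : d * m ^ (k + 1) * d⁻¹ = (m ^ (k + 1))⁻¹ := by rw [← conj_pow, h1, inv_pow]
  have h3 : d * g = g * m * d := by
    rw [hm]
    calc _ = d * g * (d * d) := by rw [hd, mul_one]
      _ = _ := by group
  have h4 : m * (m ^ (k + 1))⁻¹ = m ^ (k + 1) := by
    rw [mul_inv_eq_iff_eq_mul, ← pow_add, show k + 1 + (k + 1) = 2 * k + 1 + 1 by ring, pow_succ, h, one_mul]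
  calc d * (g * m ^ (k + 1)) = g * (m * (d * m ^ (k + 1) * d⁻¹)) * d := by rw [← mul_assoc, h3]; group
    _ = _ := by rw [h2, h4]

theorem sq_of_inv {σ y : G} (h9 : σ ^ 9 = 1) (h : σ * y * σ⁻¹ = y⁻¹) : y * y = 1 := by
  have h2 : Commute (σ ^ 2) y := by
    refine mul_inv_eq_iff_eq_mul.1 ?_
    calc σ ^ 2 * y * (σ ^ 2)⁻¹ = σ * (σ * y * σ⁻¹) * σ⁻¹ := by rw [pow_two]; group
      _ = (σ * y * σ⁻¹)⁻¹ := by rw [h]; nth_rw 2 [← h]; group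
      _ = y := by rw [h, inv_inv]
  have h3 := (h2.pow_left 5).eq
  rw [← pow_mul, show 2 * 5 = 9 + 1 from rfl, pow_succ, h9, one_mul] at h3
  rw [h3, mul_inv_cancel_right] at h
  exact mul_eq_one_iff_eq_inv.2 h

variable (s : Bs G)

/-- The elements acting trivially on `B₀` and on `J / B₀`. -/
def U : Subgroup G where
  carrier := {g | (∀ i ∈ s.B0, g * i = i * g) ∧ g * s.b * g⁻¹ * s.b⁻¹ ∈ s.B0}
  one_mem' := ⟨fun i _ => by simp, by simp⟩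
  mul_mem' := by
    rintro g h ⟨h1, h2⟩ ⟨h3, h4⟩
    refine ⟨fun i hi => by rw [mul_assoc, h3 i hi, ← mul_assoc, h1 i hi, mul_assoc], ?_⟩
    have : g * h * s.b * (g * h)⁻¹ * s.b⁻¹ = g * (h * s.b * h⁻¹ * s.b⁻¹) * (s.b * g⁻¹ * s.b⁻¹) := by group
    rw [this, h1 _ h4]
    convert mul_mem h4 h2 using 1
    group
  inv_mem' := by
    rintro g ⟨h1, h2⟩
    refine ⟨fun i hi => by rw [inv_mul_eq_iff_eq_mul, ← mul_assoc, h1 i hi, mul_inv_cancel_right], ?_⟩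
    have : g⁻¹ * s.b * g⁻¹⁻¹ * s.b⁻¹ = g⁻¹ * ((g * s.b * g⁻¹ * s.b⁻¹)⁻¹ * g) * (s.b * s.b⁻¹) := by group
    rw [this, ← h1 _ (inv_mem h2)]
    convert inv_mem h2 using 1
    group

variable {s}

theorem bB {i : G} (hi : i ∈ s.B0) : i * s.b = s.b * i := s.bc i (s.B0_le hi)

theorem cenJ {g : G} (h1 : ∀ i ∈ s.B0, g * i = i * g) (h2 : g * s.b = s.b * g) : ∀ j ∈ s.J, g * j = j * g :=
  commute_clos (by simp [h2, h1 _ (e1B _), h1 _ (e2B _), h1 _ (e3B _)])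

theorem pow_cenJ {g : G} (h : ∀ j ∈ s.J, g * j = j * g) : ∃ k, g ^ (2 * k + 1) = 1 := by
  obtain ⟨y, hy, j, hj, rfl⟩ := s.cen_J h
  obtain ⟨k, hk⟩ := (show Odd 3 by decide).mul s.odd
  refine ⟨k, ?_⟩
  have hc : Commute y j := s.Y_J y hy j hj
  have h1 : y ^ Nat.card s.Y = 1 := congrArg Subtype.val (pow_card_eq_one' (x := (⟨y, hy⟩ : s.Y)))
  rw [← hk, hc.mul_pow, pow_mul j, s.J_exp j hj, one_pow, mul_comm 3, pow_mul, h1, one_pow, one_mul]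

theorem Y_eq_one {y : G} (hy : y ∈ s.Y) (h : y ^ 3 * y ^ 3 = 1) : y = 1 := by
  have h1 : y ^ Nat.card s.Y = 1 := congrArg Subtype.val (pow_card_eq_one' (x := (⟨y, hy⟩ : s.Y)))
  rw [← pow_add] at h
  have h2 := pow_gcd_eq_one.2 ⟨h1, h⟩
  have h3 : Nat.Coprime (Nat.card s.Y) (2 * 3) := Nat.Coprime.mul_right (Nat.coprime_two_right.2 s.odd) s.cop
  rwa [show 3 + 3 = 2 * 3 from rfl, h3.gcd_eq_one, pow_one] at h2

theorem U_zpow {σ c : G} (hσ : σ ∈ U s) (hc : c ∈ zpowers s.b) : σ * c * σ⁻¹ * c⁻¹ ∈ s.B0 := by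
  obtain ⟨k, rfl⟩ := hc
  have hc : Commute (σ * s.b * σ⁻¹ * s.b⁻¹) s.b := bB hσ.2
  have : σ * s.b ^ k * σ⁻¹ = (σ * s.b * σ⁻¹ * s.b⁻¹) ^ k * s.b ^ k := by
    rw [← hc.mul_zpow, inv_mul_cancel_right, conj_zpow]
  simp only [this, mul_inv_cancel_right]
  exact zpow_mem hσ.2 k

/-- An element of `C(J)` that is almost inverted by `d` lies in `B₀`. -/
theorem key {ρ σ d : G} (hρ : ∀ j ∈ s.J, ρ * j = j * ρ) (hσ : σ ∈ U s) (h9 : σ ^ 9 = 1) (hd : d ∈ s.L)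
    (hn : ∀ i ∈ s.B0, d * i * d⁻¹ ∈ s.B0) (h : d * ρ * d⁻¹ = σ⁻¹ * ρ⁻¹ * σ) : ρ ∈ s.B0 ∧ d * ρ * d⁻¹ = ρ⁻¹ := by
  obtain ⟨y, hy, j, hj, rfl⟩ := s.cen_J hρ
  have hc : Commute y j := s.Y_J y hy j hj
  have h1 : (y * j) ^ 3 = y ^ 3 := by rw [hc.mul_pow, s.J_exp j hj, mul_one]
  have h2 : σ * y ^ 3 * σ⁻¹ = (y ^ 3)⁻¹ := by
    have e1 : d * (y * j) ^ 3 * d⁻¹ = σ⁻¹ * ((y * j) ^ 3)⁻¹ * σ⁻¹⁻¹ := by
      rw [← conj_pow, h, ← inv_pow, ← conj_pow, inv_inv]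
    rw [h1, ← s.YL _ (pow_mem hy 3) d hd, mul_inv_cancel_right] at e1
    nth_rw 1 [e1]
    group
  obtain rfl := Y_eq_one hy (sq_of_inv h9 h2)
  rw [one_mul] at h ⊢
  obtain ⟨c, hc', i, hi, rfl⟩ := s.mem_J.1 hj
  have hcd : d * c = c * d := by
    obtain ⟨k, rfl⟩ := hc'
    exact (Commute.zpow_right (s.bc d hd) k).eq
  have h3 := U_zpow (inv_mem hσ) (inv_mem hc')
  have h4 : c * c ∈ s.L := by
    have e1 : c * (d * i * d⁻¹) = (σ⁻¹ * i⁻¹ * σ) * (σ⁻¹ * c⁻¹ * σ⁻¹⁻¹ * c⁻¹⁻¹) * c⁻¹ := by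
      calc _ = d * (c * i) * d⁻¹ := by rw [← mul_assoc, ← mul_assoc, ← hcd]; group
        _ = _ := by rw [h]; group
    rw [mul_assoc σ⁻¹, ← hσ.1 _ (inv_mem hi), inv_mul_cancel_left] at e1
    have hci : ∀ x ∈ s.B0, x * c = c * x := fun x hx => s.J_comm _ (s.B0_le_J hx) _ (zpowers_le.2 s.b_mem_J hc')
    have e2 : c * c = i⁻¹ * (σ⁻¹ * c⁻¹ * σ⁻¹⁻¹ * c⁻¹⁻¹) * (d * i * d⁻¹)⁻¹ := by
      rw [eq_mul_inv_iff_mul_eq, mul_assoc c, ← hci _ (hn i hi), ← mul_assoc, e1, inv_mul_cancel_right]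
    rw [e2]
    exact s.B0_le (mul_mem (mul_mem (inv_mem hi) h3) (inv_mem (hn i hi)))
  have h5 : c ∈ s.L := by
    have e3 := s.J_exp c (zpowers_le.2 s.b_mem_J hc')
    have : c = (c * c) * (c * c) := by
      calc c = c ^ 3 * c := by rw [e3, one_mul]
        _ = _ := by simp only [pow_succ, pow_zero, one_mul, mul_assoc]
    rw [this]
    exact mul_mem h4 h4
  have h6 := s.J_inf_L hj (mul_mem h5 (s.B0_le hi))
  refine ⟨h6, ?_⟩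
  rw [h, mul_assoc, ← hσ.1 _ (inv_mem h6), inv_mul_cancel_left]

variable (s) in
/-- `g` acts as the transvection `b ↦ b e`. -/
structure Tr (e g : G) : Prop where
  cB : ∀ i ∈ s.B0, g * i = i * g
  tb : g * s.b * g⁻¹ = s.b * e

theorem Tr.mem {e g : G} (h : Tr s e g) (he : e ∈ s.B0) : g ∈ U s :=
  ⟨h.cB, by rw [h.tb, ← bB he, mul_inv_cancel_right]; exact he⟩

theorem Tr.mul {e g e' g' : G} (h : Tr s e g) (h' : Tr s e' g') (he : e' ∈ s.B0) : Tr s (e * e') (g * g') :=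
  ⟨fun i hi => by rw [mul_assoc, h'.cB i hi, ← mul_assoc, h.cB i hi, mul_assoc], by
    calc _ = g * (g' * s.b * g'⁻¹) * g⁻¹ := by group
      _ = g * s.b * g⁻¹ * (g * e' * g⁻¹) := by rw [h'.tb]; group
      _ = _ := by rw [h.tb, h.cB _ he]; group⟩

theorem Tr.inv {e g : G} (h : Tr s e g) (he : e ∈ s.B0) : Tr s e⁻¹ g⁻¹ :=
  ⟨fun i hi => by rw [inv_mul_eq_iff_eq_mul, ← mul_assoc, h.cB i hi, mul_inv_cancel_right], by
    have h1 := h.cB _ (inv_mem he)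
    calc _ = g⁻¹ * (s.b * e) * (e⁻¹ * g) := by group
      _ = _ := by rw [← h.tb, ← h1]; group⟩

theorem Tr.conj {e g n : G} (h : Tr s e g) (hb : n * s.b = s.b * n) (hn : ∀ i ∈ s.B0, n⁻¹ * i * n ∈ s.B0) :
    Tr s (n * e * n⁻¹) (n * g * n⁻¹) :=
  ⟨fun i hi => by
    calc _ = n * (g * (n⁻¹ * i * n)) * n⁻¹ := by group
      _ = _ := by rw [h.cB _ (hn i hi)]; group, by
    calc _ = n * (g * (n⁻¹ * (s.b * n)) * g⁻¹) * n⁻¹ := by group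
      _ = n * (g * s.b * g⁻¹) * n⁻¹ := by rw [← hb]; group
      _ = _ := by rw [h.tb, ← mul_assoc, hb]; group⟩

theorem Tr.cen {g : G} (h : Tr s 1 g) : ∀ j ∈ s.J, g * j = j * g :=
  cenJ h.cB (mul_inv_eq_iff_eq_mul.1 (h.tb.trans (mul_one _)))

theorem Tr.congr {e e' g : G} (h : Tr s e g) (he : e = e') : Tr s e' g := he ▸ h

theorem tr_one : Tr s 1 1 := ⟨fun i _ => by simp, by simp⟩

theorem Tr.pow {g : G} (h : Tr s 1 g) (n : ℕ) : Tr s 1 (g ^ n) := by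
  induction n with
  | zero => simpa using tr_one
  | succ n ih => rw [pow_succ]; exact (ih.mul h (one_mem _)).congr (mul_one _)

theorem Tr.adj {e g d : G} (h : Tr s e g) (he : e ∈ s.B0) (hd : d ∈ s.L) (h2 : d * d = 1)
    (hn : ∀ i ∈ s.B0, d * i * d⁻¹ ∈ s.B0) (hde : d * e = e * d) :
    ∃ k : ℕ, Tr s e (g * (g⁻¹ * d * g * d) ^ k) ∧ d * (g * (g⁻¹ * d * g * d) ^ k) = g * (g⁻¹ * d * g * d) ^ k * d := by
  have hi : d⁻¹ = d := inv_eq_of_mul_eq_one_right h2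
  have h1 : Tr s 1 (g⁻¹ * d * g * d) := by
    have := (h.inv he).mul (h.conj (s.bc d hd) fun i hi' => by simpa [hi] using hn i hi') (hn e he)
    rw [hde, mul_inv_cancel_right, inv_mul_cancel, hi] at this
    simpa [mul_assoc] using this
  obtain ⟨k, hk⟩ := pow_cenJ h1.cen
  exact ⟨k + 1, (h.mul (h1.pow _) (one_mem _)).congr (mul_one _), odd_fix h2 hk⟩

variable (s) in
/-- The normalised transvection. -/
structure Tau (τ : G) : Prop extends Tr s s.e1 τ where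
  d1 : s.d1 * τ * s.d1⁻¹ = τ⁻¹
  d2 : s.d2 * τ = τ * s.d2
  d3 : s.d3 * τ = τ * s.d3

theorem exists_tau {g : G} (h : Ac g s.e1 s.e2 s.e3 s.b s.e1 s.e2 s.e3 (s.b * s.e1)) : ∃ τ, Tau s τ := by
  obtain ⟨q1, q2, q3, q12, q13, q23⟩ := dd s.toLt
  obtain ⟨r1, r2, r3, -⟩ := de s.toLt
  have h0 : Tr s s.e1 g := ⟨commute_clos (by
    simp [mul_inv_eq_iff_eq_mul.1 h.1, mul_inv_eq_iff_eq_mul.1 h.2.1, mul_inv_eq_iff_eq_mul.1 h.2.2.1]), h.2.2.2⟩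
  obtain ⟨k, h1, h2⟩ := h0.adj (e1B _) s.d2L q2 (fun i hi => (nB _ i hi).2.1) r2
  generalize g * (g⁻¹ * s.d2 * g * s.d2) ^ k = g1 at h1 h2
  obtain ⟨k, h3, h4⟩ := h1.adj (e1B _) s.d3L q3 (fun i hi => (nB _ i hi).2.2.1) r3
  have c2 : Commute s.d2 g1 := h2
  have c23 : Commute s.d2 s.d3 := q23
  have h5 : Commute s.d2 (g1 * (g1⁻¹ * s.d3 * g1 * s.d3) ^ k) :=
    c2.mul_right ((((c2.inv_right.mul_right c23).mul_right c2).mul_right c23).pow_right k)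
  generalize g1 * (g1⁻¹ * s.d3 * g1 * s.d3) ^ k = g2 at h3 h4 h5
  have hi : s.d1⁻¹ = s.d1 := inv_eq_of_mul_eq_one_right q1
  have c3 : Commute s.d3 g2 := h4
  have c21 : Commute s.d2 s.d1 := q12.symm
  have c31 : Commute s.d3 s.d1 := q13.symm
  refine ⟨g2⁻¹ * (s.d1 * g2 * s.d1⁻¹), ((h3.inv (e1B _)).mul (h3.conj (s.bc _ s.d1L) fun i hi' => by
    simpa [hi] using (nB _ i hi').1) (nB _ _ (e1B _)).1).congr ?_, ?_, ?_, ?_⟩
  · rw [r1, ← mul_inv_rev, inv_eq_iff_mul_eq_one, ← s.B0_exp _ (e1B _), pow_succ, pow_two]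
  · rw [mul_inv_rev, mul_inv_rev, mul_inv_rev, inv_inv, inv_inv, hi]
    calc _ = s.d1 * g2⁻¹ * s.d1 * g2 * (s.d1 * s.d1) := by group
      _ = _ := by rw [q1]; group
  · exact (h5.inv_right.mul_right ((c21.mul_right h5).mul_right c21.inv_right)).eq
  · exact (c3.inv_right.mul_right ((c31.mul_right c3).mul_right c31.inv_right)).eq

namespace Tau

variable {τ : G} (h : Tau s τ)
include h

theorem cube : τ ^ 3 = 1 ∨ τ ^ 3 = s.e1 ∨ τ ^ 3 = s.e1⁻¹ := by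
  have h1 : Tr s 1 (τ ^ 3) := by
    have := ((h.toTr.mul h.toTr (e1B _)).mul h.toTr (e1B _)).congr (e' := 1) (by
      rw [← s.B0_exp _ (e1B _), pow_succ, pow_two])
    rwa [pow_succ, pow_two]
  have h2 := key h1.cen (one_mem _) (one_pow 9) s.d1L (fun i hi => (nB _ i hi).1) (by
    rw [← conj_pow, h.d1]; group)
  exact fix23 _ _ h2.1 (Commute.pow_right h.d2 3).eq (Commute.pow_right h.d3 3).eq

theorem t9 : τ ^ 9 = 1 := by
  rw [show 9 = 3 * 3 from rfl, pow_mul]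
  rcases h.cube with e | e | e <;> rw [e]
  exacts [one_pow 3, s.B0_exp _ (e1B _), s.B0_exp _ (inv_mem (e1B _))]

theorem tr2 : Tr s s.e2 (s.v * τ * s.v⁻¹) :=
  (h.toTr.conj (s.bc _ s.vL) fun i hi => (nB _ i hi).2.2.2.1).congr (vv _).2.2.2.1

theorem tr3 : Tr s s.e3 (s.v * (s.v * τ * s.v⁻¹) * s.v⁻¹) :=
  (h.tr2.conj (s.bc _ s.vL) fun i hi => (nB _ i hi).2.2.2.1).congr (vv _).2.2.2.2.1

theorem d12 : s.d1 * (s.v * τ * s.v⁻¹) = s.v * τ * s.v⁻¹ * s.d1 := by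
  rw [← (vv s.toLt).2.2.1, conj_mul, conj_mul, h.d3]

theorem d13 : s.d1 * (s.v * (s.v * τ * s.v⁻¹) * s.v⁻¹) = s.v * (s.v * τ * s.v⁻¹) * s.v⁻¹ * s.d1 := by
  rw [← (vv s.toLt).2.2.1, ← (vv s.toLt).2.1, conj_mul, conj_mul, conj_mul, conj_mul, h.d2]

theorem comm : τ * (s.v * τ * s.v⁻¹) = s.v * τ * s.v⁻¹ * τ := by
  have h2 := h.tr2
  have h12 := h.d12
  have h22 : s.d2 * (s.v * τ * s.v⁻¹) * s.d2⁻¹ = (s.v * τ * s.v⁻¹)⁻¹ := by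
    rw [← (vv s.toLt).1, conj_inv, conj_mul, conj_mul, h.d1, conj_inv]
  have h9 : (s.v * τ * s.v⁻¹) ^ 9 = 1 := by rw [conj_pow, h.t9]; group
  generalize s.v * τ * s.v⁻¹ = σ at h2 h12 h22 h9
  have h1 : Tr s 1 (τ * σ * τ⁻¹ * σ⁻¹) := (((h.toTr.mul h2 (e2B _)).mul (h.toTr.inv (e1B _))
    (inv_mem (e1B _))).mul (h2.inv (e2B _)) (inv_mem (e2B _))).congr (by
      rw [s.B0_comm _ (e1B _) _ (e2B _)]; group)
  have a1 : s.d1 * σ * s.d1⁻¹ = σ := mul_inv_eq_iff_eq_mul.2 h12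
  have a2 : s.d2 * τ * s.d2⁻¹ = τ := mul_inv_eq_iff_eq_mul.2 h.d2
  have k1 := key h1.cen (h.toTr.mem (e1B _)) h.t9 s.d1L (fun i hi => (nB _ i hi).1) (by
    rw [← conj_mul, ← conj_mul, ← conj_mul, ← conj_inv, ← conj_inv, h.d1, a1]; group)
  have k2 := key h1.cen (h2.mem (e2B _)) h9 s.d2L (fun i hi => (nB _ i hi).2.1) (by
    rw [← conj_mul, ← conj_mul, ← conj_mul, ← conj_inv, ← conj_inv, h22, a2]; group)
  have := inv12 _ _ k1.1 k1.2 k2.2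
  rwa [mul_inv_eq_one, mul_inv_eq_iff_eq_mul] at this

theorem exists_tr {e : G} (he : e ∈ s.B0) : ∃ g, Tr s e g := by
  refine closure_induction (p := fun e _ => ∃ g, Tr s e g) ?_ ⟨1, tr_one⟩ ?_ ?_ he
  · simp only [Set.mem_ofPred_eq, List.forall_mem_cons, List.not_mem_nil, false_imp_iff, implies_true, and_true]
    exact ⟨⟨_, h.toTr⟩, ⟨_, h.tr2⟩, ⟨_, h.tr3⟩⟩
  · rintro x y - hy ⟨g, hg⟩ ⟨g', hg'⟩
    exact ⟨_, hg.mul hg' hy⟩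
  · rintro x hx ⟨g, hg⟩
    exact ⟨_, hg.inv hx⟩

theorem cube_ne (gl : Gl G) : τ ^ 3 ≠ 1 := fun h3 => by
  have h2 := h.tr2
  have h2' := h.tr3
  have a2 := h.d12
  have a3 := h.d13
  have c23 : s.v * τ * s.v⁻¹ * (s.v * (s.v * τ * s.v⁻¹) * s.v⁻¹) =
      s.v * (s.v * τ * s.v⁻¹) * s.v⁻¹ * (s.v * τ * s.v⁻¹) := by rw [conj_mul, h.comm, conj_mul]
  have p2 : (s.v * τ * s.v⁻¹) ^ 3 = 1 := by rw [conj_pow, h3]; group
  have p3 : (s.v * (s.v * τ * s.v⁻¹) * s.v⁻¹) ^ 3 = 1 := by rw [conj_pow, p2]; group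
  generalize s.v * (s.v * τ * s.v⁻¹) * s.v⁻¹ = σ3 at h2' a3 c23 p3
  generalize s.v * τ * s.v⁻¹ = σ2 at h2 a2 c23 p2
  obtain ⟨-, -, -, r2, r3, -, r1⟩ := de s.toLt
  have hc : ∀ x ∈ clos [s.e2, s.e3, σ2, σ3], ∀ y ∈ clos [s.e2, s.e3, σ2, σ3], x * y = y * x := by
    have : ∀ x ∈ [s.e2, s.e3, σ2, σ3], ∀ y ∈ clos [s.e2, s.e3, σ2, σ3], x * y = y * x := fun x hx =>
      commute_clos (by
        simp only [List.mem_cons, List.not_mem_nil, or_false] at hx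
        rcases hx with rfl | rfl | rfl | rfl <;>
          simp [h2.cB _ (e2B _), h2.cB _ (e3B _), h2'.cB _ (e2B _), h2'.cB _ (e3B _), c23,
            s.B0_comm _ (e2B _) _ (e3B _)])
    exact fun x hx y hy => (commute_clos (fun z hz => (this z hz y hy).symm) x hx).symm
  have he : ∀ x ∈ clos [s.e2, s.e3, σ2, σ3], x ^ 3 = 1 := fun x hx => by
    refine closure_induction (p := fun x _ => x ^ 3 = 1) ?_ (one_pow 3) ?_ ?_ hx
    · simp [p2, p3, s.B0_exp _ (e2B _), s.B0_exp _ (e3B _)]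
    · intro x y hx hy h1 h2
      rw [Commute.mul_pow (hc x hx y hy), h1, h2, one_mul]
    · intro x _ h1
      rw [inv_pow, h1, inv_one]
  have hle : clos [s.e2, s.e3] ≤ s.B0 := clos_le.2 (by simp [e2B, e3B])
  have hcard := mul_card_le_of_conj (K := clos [s.e2, s.e3]) (L := clos [s.e2, s.e3, σ2, σ3]) (z := s.b)
    (clos_le.2 fun x hx => mem_clos (List.mem_append_left [σ2, σ3] hx)) (fun k hk => bB (hle hk))
    (S := (fun e => s.b * e) '' (clos [s.e2, s.e3] : Set G)) (by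
      rintro _ ⟨e, he, rfl⟩
      have : ∃ g ∈ clos [s.e2, s.e3, σ2, σ3], Tr s e g := by
        refine closure_induction (p := fun e _ => ∃ g ∈ clos [s.e2, s.e3, σ2, σ3], Tr s e g) ?_
          ⟨1, one_mem _, tr_one⟩ ?_ ?_ he
        · simp only [Set.mem_ofPred_eq, List.forall_mem_cons, List.not_mem_nil, false_imp_iff, implies_true,
            and_true]
          exact ⟨⟨_, mem_clos (by simp), h2⟩, ⟨_, mem_clos (by simp), h2'⟩⟩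
        · rintro x y - hy ⟨g, m, hg⟩ ⟨g', m', hg'⟩
          exact ⟨_, mul_mem m m', hg.mul hg' (hle hy)⟩
        · rintro x hx ⟨g, m, hg⟩
          exact ⟨_, inv_mem m, hg.inv (hle hx)⟩
      obtain ⟨g, m, hg⟩ := this
      exact ⟨g, m, hg.tb⟩)
  rw [Set.ncard_image_of_injective _ (mul_right_injective s.b), ← Nat.card_coe_set_eq] at hcard
  have h9 := nine s.toLt
  have o2 : orderOf s.d1 = 2 := orderOf_eq_prime (by rw [pow_two, (dd _).1]) r1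
  have := gl.rk _ (zpowers s.d1) hc he ((Nat.mul_le_mul h9 h9).trans hcard)
    (IsPGroup.of_card (n := 1) (by rw [Nat.card_zpowers, o2]; rfl)) (by
      refine le_trans (clos_le.2 ?_) (centralizer_le_normalizer _)
      have k : ∀ x, s.d1 * x = x * s.d1 → x ∈ centralizer (zpowers s.d1 : Set G) := fun x hx => by
        rintro _ ⟨n, rfl⟩
        exact (Commute.zpow_left hx n).eq
      simp [k _ r2, k _ r3, k _ a2, k _ a3])
  exact r1 (zpowers_eq_bot.1 this)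

theorem no_inv (gl : Gl G) {g : G} (hg : g * s.b * g⁻¹ * s.b ∈ s.B0) : False := by
  obtain ⟨g1, h1⟩ := h.exists_tr hg
  have h2 : g1 * g * s.b * (g1 * g)⁻¹ = s.b⁻¹ := by
    have e1 := h1.cB _ hg
    have e2 := h1.tb
    have e3 := bB hg
    have e4 : g * s.b * g⁻¹ = g * s.b * g⁻¹ * s.b * s.b⁻¹ := by group
    generalize g * s.b * g⁻¹ * s.b = e at e1 e2 e3 e4
    calc _ = g1 * (g * s.b * g⁻¹) * g1⁻¹ := by group
      _ = g1 * e * g1⁻¹ * (g1 * s.b * g1⁻¹)⁻¹ := by rw [e4]; group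
      _ = _ := by rw [e1, e2]; group
  obtain ⟨l, hl, h3⟩ := s.out (s.norm_L (Or.inr h2))
  have h4 : g1 * g * l⁻¹ * s.b * (g1 * g * l⁻¹)⁻¹ = s.b⁻¹ := by
    rw [← h2, mul_assoc _ l⁻¹, s.bc _ (inv_mem hl)]; group
  generalize g1 * g * l⁻¹ = n at h3 h4
  have hL : ∀ x ∈ s.L, n * x * n⁻¹ = x := fun x hx => mul_inv_eq_iff_eq_mul.2 (h3 x hx).symm
  have h5 : Tr s s.e1⁻¹ (n * τ * n⁻¹) := ⟨fun i hi => by
    rw [← hL i (s.B0_le hi), conj_mul, conj_mul, h.cB i hi], by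
      have e1 : s.b = n * s.b⁻¹ * n⁻¹ := by rw [← conj_inv, h4, inv_inv]
      have e2 : τ * s.b⁻¹ * τ⁻¹ = s.b⁻¹ * s.e1⁻¹ := by rw [← conj_inv, h.tb, ← bB (e1B _), mul_inv_rev]
      calc _ = n * τ * n⁻¹ * (n * s.b⁻¹ * n⁻¹) * (n * τ * n⁻¹)⁻¹ := by rw [← e1]
        _ = n * (τ * s.b⁻¹ * τ⁻¹) * n⁻¹ := by group
        _ = _ := by rw [e2, ← conj_mul, ← e1, hL _ (inv_mem s.e1L)]⟩
  have a1 : s.d1 * (n * τ * n⁻¹) * s.d1⁻¹ = (n * τ * n⁻¹)⁻¹ := by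
    rw [← hL _ s.d1L, conj_inv, conj_mul, conj_mul, h.d1, conj_inv]
  have a3 : (n * τ * n⁻¹) ^ 3 = τ ^ 3 := by
    rw [conj_pow]
    rcases h.cube with e | e | e <;> rw [e]
    exacts [hL _ (one_mem _), hL _ s.e1L, hL _ (inv_mem s.e1L)]
  generalize n * τ * n⁻¹ = σ at h5 a1 a3
  have h6 : Tr s 1 (τ * σ) := (h.toTr.mul h5 (inv_mem (e1B _))).congr (mul_inv_cancel _)
  have k := (key h6.cen (h.toTr.mem (e1B _)) h.t9 s.d1L (fun i hi => (nB _ i hi).1) (by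
    rw [← conj_mul, h.d1, a1]; group)).1
  have c : Commute τ⁻¹ (τ * σ) := Commute.inv_left (h.cB _ k)
  have e1 := c.mul_pow 3
  rw [inv_mul_cancel_left, s.B0_exp _ k, mul_one, a3, inv_pow] at e1
  refine h.cube_ne gl ?_
  have e2 : τ ^ 3 * τ ^ 3 = 1 := mul_eq_one_iff_eq_inv.2 e1
  have e3 := h.t9
  rwa [show 9 = 3 + 3 + 3 from rfl, pow_add, pow_add, e2, one_mul] at e3

end Tau

variable (s) in
/-- The second stage, with the action of `d₁`. -/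
structure A9d (c τ : G) : Prop extends s.A9 c τ where
  d1 : s.d1 * τ * s.d1⁻¹ = τ⁻¹
  d12 : s.d1 * (s.v * τ * s.v⁻¹) = s.v * τ * s.v⁻¹ * s.d1
  d13 : s.d1 * (s.v * (s.v * τ * s.v⁻¹) * s.v⁻¹) = s.v * (s.v * τ * s.v⁻¹) * s.v⁻¹ * s.d1

theorem a9d (h : s.Af) (gl : Gl G) : ∃ c τ, A9d s c τ := by
  obtain ⟨g, hg⟩ := h.ex
  obtain ⟨τ, hτ⟩ := exists_tau hg
  have hall : ∀ g ∈ s.NJ, g * s.b * g⁻¹ * s.b⁻¹ ∈ s.B0 := fun g hg =>
    (h.all g hg).resolve_right (hτ.no_inv gl)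
  have e1 := hτ.cB _ (e1B _)
  have e2 := bB (s := s) (e1B _)
  have e3 : s.b * τ * s.b⁻¹ = τ * s.e1⁻¹ := by
    have := (hτ.toTr.inv (e1B _)).tb
    calc _ = τ * (τ⁻¹ * s.b * τ⁻¹⁻¹) * s.b⁻¹ := by group
      _ = _ := by rw [this, ← bB (inv_mem (e1B _))]; group
  rcases hτ.cube with e | e | e
  · exact (hτ.cube_ne gl e).elim
  · refine ⟨s.b⁻¹, τ, ⟨Or.inr rfl, e, hτ.comm, ?_, fun g hg => ?_⟩, hτ.d1, hτ.d12, hτ.d13⟩
    · rw [pow_succ', e]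
      calc _ = s.b⁻¹ * (τ * s.b * τ⁻¹) * τ := by group
        _ = _ := by rw [hτ.tb, e1]; group
    · have k := inv_mem (hall g hg)
      have k2 := bB k
      have : g * s.b⁻¹ * g⁻¹ * s.b⁻¹⁻¹ = s.b⁻¹ * ((g * s.b * g⁻¹ * s.b⁻¹)⁻¹ * s.b) := by group
      rwa [this, k2, inv_mul_cancel_left]
  · refine ⟨s.b, τ⁻¹, ⟨Or.inl rfl, by rw [inv_pow, e, inv_inv], ?_, ?_, hall⟩, ?_, ?_, ?_⟩
    · rw [← conj_inv]
      exact (Commute.inv_inv hτ.comm).eq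
    · rw [← conj_inv, e3, inv_pow, pow_succ' τ 3, e]
    · rw [← conj_inv, hτ.d1]
    · rw [← conj_inv]
      exact (Commute.inv_right hτ.d12).eq
    · rw [← conj_inv, ← conj_inv]
      exact (Commute.inv_right hτ.d13).eq

end AfA

theorem Bs.Af.a9 {s : Bs G} (h : s.Af) (gl : Gl G) : ∃ c τ, s.A9 c τ :=
  let ⟨c, τ, h⟩ := AfA.a9d h gl
  ⟨c, τ, h.toA9⟩

end Cfsg.Agent.S8
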