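import Mathlib
import Cfsg.Agent.S8.Loc
import Cfsg.Agent.S8.AfA
import Cfsg.Agent.Loc.MssSyl
import Cfsg.Agent.Loc.CFTrApp
import Cfsg.Agent.GT.TransferEval
import Cfsg.Agent.T16.Kit3B

/-! The affine case: a normal subgroup of index three. -/

set_option autoImplicit false
set_option linter.unusedSectionVars false
set_option synthInstance.maxSize 100000
set_option synthInstance.maxHeartbeats 1000000
set_option maxRecDepth 100000

namespace Cfsg.Agent.S8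

open Cfsg.Agent.Spor Cfsg.Agent.Rec Cfsg.Agent.Inv.Fz Cfsg.Agent.T16 Cfsg.Agent.F4L Subgroup

universe u

variable {G : Type u} [Group G] [Finite G]

namespace AfB

open AfA Cfsg.Agent.Loc

theorem zp3 {x y : G} (h : x ^ 3 = 1) (hy : y ∈ zpowers x) : y = 1 ∨ y = x ∨ y = x⁻¹ :=
  T16.mem_zpowers_three h hy

theorem pg3 {x : G} (h : x ^ 3 = 1) : IsPGroup 3 (zpowers x) := Mss.pg_iff.2 (by
  rintro _ ⟨k, rfl⟩
  exact ⟨1, by rw [pow_one, ← zpow_natCast, ← zpow_mul, mul_comm, zpow_mul, zpow_natCast, h, one_zpow]⟩)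

/-- Transfer into a cyclic quotient. -/
theorem tr3 {S T : Subgroup G} {c : G} (hS : Mss.Syl 3 S ⊤) (hT : S ≤ normalizer (T : Set G)) (hc : c ∈ S)
    (h3 : c ^ 3 = 1) (hgen : ∀ x ∈ S, ∃ t ∈ T, ∃ y ∈ zpowers c, t * y = x) (hcT : c ∉ T)
    (h : ∀ g, g * c * g⁻¹ ∈ S → g * c * g⁻¹ * c⁻¹ ∈ T) : ∃ N : Subgroup G, N.Normal ∧ N.index = 3 := by
  have : Fact (Nat.Prime 3) := ⟨by norm_num⟩
  have : (T.subgroupOf S).Normal := ⟨fun t ht g => Mss.conj_mem_of_norm (A := T) (hT g.2) ht⟩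
  have : IsCyclic (S ⧸ T.subgroupOf S) := ⟨⟨QuotientGroup.mk ⟨c, hc⟩, fun q => by
    obtain ⟨x, rfl⟩ := QuotientGroup.mk_surjective q
    obtain ⟨t, ht, _, ⟨k, rfl⟩, e⟩ := hgen x x.2
    refine ⟨k, ?_⟩
    change (QuotientGroup.mk ⟨c, hc⟩ : S ⧸ T.subgroupOf S) ^ k = _
    rw [← QuotientGroup.mk_zpow, QuotientGroup.eq, mem_subgroupOf]
    change (c ^ k)⁻¹ * x ∈ T
    rw [← e, ← mul_assoc]
    exact Mss.conj_mem_of_norm' (hT (zpow_mem hc k)) ht⟩⟩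
  let _ : CommGroup (S ⧸ T.subgroupOf S) := IsCyclic.commGroup
  let φ : S →* S ⧸ T.subgroupOf S := QuotientGroup.mk' _
  have h1 := GT.Tr.transfer_eq_pow_of_conj φ ⟨c, hc⟩ fun k t hk => by
    by_cases h0 : 3 ∣ k
    · obtain ⟨m, rfl⟩ := h0
      rw [← map_pow]
      exact congrArg φ (Subtype.ext (by simp [pow_mul, h3]))
    · have h5 : (c ^ k) ^ k = c := by
        obtain ⟨m, hm⟩ : ∃ m, k * k = 3 * m + 1 := ⟨k * k / 3, by
          have : k % 3 = 1 ∨ k % 3 = 2 := by omega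
          have : k * k % 3 = 1 := by rcases this with e | e <;> simp [Nat.mul_mod, e]
          omega⟩
        rw [← pow_mul, hm, pow_succ, pow_mul, h3, one_pow, one_mul]
      have h6 : t⁻¹ * c * t⁻¹⁻¹ ∈ S := by
        have hk' : t⁻¹ * c ^ k * t⁻¹⁻¹ ∈ S := by rw [inv_inv]; exact hk
        have := pow_mem hk' k
        rwa [conj_pow, h5] at this
      have h7 : φ ⟨_, h6⟩ = φ ⟨c, hc⟩ := by
        rw [← mul_inv_eq_one, ← map_inv, ← map_mul]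
        exact (QuotientGroup.eq_one_iff _).2 (h _ h6)
      rw [← h7, ← map_pow]
      refine congrArg φ (Subtype.ext ?_)
      change t⁻¹ * c ^ k * t = (t⁻¹ * c * t⁻¹⁻¹) ^ k
      rw [conj_pow, inv_inv]
  obtain ⟨P, rfl⟩ := hS.exists_sylow_top
  refine Loc.CF.exists_normal_index_of_not_le P fun hP => hcT ?_
  rw [GT.Tr.transfer_eq_one_of_mem_commutator φ (hP hc)] at h1
  have h2 : φ ⟨c, hc⟩ ^ 3 = 1 := by
    rw [← map_pow, ← map_one φ]
    exact congrArg φ (Subtype.ext h3)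
  have h4 := pow_gcd_eq_one.2 ⟨h2, h1.symm⟩
  rw [((Nat.Prime.coprime_iff_not_dvd (by norm_num)).2 P.not_dvd_index).gcd_eq_one, pow_one] at h4
  exact (QuotientGroup.eq_one_iff (N := T.subgroupOf P) ⟨c, hc⟩).1 h4

/-- A free module for the group of order three has trivial cohomology. -/
theorem free3 {A : Type*} [CommGroup A] (f : A →* A) (h3 : ∀ a, f (f (f a)) = a) {τ : A}
    (hgen : ∀ H : Subgroup A, τ ∈ H → f τ ∈ H → f (f τ) ∈ H → H = ⊤)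
    (hind : ∀ m : ℤ, τ ^ m * (f τ ^ m * f (f τ) ^ m) = 1 → τ ^ m = 1) {a : A} (ha : a * (f a * f (f a)) = 1) :
    ∃ t, t * a * (f t)⁻¹ = 1 := by
  let δ : A →* A := f / MonoidHom.id A
  have hδ : ∀ t, δ t = f t / t := fun _ => rfl
  have h1 : ∀ x ∈ δ.range ⊔ zpowers τ, f x ∈ δ.range ⊔ zpowers τ := fun x hx => by
    rw [show f x = δ x * x by rw [hδ, div_mul_cancel]]
    exact mul_mem (mem_sup_left ⟨x, rfl⟩) hx
  have h2 : τ ∈ δ.range ⊔ zpowers τ := mem_sup_right (mem_zpowers _)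
  obtain ⟨_, ⟨t, rfl⟩, _, ⟨m, rfl⟩, rfl⟩ := mem_sup.1 ((hgen _ h2 (h1 _ h2) (h1 _ (h1 _ h2))).ge (mem_top a))
  have h4 := hind m (by
    rw [← ha]
    simp only [hδ, map_mul, map_div, map_zpow, h3]
    apply Additive.ofMul.injective
    simp only [ofMul_mul, ofMul_div]
    abel)
  refine ⟨t, ?_⟩
  simp only [h4, hδ, mul_one]
  apply Additive.ofMul.injective
  simp only [ofMul_mul, ofMul_div, ofMul_inv, ofMul_one]
  abel

section letters

variable (s : Lt G)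

theorem vy : s.v * s.e1 * s.v⁻¹ ≠ s.e1 ∧ s.v⁻¹ * s.e1 * s.v ≠ s.e1 ∧
    s.v * (s.v * s.e1 * s.v⁻¹ * s.e1⁻¹) * s.v⁻¹ ≠ s.v * s.e1 * s.v⁻¹ * s.e1⁻¹ ∧
    s.v⁻¹ * (s.v⁻¹ * s.e1 * s.v * s.e1⁻¹) * s.v ≠ s.v⁻¹ * s.e1 * s.v * s.e1⁻¹ ∧ s.v ^ 3 = 1 :=
  s.hL.decide s.rep (by decide +kernel)

end letters

variable {s : Bs G} {c τ : G}

theorem af (h : s.A9 c τ) : s.Af := by
  obtain ⟨-, -, -, a1, a2, a3, a4⟩ := vv s.toLt
  have b1 : Commute τ s.e1 := h.t3 ▸ (Commute.refl τ).pow_right 3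
  have b2 : Commute τ s.e2 := by
    rw [← a1, ← h.t3, ← conj_pow]
    exact Commute.pow_right h.t12 3
  have b3 : Commute τ s.e3 := by
    rw [← a2, ← a1, ← h.t3, ← conj_pow, ← conj_pow]
    refine Commute.pow_right ?_ 3
    have e : τ = s.v * (s.v * (s.v * τ * s.v⁻¹) * s.v⁻¹) * s.v⁻¹ := by
      calc τ = (s.v * s.v * s.v) * τ * (s.v * s.v * s.v)⁻¹ := by rw [a4]; group
        _ = _ := by group
    change τ * _ = _ * τ
    nth_rw 1 [e]
    nth_rw 4 [e]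
    rw [conj_mul, conj_mul, conj_mul, conj_mul, h.t12]
  have e0 : τ⁻¹ * c * τ = s.e1 * c := by
    have := h.tc
    rw [pow_succ', h.t3] at this
    calc _ = τ⁻¹ * (c * τ * c⁻¹) * c := by group
      _ = _ := by rw [this]; group
  have k : ∀ {g x : G}, Commute g x → g * x * g⁻¹ = x := fun h => mul_inv_eq_iff_eq_mul.2 h.eq
  have e1 := bB (s := s) (e1B _)
  refine ⟨?_, fun g hg => Or.inl ?_⟩
  · rcases h.hc with rfl | rfl
    · exact ⟨τ⁻¹, k b1.inv_left, k b2.inv_left, k b3.inv_left, by rw [inv_inv, e0, e1]⟩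
    · refine ⟨τ, k b1, k b2, k b3, ?_⟩
      have e2 : s.b = τ * (s.b * s.e1⁻¹) * τ⁻¹ := by
        rw [← inv_inv s.b, ← mul_inv_rev, inv_inv s.b, ← e0]; group
      nth_rw 2 [e2]
      rw [mul_assoc _ τ⁻¹, b1.inv_left.eq]
      group
  · have := h.all g hg
    rcases h.hc with rfl | rfl
    · exact this
    · have k1 := inv_mem this
      have k2 := bB k1
      have : g * s.b * g⁻¹ * s.b⁻¹ = s.b * (g * s.b⁻¹ * g⁻¹ * s.b⁻¹⁻¹)⁻¹ * s.b⁻¹ := by group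
      rwa [this, ← k2, mul_inv_cancel_right]

variable (s τ) in
/-- The homocyclic group. -/
def A : Subgroup G := clos [τ, s.v * τ * s.v⁻¹, s.v * (s.v * τ * s.v⁻¹) * s.v⁻¹]

variable (s τ) in
/-- The kernel of the map onto the group of order three. -/
def T : Subgroup G := A s τ ⊔ zpowers s.v

variable (s c τ) in
/-- The Sylow subgroup. -/
def S : Subgroup G := T s τ ⊔ zpowers c

theorem v3 (x : G) : s.v * (s.v * (s.v * x * s.v⁻¹) * s.v⁻¹) * s.v⁻¹ = x := by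
  calc _ = (s.v * s.v * s.v) * x * (s.v * s.v * s.v)⁻¹ := by group
    _ = x := by rw [(vv _).2.2.2.2.2.2]; group

theorem m1 : τ ∈ A s τ := mem_clos (by simp)
theorem m2 : s.v * τ * s.v⁻¹ ∈ A s τ := mem_clos (by simp)
theorem m3 : s.v * (s.v * τ * s.v⁻¹) * s.v⁻¹ ∈ A s τ := mem_clos (by simp)

theorem v_norm : zpowers s.v ≤ normalizer (A s τ : Set G) := by
  rw [← Syl.clos_singleton]
  refine Syl.mem_normalizer_clos ?_
  simp only [List.forall_mem_cons, List.not_mem_nil, false_imp_iff, implies_true, and_true, v3]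
  exact ⟨m2, m3, m1⟩

section main

variable (h : A9d s c τ)
include h

theorem cb : c ∈ zpowers s.b := by
  rcases h.hc with rfl | rfl
  exacts [mem_zpowers _, inv_mem (mem_zpowers _)]

theorem bc : s.b ∈ zpowers c := by
  rcases h.hc with rfl | rfl
  exacts [mem_zpowers _, by simp]

theorem cJ : zpowers c ≤ s.J := zpowers_le.2 (zpowers_le.2 s.b_mem_J (cb h))

theorem c3 : c ^ 3 = 1 := s.J_exp _ (cJ h (mem_zpowers _))

theorem cL {y l : G} (hy : y ∈ zpowers c) (hl : l ∈ s.L) : l * y = y * l := by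
  obtain ⟨k, rfl⟩ := zpowers_le.2 (cb h) hy
  exact (Commute.zpow_right (s.bc l hl) k).eq

theorem comm : ∀ x ∈ A s τ, ∀ y ∈ A s τ, x * y = y * x := by
  have c12 := h.t12
  have c23 : s.v * τ * s.v⁻¹ * (s.v * (s.v * τ * s.v⁻¹) * s.v⁻¹) =
      s.v * (s.v * τ * s.v⁻¹) * s.v⁻¹ * (s.v * τ * s.v⁻¹) := by rw [conj_mul, c12, conj_mul]
  have c31 : s.v * (s.v * τ * s.v⁻¹) * s.v⁻¹ * τ = τ * (s.v * (s.v * τ * s.v⁻¹) * s.v⁻¹) := by
    have : s.v * (s.v * τ * s.v⁻¹) * s.v⁻¹ * (s.v * (s.v * (s.v * τ * s.v⁻¹) * s.v⁻¹) * s.v⁻¹) =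
        s.v * (s.v * (s.v * τ * s.v⁻¹) * s.v⁻¹) * s.v⁻¹ * (s.v * (s.v * τ * s.v⁻¹) * s.v⁻¹) := by
      exact conj_mul.trans ((congrArg (fun x => s.v * x * s.v⁻¹) c23).trans conj_mul.symm)
    rwa [v3] at this
  unfold A
  generalize s.v * (s.v * τ * s.v⁻¹) * s.v⁻¹ = σ3 at c23 c31
  generalize s.v * τ * s.v⁻¹ = σ2 at c12 c23
  have : ∀ x ∈ [τ, σ2, σ3], ∀ y ∈ clos [τ, σ2, σ3], x * y = y * x := fun x hx =>
    commute_clos (by
      simp only [List.mem_cons, List.not_mem_nil, or_false] at hx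
      rcases hx with rfl | rfl | rfl <;> simp [c12, c23, c31])
  exact fun x hx y hy => (commute_clos (fun z hz => (this z hz y hy).symm) x hx).symm

theorem cube_mem {a : G} (ha : a ∈ A s τ) : a ^ 3 ∈ s.B0 := by
  refine closure_induction (p := fun a _ => a ^ 3 ∈ s.B0) ?_ (by simp) ?_ ?_ ha
  · simp only [Set.mem_ofPred_eq, List.forall_mem_cons, List.not_mem_nil, false_imp_iff, implies_true, and_true,
      conj_pow, h.t3, (vv _).2.2.2.1, (vv _).2.2.2.2.1]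
    exact ⟨e1B _, e2B _, e3B _⟩
  · intro x y hx hy h1 h2
    rw [Commute.mul_pow (comm h x hx y hy)]
    exact mul_mem h1 h2
  · intro x _ h1
    rw [inv_pow]
    exact inv_mem h1

theorem exists_cube {e : G} (he : e ∈ s.B0) : ∃ a ∈ A s τ, a ^ 3 = e := by
  refine closure_induction (p := fun e _ => ∃ a ∈ A s τ, a ^ 3 = e) ?_ ⟨1, one_mem _, one_pow 3⟩ ?_ ?_ he
  · simp only [Set.mem_ofPred_eq, List.forall_mem_cons, List.not_mem_nil, false_imp_iff, implies_true, and_true]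
    exact ⟨⟨_, m1, h.t3⟩, ⟨_, m2, by rw [conj_pow, h.t3, (vv _).2.2.2.1]⟩,
      ⟨_, m3, by rw [conj_pow, conj_pow, h.t3, (vv _).2.2.2.1, (vv _).2.2.2.2.1]⟩⟩
  · rintro x y - - ⟨a, ha, rfl⟩ ⟨a', ha', rfl⟩
    exact ⟨_, mul_mem ha ha', Commute.mul_pow (comm h a ha a' ha') 3⟩
  · rintro x - ⟨a, ha, rfl⟩
    exact ⟨_, inv_mem ha, inv_pow a 3⟩

theorem B0_le : s.B0 ≤ A s τ := fun e he => by
  obtain ⟨a, ha, rfl⟩ := exists_cube h he
  exact pow_mem ha 3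

theorem nine {a : G} (ha : a ∈ A s τ) : a ^ 9 = 1 := by
  rw [show 9 = 3 * 3 from rfl, pow_mul]
  exact s.B0_exp _ (cube_mem h ha)

theorem c_act {a : G} (ha : a ∈ A s τ) : c * a * c⁻¹ = a ^ 4 := by
  have hv : ∀ x, c * x * c⁻¹ = x ^ 4 → c * (s.v * x * s.v⁻¹) * c⁻¹ = (s.v * x * s.v⁻¹) ^ 4 := fun x hx => by
    rw [conj_pow, ← hx, ← mul_assoc, ← mul_assoc, ← cL h (mem_zpowers _) s.vL, mul_assoc _ s.v⁻¹,
      cL h (inv_mem (mem_zpowers _)) (inv_mem s.vL)]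
    group
  refine closure_induction (p := fun a _ => c * a * c⁻¹ = a ^ 4) ?_ (by simp) ?_ ?_ ha
  · simp only [Set.mem_ofPred_eq, List.forall_mem_cons, List.not_mem_nil, false_imp_iff, implies_true, and_true]
    exact ⟨h.tc, hv _ h.tc, hv _ (hv _ h.tc)⟩
  · intro x y hx hy h1 h2
    rw [Commute.mul_pow (comm h x hx y hy), ← h1, ← h2, conj_mul]
  · intro x _ h1
    rw [inv_pow, ← h1, conj_inv]

theorem act {y : G} (hy : y ∈ zpowers c) : ∃ m : ℕ, ∀ a ∈ A s τ, y * a * y⁻¹ = a ^ (3 * m + 1) := by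
  rcases zp3 (c3 h) hy with rfl | rfl | rfl
  · exact ⟨0, fun a _ => by simp⟩
  · exact ⟨1, fun a ha => c_act h ha⟩
  · refine ⟨5, fun a ha => ?_⟩
    have e : c⁻¹ = c * c := by rw [inv_eq_iff_mul_eq_one, ← c3 h, pow_succ', pow_two]
    calc _ = c * c * a * (c * c)⁻¹ := by rw [← e]
      _ = c * (c * a * c⁻¹) * c⁻¹ := by group
      _ = _ := by rw [c_act h ha, c_act h (pow_mem ha 4), ← pow_mul]

theorem c_norm : zpowers c ≤ normalizer (A s τ : Set G) := fun y hy => by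
  obtain ⟨m, hm⟩ := act h hy
  exact Mss.mem_norm_of_cj_le (Mss.cj_le_iff.2 fun a ha => hm a ha ▸ pow_mem ha _)

theorem c_normT : zpowers c ≤ normalizer (T s τ : Set G) :=
  Mss.norm_sup (c_norm h) (Mss.norm_of_cent fun _ hy => Mss.mem_cent.2 fun _ hx =>
    cL h hy (zpowers_le.2 s.vL hx))

theorem mem_S {x : G} (hx : x ∈ S s c τ) : ∃ a ∈ A s τ, ∃ w ∈ zpowers s.v, ∃ y ∈ zpowers c, x = a * w * y := by
  obtain ⟨t, ht, y, hy, rfl⟩ := (Mss.mem_sup_norm (c_normT h)).1 hx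
  obtain ⟨a, ha, w, hw, rfl⟩ := (Mss.mem_sup_norm v_norm).1 ht
  exact ⟨a, ha, w, hw, y, hy, rfl⟩

theorem pgS : IsPGroup 3 (S s c τ) :=
  Mss.pg_sup' (Mss.pg_sup' (Mss.pg_iff.2 fun _ ha => ⟨2, nine h ha⟩) (pg3 (vy _).2.2.2.2) v_norm) (pg3 (c3 h))
    (c_normT h)

theorem c_ne : c * τ ≠ τ * c := fun e => by
  have := h.tc
  rw [e, mul_inv_cancel_right, pow_succ', h.t3, left_eq_mul] at this
  exact (de _).2.2.2.2.2.1 this

theorem omega {a : G} (ha : a ∈ A s τ) (h3 : a ^ 3 = 1) : a ∈ s.B0 := by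
  have h1 : Commute a c := by
    have := c_act h ha
    rw [pow_succ, h3, one_mul, mul_inv_eq_iff_eq_mul] at this
    exact this.symm
  have h2 : a * s.b = s.b * a := by
    obtain ⟨k, hk⟩ := bc h
    exact hk ▸ (h1.zpow_right k).eq
  obtain ⟨y, hy, j, hj, rfl⟩ := s.cen_J (cenJ (fun i hi => comm h _ ha _ (B0_le h hi)) h2)
  rw [Commute.mul_pow (s.Y_J y hy j hj), s.J_exp j hj, mul_one] at h3
  obtain rfl := Y_eq_one hy (by rw [h3, one_mul])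
  rw [one_mul] at ha ⊢
  obtain ⟨y, hy, i, hi, rfl⟩ := s.mem_J.1 hj
  have h4 := comm h _ ((mul_mem_cancel_right (B0_le h hi)).1 ha) _ m1
  rcases zp3 (c3 h) (zpowers_le.2 (bc h) hy) with rfl | rfl | rfl
  · rwa [one_mul]
  · exact (c_ne h h4).elim
  · exact (c_ne h (Commute.inv_left_iff.1 h4).eq).elim

theorem mem_J {a y : G} (ha : a ∈ A s τ) (hy : y ∈ zpowers c) (h3 : (a * y) ^ 3 = 1) : a * y ∈ s.J := by
  obtain ⟨m, hm⟩ := act h hy
  refine mul_mem (s.B0_le_J (omega h ha ?_)) (cJ h hy)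
  have e : (a * y) ^ 3 = a * (y * a * y⁻¹) * (y * (y * a * y⁻¹) * y⁻¹) * y ^ 3 := by
    simp only [pow_succ, pow_zero]; group
  rw [e, s.J_exp _ (cJ h hy), mul_one, hm a ha, hm _ (pow_mem ha _), ← pow_mul, ← pow_succ', ← pow_add,
    show 3 * m + 1 + 1 + (3 * m + 1) * (3 * m + 1) = 9 * (m + m * m) + 3 by ring, pow_add, pow_mul, nine h ha,
    one_pow, one_mul] at h3
  exact h3

theorem fusJ {g : G} (hg : g * c * g⁻¹ ∈ s.J) : g * c * g⁻¹ * c⁻¹ ∈ s.B0 := by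
  have h1 := h.all
  rcases h.hc with rfl | rfl
  · obtain ⟨n, hn, e⟩ := s.fus hg
    exact e ▸ h1 n hn
  · obtain ⟨n, hn, e⟩ := s.fus (g := g) (by simpa [mul_assoc] using inv_mem hg)
    have := h1 n hn
    rwa [← conj_inv, e, conj_inv] at this

theorem conj_c {k : G} (hk : k ∈ S s c τ) : k * c * k⁻¹ ∈ s.J := by
  obtain ⟨a, ha, w, hw, y, hy, rfl⟩ := mem_S h hk
  have e1 := s.J_comm _ (cJ h hy) _ (cJ h (mem_zpowers c))
  have e2 := cL h (mem_zpowers c) (zpowers_le.2 s.vL hw)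
  have e3 : a * w * y * c * (a * w * y)⁻¹ = a * (c * a⁻¹ * c⁻¹) * c := by
    rw [mul_assoc _ y, e1, ← mul_assoc, mul_assoc _ w, e2]; group
  rw [e3, c_act h (inv_mem ha), pow_succ', mul_inv_cancel_left]
  exact mul_mem (s.B0_le_J (cube_mem h (inv_mem ha))) (cJ h (mem_zpowers c))

theorem act_B0 {a w y i : G} (ha : a ∈ A s τ) (hw : w ∈ zpowers s.v) (hy : y ∈ zpowers c) (hi : i ∈ s.B0) :
    a * w * y * i * (a * w * y)⁻¹ = w * i * w⁻¹ := by
  have h1 : w * i * w⁻¹ ∈ A s τ := Mss.conj_mem_of_norm (v_norm hw) (B0_le h hi)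
  calc _ = a * (w * (y * i) * y⁻¹ * w⁻¹) * a⁻¹ := by group
    _ = a * (w * i * w⁻¹) * a⁻¹ := by rw [← cL h hy (s.B0_le hi)]; group
    _ = _ := by rw [comm h _ ha _ h1, mul_inv_cancel_right]

theorem A_le : A s τ ≤ S s c τ := le_sup_left.trans le_sup_left

theorem syl : Mss.Syl 3 (S s c τ) ⊤ := by
  have : Fact (Nat.Prime 3) := ⟨by norm_num⟩
  refine Mss.Syl.of_norm (pgS h) le_top fun P hP hSP _ hn n hnP => ?_
  have hc : c ∈ S s c τ := mem_sup_right (mem_zpowers c)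
  obtain ⟨a, ha, w, hw, y, hy, e⟩ := mem_S h (Mss.conj_mem_of_norm (hn hnP) hc)
  have h1 : n * c * n⁻¹ * (n * c * n⁻¹ * s.e1 * (n * c * n⁻¹)⁻¹ * s.e1⁻¹) * (n * c * n⁻¹)⁻¹ =
      n * c * n⁻¹ * s.e1 * (n * c * n⁻¹)⁻¹ * s.e1⁻¹ := by
    have k1 := conj_c h (Mss.conj_mem_of_norm' (hn hnP) (A_le h (B0_le h (e1B _))))
    have k2 := s.J_comm _ (cJ h (mem_zpowers c)) _ (mul_mem (cJ h (mem_zpowers c)) (inv_mem k1))
    calc _ = n * (c * (c * (n⁻¹ * s.e1 * n * c * (n⁻¹ * s.e1 * n)⁻¹)⁻¹)) * (c⁻¹ * n⁻¹) := by group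
      _ = _ := by rw [k2]; group
  have h2 : w * s.e1 * w⁻¹ * s.e1⁻¹ ∈ s.B0 := by
    refine mul_mem ?_ (inv_mem (e1B _))
    rcases zp3 (vy _).2.2.2.2 hw with rfl | rfl | rfl
    · simpa using e1B _
    · exact (nB _ _ (e1B _)).2.2.2.2
    · simpa using (nB _ _ (e1B _)).2.2.2.1
  rw [e, act_B0 h ha hw hy (e1B _), act_B0 h ha hw hy h2] at h1
  obtain rfl : w = 1 := by
    rcases zp3 (vy _).2.2.2.2 hw with rfl | rfl | rfl
    · rfl
    · exact ((vy _).2.2.1 h1).elim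
    · exact ((vy _).2.2.2.1 (by simpa using h1)).elim
  rw [mul_one] at e
  have h3 := fusJ h (e ▸ mem_J h ha hy (by rw [← e, conj_pow, c3 h]; group))
  obtain ⟨t, ht, e'⟩ := exists_cube h h3
  have h4 : Commute (t * n) c := by
    refine mul_inv_eq_iff_eq_mul.1 ?_
    calc _ = t * (n * c * n⁻¹ * c⁻¹) * (c * t⁻¹ * c⁻¹) * c := by group
      _ = _ := by rw [← e', c_act h (inv_mem ht), ← pow_succ', inv_pow, mul_inv_cancel, one_mul]
  have h5 : t * n ∈ P := mul_mem (hSP (A_le h ht)) hnP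
  obtain ⟨k, hk⟩ := Mss.pg_iff.1 hP _ h5
  obtain ⟨y', hy', l, hl, e2, -⟩ := s.three_mem (g := t * n) (by
    obtain ⟨i, hi⟩ := bc h
    exact hi ▸ (h4.zpow_right i).eq) hk
  have h6 : y' ∈ S s c τ := mem_sup_right (zpowers_le.2 (bc h) hy')
  have h7 : s.S ≤ S s c τ := clos_le.2 (by
    simp only [List.forall_mem_cons, List.not_mem_nil, false_imp_iff, implies_true, and_true]
    exact ⟨A_le h (B0_le h (e1B _)), A_le h (B0_le h (e2B _)), A_le h (B0_le h (e3B _)),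
      mem_sup_left (mem_sup_right (mem_zpowers _))⟩)
  have h8 := s.sylS.eq_of_le (Q := P ⊓ s.L) hP.to_inf_left inf_le_right (le_inf (h7.trans hSP) s.S_le)
  have h9 : l ∈ S s c τ := h7 (h8.le ⟨(mul_mem_cancel_left (hSP h6)).1 (e2 ▸ h5), hl⟩)
  exact (mul_mem_cancel_left (A_le h ht)).1 (e2 ▸ mul_mem h6 h9)

theorem c_notMem : c ∉ T s τ := fun hc => by
  obtain ⟨a, ha, w, hw, e⟩ := (Mss.mem_sup_norm v_norm).1 hc
  have h1 := act_B0 h ha hw (one_mem _) (e1B _)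
  rw [mul_one, e, ← cL h (mem_zpowers c) s.e1L, mul_inv_cancel_right] at h1
  rcases zp3 (vy _).2.2.2.2 hw with rfl | rfl | rfl
  · exact c_ne h (comm h _ (by rwa [← e, mul_one]) _ m1)
  · exact (vy _).1 h1.symm
  · exact (vy _).2.1 (by simpa using h1.symm)

open scoped IsMulCommutative in
theorem split {a w y : G} (ha : a ∈ A s τ) (hw : w = s.v ∨ w = s.v⁻¹) (hy : y ∈ zpowers c)
    (h3 : (a * w * y) ^ 3 = 1) : ∃ t, t * (a * w * y) * t⁻¹ = w * y := by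
  have hw' : w ∈ zpowers s.v := by
    rcases hw with rfl | rfl
    exacts [mem_zpowers _, inv_mem (mem_zpowers _)]
  have : IsMulCommutative (A s τ) := ⟨⟨fun x y => Subtype.ext (comm h _ x.2 _ y.2)⟩⟩
  have hu : w * y ∈ normalizer (A s τ : Set G) := mul_mem (v_norm hw') (c_norm h hy)
  have hu3 : (w * y) ^ 3 = 1 := by
    rw [Commute.mul_pow (cL h hy (zpowers_le.2 s.vL hw')), s.J_exp _ (cJ h hy), mul_one]
    rcases hw with rfl | rfl
    exacts [(vy _).2.2.2.2, by rw [inv_pow, (vy _).2.2.2.2, inv_one]]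
  let f : A s τ →* A s τ := ((A s τ).normalizerMonoidHom ⟨_, hu⟩).toMonoidHom
  have hf : ∀ x : A s τ, (f x : G) = w * y * x * (w * y)⁻¹ := fun _ => rfl
  obtain ⟨m, hm⟩ := act h hy
  have hf' : ∀ x : A s τ, (f x : G) = (w * x * w⁻¹) ^ (3 * m + 1) := fun x => by
    rw [hf, conj_pow, ← hm _ x.2]; group
  have hp : ∀ (H : Subgroup (A s τ)) (x : A s τ), x ^ (3 * m + 1) ∈ H → x ∈ H := fun H x hx => by
    have := pow_mem hx ((3 * m + 1) * (3 * m + 1))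
    rwa [← pow_mul, show (3 * m + 1) * ((3 * m + 1) * (3 * m + 1)) = 9 * (3 * m ^ 3 + 3 * m ^ 2 + m) + 1 by ring,
      pow_succ, pow_mul, show x ^ 9 = 1 from Subtype.ext (nine h x.2), one_pow, one_mul] at this
  have hv : s.v⁻¹ * τ * s.v⁻¹⁻¹ = s.v * (s.v * τ * s.v⁻¹) * s.v⁻¹ := by
    nth_rw 1 [← v3 (s := s) τ]; group
  have e1 : f ⟨τ, m1⟩ = ⟨_, m2⟩ ^ (3 * m + 1) ∧ f (f ⟨τ, m1⟩) = (⟨_, m3⟩ ^ (3 * m + 1)) ^ (3 * m + 1) ∨
      f ⟨τ, m1⟩ = ⟨_, m3⟩ ^ (3 * m + 1) ∧ f (f ⟨τ, m1⟩) = (⟨_, m2⟩ ^ (3 * m + 1)) ^ (3 * m + 1) := by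
    rcases hw with rfl | rfl
    · have k : f ⟨τ, m1⟩ = ⟨_, m2⟩ ^ (3 * m + 1) := Subtype.ext (hf' _)
      exact Or.inl ⟨k, by rw [k, map_pow]; exact congrArg (· ^ (3 * m + 1)) (Subtype.ext (hf' _))⟩
    · have k : f ⟨τ, m1⟩ = ⟨_, m3⟩ ^ (3 * m + 1) := Subtype.ext ((hf' _).trans (congrArg (· ^ (3 * m + 1)) hv))
      refine Or.inr ⟨k, ?_⟩
      rw [k, map_pow]
      exact congrArg (· ^ (3 * m + 1)) (Subtype.ext ((hf' _).trans (congrArg (· ^ (3 * m + 1)) (by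
        change s.v⁻¹ * (s.v * (s.v * τ * s.v⁻¹) * s.v⁻¹) * s.v⁻¹⁻¹ = s.v * τ * s.v⁻¹
        group))))
  obtain ⟨t, ht⟩ := free3 f (fun x => Subtype.ext (by
      rw [hf, hf, hf]
      calc _ = (w * y) ^ 3 * x * ((w * y) ^ 3)⁻¹ := by simp only [pow_succ, pow_zero]; group
        _ = _ := by rw [hu3]; group)) (τ := ⟨τ, m1⟩) (fun H a1 a2 a3 => by
      have k : (⟨_, m2⟩ : A s τ) ∈ H ∧ (⟨_, m3⟩ : A s τ) ∈ H := by
        rcases e1 with ⟨b1, b2⟩ | ⟨b1, b2⟩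
        · exact ⟨hp H _ (b1 ▸ a2), hp H _ (hp H _ (b2 ▸ a3))⟩
        · exact ⟨hp H _ (hp H _ (b2 ▸ a3)), hp H _ (b1 ▸ a2)⟩
      have k2 : A s τ ≤ H.map (A s τ).subtype := clos_le.2 (by
        simp only [List.forall_mem_cons, List.not_mem_nil, false_imp_iff, implies_true, and_true]
        exact ⟨⟨_, a1, rfl⟩, ⟨_, k.1, rfl⟩, ⟨_, k.2, rfl⟩⟩)
      refine top_unique fun x _ => ?_
      obtain ⟨z, hz, e⟩ := k2 x.2
      exact (Subtype.ext e : z = x) ▸ hz) (fun n hn => by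
      have c2 : Commute s.d1 (s.v * τ * s.v⁻¹) := h.d12
      have c3 : Commute s.d1 (s.v * (s.v * τ * s.v⁻¹) * s.v⁻¹) := h.d13
      have k : Commute s.d1 ((f ⟨τ, m1⟩ ^ n * f (f ⟨τ, m1⟩) ^ n : A s τ) : G) := by
        rcases e1 with ⟨b1, b2⟩ | ⟨b1, b2⟩ <;> rw [b2, b1]
        · exact ((c2.pow_right _).zpow_right n).mul_right (((c3.pow_right _).pow_right _).zpow_right n)
        · exact ((c3.pow_right _).zpow_right n).mul_right (((c2.pow_right _).pow_right _).zpow_right n)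
      rw [eq_inv_of_mul_eq_one_right hn] at k
      have k2 : s.d1 * τ ^ n * s.d1⁻¹ = τ ^ n := mul_inv_eq_iff_eq_mul.2 (Commute.inv_right_iff.1 k).eq
      rw [← conj_zpow, h.d1, inv_zpow, inv_eq_iff_mul_eq_one] at k2
      have k3 := nine h (zpow_mem (m1 (s := s) (τ := τ)) n)
      rw [show 9 = 2 * 4 + 1 from rfl, pow_succ, pow_mul, pow_two, k2, one_pow, one_mul] at k3
      exact Subtype.ext k3) (a := ⟨a, ha⟩) (Subtype.ext (by
      change a * ((f ⟨a, ha⟩ : G) * (f (f ⟨a, ha⟩) : G)) = 1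
      rw [hf (f ⟨a, ha⟩), hf, ← h3]
      calc _ = a * (w * y * a * (w * y)⁻¹ * (w * y * (w * y * a * (w * y)⁻¹) * (w * y)⁻¹)) * (w * y) ^ 3 := by
            rw [hu3, mul_one]
        _ = _ := by simp only [pow_succ, pow_zero]; group))
  have ht' : (t : G) * a * (w * y * t * (w * y)⁻¹)⁻¹ = 1 := congrArg Subtype.val ht
  refine ⟨t, ?_⟩
  calc _ = (t : G) * a * (w * y * t * (w * y)⁻¹)⁻¹ * (w * y) := by group
    _ = _ := by rw [ht', one_mul]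

theorem fus {g : G} (hg : g * c * g⁻¹ ∈ S s c τ) : g * c * g⁻¹ * c⁻¹ ∈ T s τ := by
  obtain ⟨a, ha, w, hw, y, hy, e⟩ := mem_S h hg
  have h3 : (a * w * y) ^ 3 = 1 := by rw [← e, conj_pow, c3 h]; group
  rcases zp3 (vy _).2.2.2.2 hw with rfl | hw'
  · rw [mul_one] at e h3
    exact mem_sup_left (B0_le h (fusJ h (e ▸ mem_J h ha hy h3)))
  obtain ⟨t, ht⟩ := split h ha hw' hy h3
  have hL : w ∈ s.L := zpowers_le.2 s.vL hw
  obtain ⟨l, hl, h1⟩ := s.conj_three hL (by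
    rcases hw' with rfl | rfl
    exacts [(vy _).2.2.2.2, by rw [inv_pow, (vy _).2.2.2.2, inv_one]])
  have h2 : l * t * g * c * (l * t * g)⁻¹ = l * w * l⁻¹ * y := by
    calc _ = l * (t * (g * c * g⁻¹) * t⁻¹) * l⁻¹ := by group
      _ = _ := by rw [e, ht, mul_assoc _ l⁻¹, cL h hy (inv_mem hl)]; group
  have h4 := fusJ h (h2 ▸ mul_mem (s.B0_le_J h1) (cJ h hy))
  rw [h2, mul_assoc, mul_mem_cancel_left h1] at h4
  have h5 : y * c⁻¹ = 1 := by
    rcases zp3 s.b_pow (zpowers_le.2 (cb h) (mul_mem hy (inv_mem (mem_zpowers c)))) with k | k | k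
    · exact k
    · exact (s.b_not_L (k ▸ s.B0_le h4)).elim
    · exact (s.b_not_L (inv_mem_iff.1 (k ▸ s.B0_le h4))).elim
  rw [e, mul_assoc, h5, mul_one]
  exact mul_mem (mem_sup_left ha) (mem_sup_right hw)

end main

end AfB

open AfB in
theorem Bs.A9.false {s : Bs G} {c τ : G} (h : s.A9 c τ) (gl : Gl G) : False := by
  obtain ⟨c, τ, h⟩ := AfA.a9d (af h) gl
  obtain ⟨N, h1, h2⟩ := tr3 (syl h) (sup_le le_normalizer (c_normT h)) (mem_sup_right (mem_zpowers c)) (c3 h)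
    (fun x hx => (Loc.Mss.mem_sup_norm (c_normT h)).1 hx) (c_notMem h) fun g => AfB.fus h
  exact gl.o3 N h1 h2

end Cfsg.Agent.S8
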