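import Mathlib
import Cfsg.Agent.S8.Defs
import Cfsg.Agent.Rec.Wit

/-! Certificates for the involution classes of `Sp₈(2)`. -/

set_option autoImplicit false
set_option maxRecDepth 100000
set_option exponentiation.threshold 100000

namespace Cfsg.Agent.S8.BC

open Cfsg.Agent.Spor Cfsg.Agent.Rec

noncomputable def bcV_t : ST :=
(.node (nat_lit 0x80c020100c040201) (.node (nat_lit 0x8040a0100a040201) (.node (nat_lit 0x8040209009040201) (.node (nat_lit 0x8040201088040201) (.node (nat_lit 0x8040201048840201) (.node (nat_lit 0x8040201028048201) (.node (nat_lit 0x8040201018040281) (.leaf (nat_lit 0x8040201008040201) (nat_lit 0))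
 (.leaf (nat_lit 0x8040201018040281) (nat_lit 513))
) (.node (nat_lit 0x8040201038048281) (.leaf (nat_lit 0x8040201028048201) (nat_lit 515))
 (.leaf (nat_lit 0x8040201038048281) (nat_lit 515))
)) (.node (nat_lit 0x8040201068848201) (.node (nat_lit 0x8040201058840281) (.leaf (nat_lit 0x8040201048840201) (nat_lit 517))
 (.leaf (nat_lit 0x8040201058840281) (nat_lit 517))
) (.node (nat_lit 0x8040201078848281) (.leaf (nat_lit 0x8040201068848201) (nat_lit 517))
 (.leaf (nat_lit 0x8040201078848281) (nat_lit 1029))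
))) (.node (nat_lit 0x80402010c8840201) (.node (nat_lit 0x80402010a8048201) (.node (nat_lit 0x8040201098040281) (.leaf (nat_lit 0x8040201088040201) (nat_lit 256))
 (.leaf (nat_lit 0x8040201098040281) (nat_lit 257))
) (.node (nat_lit 0x80402010b8048281) (.leaf (nat_lit 0x80402010a8048201) (nat_lit 259))
 (.leaf (nat_lit 0x80402010b8048281) (nat_lit 771))
)) (.node (nat_lit 0x80402010e8848201) (.node (nat_lit 0x80402010d8840281) (.leaf (nat_lit 0x80402010c8840201) (nat_lit 261))
 (.leaf (nat_lit 0x80402010d8840281) (nat_lit 773))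
) (.node (nat_lit 0x80402010f8848281) (.leaf (nat_lit 0x80402010e8848201) (nat_lit 773))
 (.leaf (nat_lit 0x80402010f8848281) (nat_lit 773))
)))) (.node (nat_lit 0x8040209089040201) (.node (nat_lit 0x8040209049840201) (.node (nat_lit 0x8040209029048201) (.node (nat_lit 0x8040209019040281) (.leaf (nat_lit 0x8040209009040201) (nat_lit 770))
 (.leaf (nat_lit 0x8040209019040281) (nat_lit 514))
) (.node (nat_lit 0x8040209039048281) (.leaf (nat_lit 0x8040209029048201) (nat_lit 771))
 (.leaf (nat_lit 0x8040209039048281) (nat_lit 515))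
)) (.node (nat_lit 0x8040209069848201) (.node (nat_lit 0x8040209059840281) (.leaf (nat_lit 0x8040209049840201) (nat_lit 773))
 (.leaf (nat_lit 0x8040209059840281) (nat_lit 517))
) (.node (nat_lit 0x8040209079848281) (.leaf (nat_lit 0x8040209069848201) (nat_lit 1285))
 (.leaf (nat_lit 0x8040209079848281) (nat_lit 1029))
))) (.node (nat_lit 0x80402090c9840201) (.node (nat_lit 0x80402090a9048201) (.node (nat_lit 0x8040209099040281) (.leaf (nat_lit 0x8040209089040201) (nat_lit 514))
 (.leaf (nat_lit 0x8040209099040281) (nat_lit 258))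
) (.node (nat_lit 0x80402090b9048281) (.leaf (nat_lit 0x80402090a9048201) (nat_lit 1027))
 (.leaf (nat_lit 0x80402090b9048281) (nat_lit 771))
)) (.node (nat_lit 0x80402090e9848201) (.node (nat_lit 0x80402090d9840281) (.leaf (nat_lit 0x80402090c9840201) (nat_lit 1029))
 (.leaf (nat_lit 0x80402090d9840281) (nat_lit 773))
) (.node (nat_lit 0x80402090f9848281) (.leaf (nat_lit 0x80402090e9848201) (nat_lit 1029))
 (.leaf (nat_lit 0x80402090f9848281) (nat_lit 773))
))))) (.node (nat_lit 0x8040a0900b040201) (.node (nat_lit 0x8040a0108a040201) (.node (nat_lit 0x8040a0104a840201) (.node (nat_lit 0x8040a0102a048201) (.node (nat_lit 0x8040a0101a040281) (.leaf (nat_lit 0x8040a0100a040201) (nat_lit 772))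
 (.leaf (nat_lit 0x8040a0101a040281) (nat_lit 772))
) (.node (nat_lit 0x8040a0103a048281) (.leaf (nat_lit 0x8040a0102a048201) (nat_lit 516))
 (.leaf (nat_lit 0x8040a0103a048281) (nat_lit 516))
)) (.node (nat_lit 0x8040a0106a848201) (.node (nat_lit 0x8040a0105a840281) (.leaf (nat_lit 0x8040a0104a840201) (nat_lit 773))
 (.leaf (nat_lit 0x8040a0105a840281) (nat_lit 1285))
) (.node (nat_lit 0x8040a0107a848281) (.leaf (nat_lit 0x8040a0106a848201) (nat_lit 517))
 (.leaf (nat_lit 0x8040a0107a848281) (nat_lit 1029))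
))) (.node (nat_lit 0x8040a010ca840201) (.node (nat_lit 0x8040a010aa048201) (.node (nat_lit 0x8040a0109a040281) (.leaf (nat_lit 0x8040a0108a040201) (nat_lit 516))
 (.leaf (nat_lit 0x8040a0109a040281) (nat_lit 1028))
) (.node (nat_lit 0x8040a010ba048281) (.leaf (nat_lit 0x8040a010aa048201) (nat_lit 260))
 (.leaf (nat_lit 0x8040a010ba048281) (nat_lit 772))
)) (.node (nat_lit 0x8040a010ea848201) (.node (nat_lit 0x8040a010da840281) (.leaf (nat_lit 0x8040a010ca840201) (nat_lit 1029))
 (.leaf (nat_lit 0x8040a010da840281) (nat_lit 1029))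
) (.node (nat_lit 0x8040a010fa848281) (.leaf (nat_lit 0x8040a010ea848201) (nat_lit 773))
 (.leaf (nat_lit 0x8040a010fa848281) (nat_lit 773))
)))) (.node (nat_lit 0x8040a0908b040201) (.node (nat_lit 0x8040a0904b840201) (.node (nat_lit 0x8040a0902b048201) (.node (nat_lit 0x8040a0901b040281) (.leaf (nat_lit 0x8040a0900b040201) (nat_lit 1028))
 (.leaf (nat_lit 0x8040a0901b040281) (nat_lit 772))
) (.node (nat_lit 0x8040a0903b048281) (.leaf (nat_lit 0x8040a0902b048201) (nat_lit 772))
 (.leaf (nat_lit 0x8040a0903b048281) (nat_lit 516))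
)) (.node (nat_lit 0x8040a0906b848201) (.node (nat_lit 0x8040a0905b840281) (.leaf (nat_lit 0x8040a0904b840201) (nat_lit 1541))
 (.leaf (nat_lit 0x8040a0905b840281) (nat_lit 1285))
) (.node (nat_lit 0x8040a0907b848281) (.leaf (nat_lit 0x8040a0906b848201) (nat_lit 1285))
 (.leaf (nat_lit 0x8040a0907b848281) (nat_lit 1029))
))) (.node (nat_lit 0x8040a090cb840201) (.node (nat_lit 0x8040a090ab048201) (.node (nat_lit 0x8040a0909b040281) (.leaf (nat_lit 0x8040a0908b040201) (nat_lit 1284))
 (.leaf (nat_lit 0x8040a0909b040281) (nat_lit 1028))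
) (.node (nat_lit 0x8040a090bb048281) (.leaf (nat_lit 0x8040a090ab048201) (nat_lit 1028))
 (.leaf (nat_lit 0x8040a090bb048281) (nat_lit 772))
)) (.node (nat_lit 0x8040a090eb848201) (.node (nat_lit 0x8040a090db840281) (.leaf (nat_lit 0x8040a090cb840201) (nat_lit 1285))
 (.leaf (nat_lit 0x8040a090db840281) (nat_lit 1029))
) (.node (nat_lit 0x8040a090fb848281) (.leaf (nat_lit 0x8040a090eb848201) (nat_lit 1029))
 (.leaf (nat_lit 0x8040a090fb848281) (nat_lit 773))
)))))) (.node (nat_lit 0x80c0a0100e040201) (.node (nat_lit 0x80c020900d040201) (.node (nat_lit 0x80c020108c040201) (.node (nat_lit 0x80c020104c840201) (.node (nat_lit 0x80c020102c048201) (.node (nat_lit 0x80c020101c040281) (.leaf (nat_lit 0x80c020100c040201) (nat_lit 774))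
 (.leaf (nat_lit 0x80c020101c040281) (nat_lit 774))
) (.node (nat_lit 0x80c020103c048281) (.leaf (nat_lit 0x80c020102c048201) (nat_lit 774))
 (.leaf (nat_lit 0x80c020103c048281) (nat_lit 1286))
)) (.node (nat_lit 0x80c020106c848201) (.node (nat_lit 0x80c020105c840281) (.leaf (nat_lit 0x80c020104c840201) (nat_lit 518))
 (.leaf (nat_lit 0x80c020105c840281) (nat_lit 518))
) (.node (nat_lit 0x80c020107c848281) (.leaf (nat_lit 0x80c020106c848201) (nat_lit 518))
 (.leaf (nat_lit 0x80c020107c848281) (nat_lit 1030))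
))) (.node (nat_lit 0x80c02010cc840201) (.node (nat_lit 0x80c02010ac048201) (.node (nat_lit 0x80c020109c040281) (.leaf (nat_lit 0x80c020108c040201) (nat_lit 518))
 (.leaf (nat_lit 0x80c020109c040281) (nat_lit 1030))
) (.node (nat_lit 0x80c02010bc048281) (.leaf (nat_lit 0x80c02010ac048201) (nat_lit 1030))
 (.leaf (nat_lit 0x80c02010bc048281) (nat_lit 1030))
)) (.node (nat_lit 0x80c02010ec848201) (.node (nat_lit 0x80c02010dc840281) (.leaf (nat_lit 0x80c02010cc840201) (nat_lit 262))
 (.leaf (nat_lit 0x80c02010dc840281) (nat_lit 774))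
) (.node (nat_lit 0x80c02010fc848281) (.leaf (nat_lit 0x80c02010ec848201) (nat_lit 774))
 (.leaf (nat_lit 0x80c02010fc848281) (nat_lit 774))
)))) (.node (nat_lit 0x80c020908d040201) (.node (nat_lit 0x80c020904d840201) (.node (nat_lit 0x80c020902d048201) (.node (nat_lit 0x80c020901d040281) (.leaf (nat_lit 0x80c020900d040201) (nat_lit 1030))
 (.leaf (nat_lit 0x80c020901d040281) (nat_lit 774))
) (.node (nat_lit 0x80c020903d048281) (.leaf (nat_lit 0x80c020902d048201) (nat_lit 1542))
 (.leaf (nat_lit 0x80c020903d048281) (nat_lit 1286))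
)) (.node (nat_lit 0x80c020906d848201) (.node (nat_lit 0x80c020905d840281) (.leaf (nat_lit 0x80c020904d840201) (nat_lit 774))
 (.leaf (nat_lit 0x80c020905d840281) (nat_lit 518))
) (.node (nat_lit 0x80c020907d848281) (.leaf (nat_lit 0x80c020906d848201) (nat_lit 1286))
 (.leaf (nat_lit 0x80c020907d848281) (nat_lit 1030))
))) (.node (nat_lit 0x80c02090cd840201) (.node (nat_lit 0x80c02090ad048201) (.node (nat_lit 0x80c020909d040281) (.leaf (nat_lit 0x80c020908d040201) (nat_lit 1286))
 (.leaf (nat_lit 0x80c020909d040281) (nat_lit 1030))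
) (.node (nat_lit 0x80c02090bd048281) (.leaf (nat_lit 0x80c02090ad048201) (nat_lit 1286))
 (.leaf (nat_lit 0x80c02090bd048281) (nat_lit 1030))
)) (.node (nat_lit 0x80c02090ed848201) (.node (nat_lit 0x80c02090dd840281) (.leaf (nat_lit 0x80c02090cd840201) (nat_lit 1030))
 (.leaf (nat_lit 0x80c02090dd840281) (nat_lit 774))
) (.node (nat_lit 0x80c02090fd848281) (.leaf (nat_lit 0x80c02090ed848201) (nat_lit 1030))
 (.leaf (nat_lit 0x80c02090fd848281) (nat_lit 774))
))))) (.node (nat_lit 0x80c0a0900f040201) (.node (nat_lit 0x80c0a0108e040201) (.node (nat_lit 0x80c0a0104e840201) (.node (nat_lit 0x80c0a0102e048201) (.node (nat_lit 0x80c0a0101e040281) (.leaf (nat_lit 0x80c0a0100e040201) (nat_lit 1030))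
 (.leaf (nat_lit 0x80c0a0101e040281) (nat_lit 1542))
) (.node (nat_lit 0x80c0a0103e048281) (.leaf (nat_lit 0x80c0a0102e048201) (nat_lit 774))
 (.leaf (nat_lit 0x80c0a0103e048281) (nat_lit 1286))
)) (.node (nat_lit 0x80c0a0106e848201) (.node (nat_lit 0x80c0a0105e840281) (.leaf (nat_lit 0x80c0a0104e840201) (nat_lit 774))
 (.leaf (nat_lit 0x80c0a0105e840281) (nat_lit 1286))
) (.node (nat_lit 0x80c0a0107e848281) (.leaf (nat_lit 0x80c0a0106e848201) (nat_lit 518))
 (.leaf (nat_lit 0x80c0a0107e848281) (nat_lit 1030))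
))) (.node (nat_lit 0x80c0a010ce840201) (.node (nat_lit 0x80c0a010ae048201) (.node (nat_lit 0x80c0a0109e040281) (.leaf (nat_lit 0x80c0a0108e040201) (nat_lit 1286))
 (.leaf (nat_lit 0x80c0a0109e040281) (nat_lit 1286))
) (.node (nat_lit 0x80c0a010be048281) (.leaf (nat_lit 0x80c0a010ae048201) (nat_lit 1030))
 (.leaf (nat_lit 0x80c0a010be048281) (nat_lit 1030))
)) (.node (nat_lit 0x80c0a010ee848201) (.node (nat_lit 0x80c0a010de840281) (.leaf (nat_lit 0x80c0a010ce840201) (nat_lit 1030))
 (.leaf (nat_lit 0x80c0a010de840281) (nat_lit 1030))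
) (.node (nat_lit 0x80c0a010fe848281) (.leaf (nat_lit 0x80c0a010ee848201) (nat_lit 774))
 (.leaf (nat_lit 0x80c0a010fe848281) (nat_lit 774))
)))) (.node (nat_lit 0x80c0a0908f040201) (.node (nat_lit 0x80c0a0904f840201) (.node (nat_lit 0x80c0a0902f048201) (.node (nat_lit 0x80c0a0901f040281) (.leaf (nat_lit 0x80c0a0900f040201) (nat_lit 1798))
 (.leaf (nat_lit 0x80c0a0901f040281) (nat_lit 1542))
) (.node (nat_lit 0x80c0a0903f048281) (.leaf (nat_lit 0x80c0a0902f048201) (nat_lit 1542))
 (.leaf (nat_lit 0x80c0a0903f048281) (nat_lit 1286))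
)) (.node (nat_lit 0x80c0a0906f848201) (.node (nat_lit 0x80c0a0905f840281) (.leaf (nat_lit 0x80c0a0904f840201) (nat_lit 1542))
 (.leaf (nat_lit 0x80c0a0905f840281) (nat_lit 1286))
) (.node (nat_lit 0x80c0a0907f848281) (.leaf (nat_lit 0x80c0a0906f848201) (nat_lit 1286))
 (.leaf (nat_lit 0x80c0a0907f848281) (nat_lit 1030))
))) (.node (nat_lit 0x80c0a090cf840201) (.node (nat_lit 0x80c0a090af048201) (.node (nat_lit 0x80c0a0909f040281) (.leaf (nat_lit 0x80c0a0908f040201) (nat_lit 1542))
 (.leaf (nat_lit 0x80c0a0909f040281) (nat_lit 1286))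
) (.node (nat_lit 0x80c0a090bf048281) (.leaf (nat_lit 0x80c0a090af048201) (nat_lit 1286))
 (.leaf (nat_lit 0x80c0a090bf048281) (nat_lit 1030))
)) (.node (nat_lit 0x80c0a090ef848201) (.node (nat_lit 0x80c0a090df840281) (.leaf (nat_lit 0x80c0a090cf840201) (nat_lit 1286))
 (.leaf (nat_lit 0x80c0a090df840281) (nat_lit 1030))
) (.node (nat_lit 0x80c0a090ff848281) (.leaf (nat_lit 0x80c0a090ef848201) (nat_lit 1030))
 (.leaf (nat_lit 0x80c0a090ff848281) (nat_lit 774))
)))))))

theorem bcV_ok : genOK B8.A [(nat_lit 0x8040201088040201), (nat_lit 0x8040201098040281), (nat_lit 0x8040209099040281), (nat_lit 0x80402010a8048201), (nat_lit 0x8040a010aa048201), (nat_lit 0x80402010c8840201), (nat_lit 0x80c02010cc840201)] bcV_t (nat_lit 128) = true := by decide +kernel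

noncomputable def bcB_t : ST :=
(.node (nat_lit 0x8040033308042132) (.node (nat_lit 0x7dbd20edf5f93231) (.node (nat_lit 0xccc201084c80201) (.node (nat_lit 0xa40aa108204a801) (.leaf (nat_lit 0x840201088040201) (nat_lit 0))
 (.leaf (nat_lit 0xa40aa108204a801) (nat_lit 1546))
) (.node (nat_lit 0x2a408a10a204329b) (.leaf (nat_lit 0xccc201084c80201) (nat_lit 1800))
 (.node (nat_lit 0x6dad20fde5e932dc) (.leaf (nat_lit 0x2a408a10a204329b) (nat_lit 1546))
 (.leaf (nat_lit 0x6dad20fde5e932dc) (nat_lit 1803))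
))) (.node (nat_lit 0x8006661008426401) (.node (nat_lit 0x8004201008440201) (.leaf (nat_lit 0x7dbd20edf5f93231) (nat_lit 2052))
 (.leaf (nat_lit 0x8004201008440201) (nat_lit 266))
) (.node (nat_lit 0x8026461008623257) (.leaf (nat_lit 0x8006661008426401) (nat_lit 1288))
 (.node (nat_lit 0x8040021008042201) (.leaf (nat_lit 0x8026461008623257) (nat_lit 1291))
 (.leaf (nat_lit 0x8040021008042201) (nat_lit 776))
)))) (.node (nat_lit 0x8040321008043013) (.node (nat_lit 0x8040201108043330) (.node (nat_lit 0x8040200108040211) (.leaf (nat_lit 0x8040033308042132) (nat_lit 1025))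
 (.leaf (nat_lit 0x8040200108040211) (nat_lit 520))
) (.node (nat_lit 0x8040203108042330) (.leaf (nat_lit 0x8040201108043330) (nat_lit 1280))
 (.node (nat_lit 0x8040203108043210) (.leaf (nat_lit 0x8040203108042330) (nat_lit 780))
 (.leaf (nat_lit 0x8040203108043210) (nat_lit 1024))
))) (.node (nat_lit 0xdb407b4bd35f025a) (.node (nat_lit 0x8064201008602601) (.leaf (nat_lit 0x8040321008043013) (nat_lit 1036))
 (.node (nat_lit 0xa8402010a0042a01) (.leaf (nat_lit 0x8064201008602601) (nat_lit 1288))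
 (.leaf (nat_lit 0xa8402010a0042a01) (nat_lit 1546))
)) (.node (nat_lit 0xdf1f7f4fd75b025e) (.leaf (nat_lit 0xdb407b4bd35f025a) (nat_lit 1803))
 (.node (nat_lit 0xf9402069f17d7b78) (.leaf (nat_lit 0xdf1f7f4fd75b025e) (nat_lit 2050))
 (.leaf (nat_lit 0xf9402069f17d7b78) (nat_lit 2049))
)))))

theorem bcB_ok : bcB_t.all2 (witLeaf B8.A c8 (nat_lit 0x840201088040201) bcB_t) = true := by decide +kernel

noncomputable def bcA_t : ST :=
(.node (nat_lit 0x80c010204c840102) (.node (nat_lit 0x804090a07b848182) (.node (nat_lit 0x8040102078848182) (.leaf (nat_lit 0x8040102048840102) (nat_lit 0))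
 (.node (nat_lit 0x804090a04b840102) (.leaf (nat_lit 0x8040102078848182) (nat_lit 267))
 (.leaf (nat_lit 0x804090a04b840102) (nat_lit 1291))
)) (.node (nat_lit 0x80c010200c040102) (.leaf (nat_lit 0x804090a07b848182) (nat_lit 1026))
 (.node (nat_lit 0x80c010203c048182) (.leaf (nat_lit 0x80c010200c040102) (nat_lit 514))
 (.leaf (nat_lit 0x80c010203c048182) (nat_lit 770))
))) (.node (nat_lit 0x80c090a03f048182) (.node (nat_lit 0x80c010207c848182) (.leaf (nat_lit 0x80c010204c840102) (nat_lit 258))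
 (.node (nat_lit 0x80c090a00f040102) (.leaf (nat_lit 0x80c010207c848182) (nat_lit 514))
 (.leaf (nat_lit 0x80c090a00f040102) (nat_lit 1794))
)) (.node (nat_lit 0x80c090a04f840102) (.leaf (nat_lit 0x80c090a03f048182) (nat_lit 770))
 (.node (nat_lit 0x80c090a07f848182) (.leaf (nat_lit 0x80c090a04f840102) (nat_lit 1538))
 (.leaf (nat_lit 0x80c090a07f848182) (nat_lit 523))
))))

theorem bcA_ok : bcA_t.all2 (witLeaf B8.A c8 (nat_lit 0x8040102048840102) bcA_t) = true := by decide +kernel

noncomputable def bcC_t : ST :=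
(.node (nat_lit 0x80402010d8842291) (.node (nat_lit 0x8014a0100a500245) (.node (nat_lit 0x48401122c08c0102) (.node (nat_lit 0x4080201004082211) (.node (nat_lit 0x1840601090060289) (.node (nat_lit 0x1040228051d402c8) (.leaf (nat_lit 0x1040208001442208) (nat_lit 1800))
 (.node (nat_lit 0x1820401090020489) (.leaf (nat_lit 0x1040228051d402c8) (nat_lit 1800))
 (.leaf (nat_lit 0x1820401090020489) (nat_lit 520))
)) (.node (nat_lit 0x2014801002500845) (.leaf (nat_lit 0x1840601090060289) (nat_lit 1544))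
 (.node (nat_lit 0x20148010325098e5) (.leaf (nat_lit 0x2014801002500845) (nat_lit 778))
 (.leaf (nat_lit 0x20148010325098e5) (nat_lit 1036))
))) (.node (nat_lit 0x4080202104081330) (.node (nat_lit 0x4080201104082201) (.leaf (nat_lit 0x4080201004082211) (nat_lit 1536))
 (.node (nat_lit 0x4080201164a8e201) (.leaf (nat_lit 0x4080201104082201) (nat_lit 1292))
 (.leaf (nat_lit 0x4080201164a8e201) (nat_lit 1548))
)) (.node (nat_lit 0x48401020c08c0102) (.node (nat_lit 0x4080202164a8d330) (.leaf (nat_lit 0x4080202104081330) (nat_lit 1032))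
 (.leaf (nat_lit 0x4080202164a8d330) (nat_lit 1288))
) (.node (nat_lit 0x48401102c08c1022) (.leaf (nat_lit 0x48401020c08c0102) (nat_lit 259))
 (.leaf (nat_lit 0x48401102c08c1022) (nat_lit 515))
)))) (.node (nat_lit 0x7a408922f28c99a8) (.node (nat_lit 0x4a40b912c28c0203) (.node (nat_lit 0x48402030c08c0301) (.leaf (nat_lit 0x48401122c08c0102) (nat_lit 773))
 (.node (nat_lit 0x48402112c08c0201) (.leaf (nat_lit 0x48402030c08c0301) (nat_lit 1281))
 (.leaf (nat_lit 0x48402112c08c0201) (nat_lit 1036))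
)) (.node (nat_lit 0x68402030e08c9b21) (.node (nat_lit 0x58406010d0ae4289) (.leaf (nat_lit 0x4a40b912c28c0203) (nat_lit 1036))
 (.leaf (nat_lit 0x58406010d0ae4289) (nat_lit 1544))
) (.node (nat_lit 0x78401020f08c898a) (.leaf (nat_lit 0x68402030e08c9b21) (nat_lit 1281))
 (.leaf (nat_lit 0x78401020f08c898a) (nat_lit 523))
))) (.node (nat_lit 0x80102040a8118244) (.node (nat_lit 0x8010204078f1f2f4) (.leaf (nat_lit 0x7a408922f28c99a8) (nat_lit 769))
 (.node (nat_lit 0x8010204088012204) (.leaf (nat_lit 0x8010204078f1f2f4) (nat_lit 779))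
 (.leaf (nat_lit 0x8010204088012204) (nat_lit 2058))
)) (.node (nat_lit 0x80102240d89102c4) (.node (nat_lit 0x80102040a821d224) (.leaf (nat_lit 0x80102040a8118244) (nat_lit 776))
 (.leaf (nat_lit 0x80102040a821d224) (nat_lit 1036))
) (.node (nat_lit 0x801120f579e1f3b5) (.leaf (nat_lit 0x80102240d89102c4) (nat_lit 2058))
 (.leaf (nat_lit 0x801120f579e1f3b5) (nat_lit 1024))
))))) (.node (nat_lit 0x80401020c8b46152) (.node (nat_lit 0x8040102078f4e1d2) (.node (nat_lit 0x8030206058c117b4) (.node (nat_lit 0x8020401098224481) (.leaf (nat_lit 0x8014a0100a500245) (nat_lit 1802))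
 (.node (nat_lit 0x802120c549d11660) (.leaf (nat_lit 0x8020401098224481) (nat_lit 520))
 (.leaf (nat_lit 0x802120c549d11660) (nat_lit 1292))
)) (.node (nat_lit 0x8040102048c40102) (.node (nat_lit 0x80400122c8841120) (.leaf (nat_lit 0x8030206058c117b4) (nat_lit 1536))
 (.leaf (nat_lit 0x80400122c8841120) (nat_lit 257))
) (.node (nat_lit 0x8040102078c48182) (.leaf (nat_lit 0x8040102048c40102) (nat_lit 266))
 (.leaf (nat_lit 0x8040102078c48182) (nat_lit 1546))
))) (.node (nat_lit 0x80401020b8448182) (.node (nat_lit 0x8040102078f4f1f2) (.leaf (nat_lit 0x8040102078f4e1d2) (nat_lit 772))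
 (.node (nat_lit 0x8040102088440102) (.leaf (nat_lit 0x8040102078f4f1f2) (nat_lit 523))
 (.leaf (nat_lit 0x8040102088440102) (nat_lit 2312))
)) (.node (nat_lit 0x80401020c8841122) (.node (nat_lit 0x80401020c8840102) (.leaf (nat_lit 0x80401020b8448182) (nat_lit 2818))
 (.leaf (nat_lit 0x80401020c8840102) (nat_lit 0))
) (.node (nat_lit 0x80401020c8b44142) (.leaf (nat_lit 0x80401020c8841122) (nat_lit 260))
 (.leaf (nat_lit 0x80401020c8b44142) (nat_lit 1288))
)))) (.node (nat_lit 0x8040201048842211) (.node (nat_lit 0x80401020f8b4e1d2) (.node (nat_lit 0x80401020c8b47172) (.leaf (nat_lit 0x80401020c8b46152) (nat_lit 1284))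
 (.node (nat_lit 0x80401020f8848182) (.leaf (nat_lit 0x80401020c8b47172) (nat_lit 1035))
 (.leaf (nat_lit 0x80401020f8848182) (nat_lit 267))
)) (.node (nat_lit 0x8040110248c41022) (.node (nat_lit 0x80401020f8b4f1f2) (.leaf (nat_lit 0x80401020f8b4e1d2) (nat_lit 1034))
 (.leaf (nat_lit 0x80401020f8b4f1f2) (nat_lit 778))
) (.node (nat_lit 0x80401102c8841022) (.leaf (nat_lit 0x8040110248c41022) (nat_lit 522))
 (.leaf (nat_lit 0x80401102c8841022) (nat_lit 256))
))) (.node (nat_lit 0x804020106884a211) (.node (nat_lit 0x8040201048d42251) (.leaf (nat_lit 0x8040201048842211) (nat_lit 2816))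
 (.node (nat_lit 0x8040201058842291) (.leaf (nat_lit 0x8040201048d42251) (nat_lit 2315))
 (.leaf (nat_lit 0x8040201058842291) (nat_lit 2315))
)) (.node (nat_lit 0x80402010983442c1) (.node (nat_lit 0x804020107884a291) (.leaf (nat_lit 0x804020106884a211) (nat_lit 2569))
 (.leaf (nat_lit 0x804020107884a291) (nat_lit 3072))
) (.node (nat_lit 0x80402010c8842211) (.leaf (nat_lit 0x80402010983442c1) (nat_lit 1537))
 (.leaf (nat_lit 0x80402010c8842211) (nat_lit 1291))
)))))) (.node (nat_lit 0x80c01020bc048182) (.node (nat_lit 0x804081a25bc411a0) (.node (nat_lit 0x80403112c8840203) (.node (nat_lit 0x8040201148842201) (.node (nat_lit 0x80402010e884a211) (.leaf (nat_lit 0x80402010d8842291) (nat_lit 2570))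
 (.node (nat_lit 0x80402010f884a291) (.leaf (nat_lit 0x80402010e884a211) (nat_lit 2825))
 (.leaf (nat_lit 0x80402010f884a291) (nat_lit 1547))
)) (.node (nat_lit 0x80402030c8841321) (.leaf (nat_lit 0x8040201148842201) (nat_lit 2562))
 (.node (nat_lit 0x804020916984a201) (.leaf (nat_lit 0x80402030c8841321) (nat_lit 769))
 (.leaf (nat_lit 0x804020916984a201) (nat_lit 2818))
))) (.node (nat_lit 0x8040601098264281) (.node (nat_lit 0x804050603827e192) (.leaf (nat_lit 0x80403112c8840203) (nat_lit 524))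
 (.node (nat_lit 0x80406010981602c1) (.leaf (nat_lit 0x804050603827e192) (nat_lit 1800))
 (.leaf (nat_lit 0x80406010981602c1) (nat_lit 1292))
)) (.node (nat_lit 0x804081227ac491a0) (.node (nat_lit 0x8040605078e7c281) (.leaf (nat_lit 0x8040601098264281) (nat_lit 1032))
 (.leaf (nat_lit 0x8040605078e7c281) (nat_lit 2058))
) (.node (nat_lit 0x80408122ba4491a0) (.leaf (nat_lit 0x804081227ac491a0) (nat_lit 1793))
 (.leaf (nat_lit 0x80408122ba4491a0) (nat_lit 3073))
)))) (.node (nat_lit 0x804090a0cb840102) (.node (nat_lit 0x804090a04bc40102) (.node (nat_lit 0x804081a29b4411a0) (.leaf (nat_lit 0x804081a25bc411a0) (nat_lit 2305))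
 (.node (nat_lit 0x804090a02b34e152) (.leaf (nat_lit 0x804081a29b4411a0) (nat_lit 3585))
 (.leaf (nat_lit 0x804090a02b34e152) (nat_lit 2058))
)) (.node (nat_lit 0x804090a08b440102) (.node (nat_lit 0x804090a07bc48182) (.leaf (nat_lit 0x804090a04bc40102) (nat_lit 2560))
 (.leaf (nat_lit 0x804090a07bc48182) (nat_lit 2048))
) (.node (nat_lit 0x804090a0bb448182) (.leaf (nat_lit 0x804090a08b440102) (nat_lit 3840))
 (.leaf (nat_lit 0x804090a0bb448182) (nat_lit 3328))
))) (.node (nat_lit 0x80441020b8048182) (.node (nat_lit 0x804090a0fb848182) (.leaf (nat_lit 0x804090a0cb840102) (nat_lit 1291))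
 (.node (nat_lit 0x8040a090ebb4c241) (.leaf (nat_lit 0x804090a0fb848182) (nat_lit 1026))
 (.leaf (nat_lit 0x8040a090ebb4c241) (nat_lit 1803))
)) (.node (nat_lit 0x8094a0106ed08245) (.node (nat_lit 0x80441020b80491a2) (.leaf (nat_lit 0x80441020b8048182) (nat_lit 2564))
 (.leaf (nat_lit 0x80441020b80491a2) (nat_lit 2312))
) (.node (nat_lit 0x80c010208c040102) (.leaf (nat_lit 0x8094a0106ed08245) (nat_lit 1802))
 (.leaf (nat_lit 0x80c010208c040102) (nat_lit 514))
))))) (.node (nat_lit 0x80c02010bc04a291) (.node (nat_lit 0x80c020104c842211) (.node (nat_lit 0x80c020100c042211) (.node (nat_lit 0x80c01020cc840102) (.leaf (nat_lit 0x80c01020bc048182) (nat_lit 770))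
 (.node (nat_lit 0x80c01020fc848182) (.leaf (nat_lit 0x80c01020cc840102) (nat_lit 258))
 (.leaf (nat_lit 0x80c01020fc848182) (nat_lit 514))
)) (.node (nat_lit 0x80c020102c04a211) (.node (nat_lit 0x80c020101c042291) (.leaf (nat_lit 0x80c020100c042211) (nat_lit 2560))
 (.leaf (nat_lit 0x80c020101c042291) (nat_lit 2818))
) (.node (nat_lit 0x80c020103c04a291) (.leaf (nat_lit 0x80c020102c04a211) (nat_lit 3074))
 (.leaf (nat_lit 0x80c020103c04a291) (nat_lit 2816))
))) (.node (nat_lit 0x80c020107c84a291) (.node (nat_lit 0x80c020105c842291) (.leaf (nat_lit 0x80c020104c842211) (nat_lit 3074))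
 (.node (nat_lit 0x80c020106c84a211) (.leaf (nat_lit 0x80c020105c842291) (nat_lit 2562))
 (.leaf (nat_lit 0x80c020106c84a211) (nat_lit 2818))
)) (.node (nat_lit 0x80c020109c042291) (.node (nat_lit 0x80c020108c042211) (.leaf (nat_lit 0x80c020107c84a291) (nat_lit 2560))
 (.leaf (nat_lit 0x80c020108c042211) (nat_lit 1794))
) (.node (nat_lit 0x80c02010ac04a211) (.leaf (nat_lit 0x80c020109c042291) (nat_lit 3074))
 (.leaf (nat_lit 0x80c02010ac04a211) (nat_lit 3330))
)))) (.node (nat_lit 0x80c020912d04a201) (.node (nat_lit 0x80c02010ec84a211) (.node (nat_lit 0x80c02010cc842211) (.leaf (nat_lit 0x80c02010bc04a291) (nat_lit 2050))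
 (.node (nat_lit 0x80c02010dc842291) (.leaf (nat_lit 0x80c02010cc842211) (nat_lit 1538))
 (.leaf (nat_lit 0x80c02010dc842291) (nat_lit 2818))
)) (.node (nat_lit 0x80c020110c042201) (.node (nat_lit 0x80c02010fc84a291) (.leaf (nat_lit 0x80c02010ec84a211) (nat_lit 3074))
 (.leaf (nat_lit 0x80c02010fc84a291) (nat_lit 1794))
) (.node (nat_lit 0x80c020210c041330) (.leaf (nat_lit 0x80c020110c042201) (nat_lit 2316))
 (.leaf (nat_lit 0x80c020210c041330) (nat_lit 2056))
))) (.node (nat_lit 0x80c090a08f040102) (.node (nat_lit 0x80c020916d84a201) (.leaf (nat_lit 0x80c020912d04a201) (nat_lit 2562))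
 (.node (nat_lit 0x80c020a15d8413b0) (.leaf (nat_lit 0x80c020916d84a201) (nat_lit 2316))
 (.leaf (nat_lit 0x80c020a15d8413b0) (nat_lit 2056))
)) (.node (nat_lit 0x80c090a0cf840102) (.node (nat_lit 0x80c090a0bf048182) (.leaf (nat_lit 0x80c090a08f040102) (nat_lit 1794))
 (.leaf (nat_lit 0x80c090a0bf048182) (nat_lit 770))
) (.node (nat_lit 0x80c090a0ff848182) (.leaf (nat_lit 0x80c090a0cf840102) (nat_lit 1538))
 (.leaf (nat_lit 0x80c090a0ff848182) (nat_lit 523))
)))))))

theorem bcC_ok : bcC_t.all2 (witLeaf B8.A c8 (nat_lit 0x80401020c8840102) bcC_t) = true := by decide +kernel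

end Cfsg.Agent.S8.BC
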