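import Mathlib
import Cfsg.Agent.S8.Loc
import Cfsg.Agent.F4T.LocC1

/-! Normalised letters for `W(B₄)` and `W(F₄)`. -/

set_option autoImplicit false
set_option linter.unusedSectionVars false
set_option synthInstance.maxSize 100000
set_option synthInstance.maxHeartbeats 1000000
set_option maxRecDepth 100000

namespace Cfsg.Agent.S8

open Cfsg.Agent.Spor Cfsg.Agent.Rec Cfsg.Agent.Inv.Fz Cfsg.Agent.T16 Cfsg.Agent.F4L Subgroup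

universe u

variable {G : Type u} [Group G] [Finite G]

namespace MtA

theorem cj_of {g x : G} (h : g * x = x * g) : g * x * g⁻¹ = x := mul_inv_eq_iff_eq_mul.2 h

theorem of_cj {g x : G} (h : g * x * g⁻¹ = x) : g * x = x * g := mul_inv_eq_iff_eq_mul.1 h

theorem sq_cj {g x y : G} (h : g * g = 1) (e : g * x * g⁻¹ = y) : g * y * g⁻¹ = x := by
  rw [← e]
  calc _ = g * g * x * (g * g)⁻¹ := by group
    _ = x := by rw [h]; simp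

/-- Transport of an action. -/
theorem tr {g k x y x' y' : G} (h : k * x * k⁻¹ = y) (hx : g * x * g⁻¹ = x') (hy : g * y * g⁻¹ = y') :
    g * k * g⁻¹ * x' * (g * k * g⁻¹)⁻¹ = y' := by
  rw [← hx, ← hy, ← h]; group

variable (s : Bs G)

theorem bcj {g : G} (hg : g ∈ s.L) : g * s.b * g⁻¹ = s.b := cj_of (s.bc g hg)

theorem eJ (i : ℕ) : nth 1 [s.e1, s.e2, s.e3, s.b] i ∈ s.J := nth_mem_clos _ i

theorem cenJ {g : G} (h : Ac g s.e1 s.e2 s.e3 s.b s.e1 s.e2 s.e3 s.b) : ∀ j ∈ s.J, g * j = j * g :=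
  commute_clos (by
    simp only [List.forall_mem_cons, List.not_mem_nil, false_imp_iff, implies_true, and_true]
    exact ⟨of_cj h.1, of_cj h.2.1, of_cj h.2.2.1, of_cj h.2.2.2⟩)

theorem normJ {g y1 y2 y3 y4 : G} (h : Ac g s.e1 s.e2 s.e3 s.b y1 y2 y3 y4) (h1 : y1 ∈ s.J) (h2 : y2 ∈ s.J)
    (h3 : y3 ∈ s.J) (h4 : y4 ∈ s.J) : g ∈ s.NJ :=
  mem_normalizer_of_conj_mem (conj_clos_mem (by
    simp only [List.forall_mem_cons, List.not_mem_nil, false_imp_iff, implies_true, and_true]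
    exact ⟨h.1 ▸ h1, h.2.1 ▸ h2, h.2.2.1 ▸ h3, h.2.2.2 ▸ h4⟩))

theorem acJ {j y1 y2 y3 y4 : G} (hj : j ∈ s.J) (h1 : y1 ∈ s.J) (h2 : y2 ∈ s.J) (h3 : y3 ∈ s.J) (h4 : y4 ∈ s.J) :
    Ac j y1 y2 y3 y4 y1 y2 y3 y4 :=
  ⟨cj_of (s.J_comm j hj _ h1), cj_of (s.J_comm j hj _ h2), cj_of (s.J_comm j hj _ h3), cj_of (s.J_comm j hj _ h4)⟩

/-- Two elements of `L` acting alike on `B₀`. -/
theorem alike {g k : G} (hg : g ∈ s.L) (hk : k ∈ s.L) (h1 : g * s.e1 * g⁻¹ = k * s.e1 * k⁻¹)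
    (h2 : g * s.e2 * g⁻¹ = k * s.e2 * k⁻¹) (h3 : g * s.e3 * g⁻¹ = k * s.e3 * k⁻¹) : ∃ j ∈ s.B0, g = k * j := by
  have e : ∀ {x : G}, g * x * g⁻¹ = k * x * k⁻¹ → k⁻¹ * g * x = x * (k⁻¹ * g) := fun {x} h => by
    calc _ = k⁻¹ * (g * x * g⁻¹) * g := by group
      _ = _ := by rw [h]; group
  refine ⟨k⁻¹ * g, s.cen_B0 (mul_mem (inv_mem hk) hg) (commute_clos ?_), by group⟩
  simp only [List.forall_mem_cons, List.not_mem_nil, false_imp_iff, implies_true, and_true]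
  exact ⟨e h1, e h2, e h3⟩

theorem dE : (s.d1 * s.e1 * s.d1⁻¹ = s.e1⁻¹ ∧ s.d1 * s.e2 * s.d1⁻¹ = s.e2 ∧ s.d1 * s.e3 * s.d1⁻¹ = s.e3) ∧
    (s.d2 * s.e1 * s.d2⁻¹ = s.e1 ∧ s.d2 * s.e2 * s.d2⁻¹ = s.e2⁻¹ ∧ s.d2 * s.e3 * s.d2⁻¹ = s.e3) ∧
    (s.d3 * s.e1 * s.d3⁻¹ = s.e1 ∧ s.d3 * s.e2 * s.d3⁻¹ = s.e2 ∧ s.d3 * s.e3 * s.d3⁻¹ = s.e3⁻¹) ∧
    s.d1 * s.d1 = 1 ∧ s.d2 * s.d2 = 1 ∧ s.d3 * s.d3 = 1 ∧ s.d3 ≠ 1 := s.hL.decide s.rep (by decide +kernel)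

theorem aE : (s.a * s.e1 * s.a⁻¹ = s.e2 ∧ s.a * s.e2 * s.a⁻¹ = s.e1 ∧ s.a * s.e3 * s.a⁻¹ = s.e3) ∧
    (s.a * s.d1 * s.a⁻¹ = s.d2 ∧ s.a * s.d2 * s.a⁻¹ = s.d1 ∧ s.a * s.d3 * s.a⁻¹ = s.d3) ∧ s.a * s.a = 1 ∧ s.a ≠ 1 :=
  s.hL.decide s.rep (by decide +kernel)

theorem vE : (s.v * s.e1 * s.v⁻¹ = s.e2 ∧ s.v * s.e2 * s.v⁻¹ = s.e3 ∧ s.v * s.e3 * s.v⁻¹ = s.e1) ∧
    (s.v * s.d1 * s.v⁻¹ = s.d2 ∧ s.v * s.d2 * s.v⁻¹ = s.d3 ∧ s.v * s.d3 * s.v⁻¹ = s.d1) :=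
  s.hL.decide s.rep (by decide +kernel)

theorem rE : (s.a * s.v * s.e1 * (s.a * s.v)⁻¹ = s.e1 ∧ s.a * s.v * s.e2 * (s.a * s.v)⁻¹ = s.e3 ∧
    s.a * s.v * s.e3 * (s.a * s.v)⁻¹ = s.e2) ∧ (s.a * s.v * s.d1 * (s.a * s.v)⁻¹ = s.d1 ∧
    s.a * s.v * s.d2 * (s.a * s.v)⁻¹ = s.d3 ∧ s.a * s.v * s.d3 * (s.a * s.v)⁻¹ = s.d2) ∧
    s.a * s.v * (s.a * s.v) = 1 := s.hL.decide s.rep (by decide +kernel)

theorem inv_cj {g x y : G} (h : g * x * g⁻¹ = y) : g⁻¹ * y * g⁻¹⁻¹ = x := by rw [← h]; group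

theorem vN : s.v ∈ s.NJ := s.N_le_NJ (nth_mem_clos _ 3)
theorem aN : s.a ∈ s.NJ := s.N_le_NJ (nth_mem_clos _ 4)
theorem d3N : s.d3 ∈ s.NJ := s.N_le_NJ (nth_mem_clos _ 5)

theorem two1 {g : G} (h : g * s.b * g⁻¹ = s.b) (h2 : g * g = 1) : g ∈ s.L :=
  s.two_mem (of_cj h) (n := 1) (by rw [pow_one, pow_two, h2])

/-- A power of `b` that commutes with an element inverting `b`. -/
theorem pow_triv {t c : G} (ht : t * s.b * t⁻¹ = s.b⁻¹) (hc : c ∈ zpowers s.b) (h : t * c = c * t) : c = 1 := by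
  have h3 := s.J_exp c (zpowers_le.2 s.b_mem_J hc)
  obtain ⟨i, rfl⟩ := hc
  have h1 : s.b ^ i = (s.b ^ i)⁻¹ := by rw [← inv_zpow, ← ht, conj_zpow, cj_of h]
  dsimp only at h3 ⊢
  calc s.b ^ i = (s.b ^ i) ^ 3 * ((s.b ^ i)⁻¹ * (s.b ^ i)⁻¹) := by group
    _ = 1 := by rw [h3, one_mul]; nth_rw 1 [← h1]; group

theorem step1 (h : ∃ m, Ac m s.e1 s.e2 s.e3 s.b s.e1 s.e2 s.b s.e3) : ∃ m, Ac m s.e1 s.e2 s.e3 s.b s.e1 s.e2 s.b s.e3 ∧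
    m * m = 1 ∧ m * s.d1 = s.d1 * m ∧ m * s.d2 = s.d2 * m := by
  obtain ⟨m, hm⟩ := h
  obtain ⟨⟨a1, a2, a3⟩, ⟨b1, b2, b3⟩, -, c1, c2, -⟩ := dE s
  have i1 : m * s.e1⁻¹ * m⁻¹ = s.e1⁻¹ := by rw [← conj_inv, hm.1]
  have i2 : m * s.e2⁻¹ * m⁻¹ = s.e2⁻¹ := by rw [← conj_inv, hm.2.1]
  obtain ⟨j1, k1, e1⟩ := alike s (two1 s (tr a3 hm.2.2.1 hm.2.2.1) (conj_sq c1)) s.d1L ((tr a1 hm.1 i1).trans a1.symm)
    ((tr a2 hm.2.1 hm.2.1).trans a2.symm) ((tr (bcj s s.d1L) hm.2.2.2 hm.2.2.2).trans a3.symm)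
  obtain ⟨j2, k2, e2⟩ := alike s (two1 s (tr b3 hm.2.2.1 hm.2.2.1) (conj_sq c2)) s.d2L ((tr b1 hm.1 hm.1).trans b1.symm)
    ((tr b2 hm.2.1 i2).trans b2.symm) ((tr (bcj s s.d2L) hm.2.2.2 hm.2.2.2).trans b3.symm)
  have key : ∀ j1 ∈ s.B0, s.d1 * j1 * (s.d1 * j1) = 1 → ∀ j2 ∈ s.B0, s.d2 * j2 * (s.d2 * j2) = 1 →
      ∃ c ∈ s.B0, c * (s.d1 * j1) * c⁻¹ = s.d1 ∧ c * (s.d2 * j2) * c⁻¹ = s.d2 := s.hL.decide s.rep (by decide +kernel)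
  obtain ⟨c, hc, f1, f2⟩ := key j1 k1 (e1 ▸ conj_sq c1) j2 k2 (e2 ▸ conj_sq c2)
  have h1 : Ac (c * m) s.e1 s.e2 s.e3 s.b s.e1 s.e2 s.b s.e3 :=
    (acJ s (s.B0_le_J hc) (eJ s 0) (eJ s 1) (eJ s 3) (eJ s 2)).mul hm
  have g1 : Commute (c * m) s.d1 := of_cj (by rw [← e1] at f1; exact Eq.trans (by group) f1)
  have g2 : Commute (c * m) s.d2 := of_cj (by rw [← e2] at f2; exact Eq.trans (by group) f2)
  generalize c * m = n at h1 g1 g2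
  have h2 := cenJ s (Ac.mul ⟨h1.1, h1.2.1, h1.2.2.2, h1.2.2.1⟩ h1)
  obtain ⟨y, hy, j, hj, e⟩ := s.cen_J h2
  obtain ⟨k, hk⟩ : Odd (3 * Nat.card s.Y) := (by decide : Odd 3).mul s.odd
  have h3 : (n * n) ^ (2 * k + 1) = 1 := by
    rw [← hk, e, (show Commute y j from s.Y_J y hy j hj).mul_pow, pow_mul j, s.J_exp j hj, one_pow, mul_one,
      mul_comm, pow_mul, show y ^ Nat.card s.Y = 1 from congrArg Subtype.val (pow_card_eq_one' (x := (⟨y, hy⟩ : s.Y))),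
      one_pow]
  have h4 : ∀ x ∈ s.J, (n * n) ^ k * x * ((n * n) ^ k)⁻¹ = x := fun x hx =>
    cj_of ((show Commute (n * n) x from h2 x hx).pow_left k)
  refine ⟨(n * n) ^ k * n, Ac.mul ⟨h4 _ (eJ s 0), h4 _ (eJ s 1), h4 _ (eJ s 3), h4 _ (eJ s 2)⟩ h1, ?_,
    ((g1.mul_left g1).pow_left k).mul_left g1, ((g2.mul_left g2).pow_left k).mul_left g2⟩
  rw [← h3, ← pow_two n]; group

/-- An element of `J` centralising the four reflections is trivial. -/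
theorem J_triv {t j : G} (tL : ∀ g ∈ s.L, t * g = g * t) (tb : t * s.b * t⁻¹ = s.b⁻¹) (hj : j ∈ s.J)
    (h1 : j * s.d1 = s.d1 * j) (h2 : j * s.d2 = s.d2 * j) (h3 : j * s.d3 = s.d3 * j) (h4 : j * t = t * j) : j = 1 := by
  obtain ⟨c, hc, i, hi, rfl⟩ := s.mem_J.1 hj
  obtain rfl := pow_triv s tb hc (by
    have := (show Commute (c * i) t from h4).mul_left (show Commute t i from tL i (s.B0_le hi)).symm.inv_left
    rwa [mul_inv_cancel_right, commute_iff_eq, eq_comm] at this)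
  rw [one_mul] at *
  exact (s.hL.decide s.rep (by decide +kernel) : ∀ i ∈ s.B0, i * s.d1 = s.d1 * i → i * s.d2 = s.d2 * i →
    i * s.d3 = s.d3 * i → i = 1) i hi h1 h2 h3

end MtA

open MtA

theorem Bs.exists_mt (s : Bs G) (h : ∃ m, Ac m s.e1 s.e2 s.e3 s.b s.e1 s.e2 s.b s.e3) : ∃ m t, s.Mt m t := by
  obtain ⟨m, hm, m2, md1, md2⟩ := step1 s h
  obtain ⟨-, -, ⟨a1, a2, a3⟩, -, -, c3, -⟩ := dE s
  obtain ⟨⟨b1, b2, b3⟩, ⟨b4, b5, -⟩, b6, -⟩ := aE s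
  obtain ⟨⟨r1, r2, r3⟩, ⟨r4, r5, r6⟩, r7⟩ := rE s
  have ma : m * s.a = s.a * m := by
    obtain ⟨j, hj, e⟩ := alike s (two1 s (tr b3 hm.2.2.1 hm.2.2.1) (conj_sq b6)) s.aL ((tr b1 hm.1 hm.2.1).trans b1.symm)
      ((tr b2 hm.2.1 hm.1).trans b2.symm) ((tr (bcj s s.aL) hm.2.2.2 hm.2.2.2).trans b3.symm)
    have key : ∀ j ∈ s.B0, s.a * j * (s.a * j) = 1 → s.a * j * s.d1 * (s.a * j)⁻¹ = s.d2 →
        s.a * j * s.d2 * (s.a * j)⁻¹ = s.d1 → j = 1 := s.hL.decide s.rep (by decide +kernel)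
    rw [key j hj (e ▸ conj_sq b6) (e ▸ tr b4 (cj_of md1) (cj_of md2)) (e ▸ tr b5 (cj_of md2) (cj_of md1)), mul_one] at e
    exact of_cj e
  obtain ⟨t, mt⟩ : ∃ t, m * s.d3 * m⁻¹ = t := ⟨_, rfl⟩
  have tb : t * s.b * t⁻¹ = s.b⁻¹ := mt ▸ tr a3 hm.2.2.1 (by rw [← conj_inv, hm.2.2.1])
  have tL : ∀ g ∈ s.L, t * g = g * t := s.inv_cen (mt ▸ conj_sq c3) (.inr tb) (commute_clos (by
    simp only [List.forall_mem_cons, List.not_mem_nil, false_imp_iff, implies_true, and_true]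
    exact ⟨of_cj (mt ▸ tr a1 hm.1 hm.1), of_cj (mt ▸ tr a2 hm.2.1 hm.2.1),
      of_cj (mt ▸ tr (bcj s s.d3L) hm.2.2.2 hm.2.2.2)⟩))
  have mt' := sq_cj m2 mt
  have mx : m * s.x = s.x * m := by
    obtain ⟨x1, x2, x3, x4, x5, x6⟩ : s.x * s.e3 * s.x⁻¹ = s.e3 ∧ s.x * s.x = 1 ∧ s.x * s.d1 * s.x⁻¹ = s.d1 ∧
      s.x * s.d2 * s.x⁻¹ = s.d2 ∧ (s.x * s.e1 * s.d1) ^ 3 = 1 ∧ (s.x * s.e2 * s.d2) ^ 3 = 1 :=
      s.hL.decide s.rep (by decide +kernel)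
    have k : ∀ {e d : G}, m * e * m⁻¹ = e → m * d = d * m → (s.x * e * d) ^ 3 = 1 →
        (m * s.x * m⁻¹ * e * d) ^ 3 = 1 := fun {e d} h1 h2 h3 => by
      rw [← h1, ← cj_of h2, conj_mul, conj_mul, conj_pow, h3]; simp
    exact of_cj (s.x_unique (s.cen_e3_d3 (two1 s (tr x1 hm.2.2.1 hm.2.2.1) (conj_sq x2))
      (of_cj (tr (bcj s s.xL) hm.2.2.2 hm.2.2.2)) (of_cj (tr (cj_of (tL _ s.xL).symm) mt' mt'))) (conj_sq x2)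
      (of_cj (tr x3 (cj_of md1) (cj_of md1))) (of_cj (tr x4 (cj_of md2) (cj_of md2))) (k hm.1 md1 x5) (k hm.2.1 md2 x6))
  refine ⟨m, t, hm, m2, md1, md2, ma, mx, mt, ?_, tL, tb⟩
  have rL : s.a * s.v ∈ s.L := mul_mem s.aL s.vL
  have hn : s.v * m ∈ s.NJ := mul_mem (vN s) (normJ s hm (eJ s 0) (eJ s 1) (eJ s 3) (eJ s 2))
  have nb : (s.cj (s.v * m)).b = s.e1 := by
    rw [← (vE s).1.2.2, ← hm.2.2.2]
    change s.v * m * s.b * (s.v * m)⁻¹ = _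
    group
  have p1 : Ac (m * (s.a * s.v)) s.e1 s.e2 s.e3 s.b s.e1 s.b s.e2 s.e3 :=
    Ac.mul ⟨hm.1, hm.2.2.1, hm.2.1, hm.2.2.2⟩ ⟨r1, r2, r3, bcj s rL⟩
  have p2 : Ac (m * (s.a * s.v)) s.d1 s.d2 s.d3 t s.d1 t s.d2 s.d3 :=
    Ac.mul ⟨cj_of md1, mt, cj_of md2, mt'⟩ ⟨r4, r5, r6, cj_of (tL _ rL).symm⟩
  have hL : m * (s.a * s.v) ∈ (s.cj (s.v * m)).L :=
    mul_mem (two1 _ (nb.symm ▸ hm.1) m2) (two1 _ (nb.symm ▸ r1) r7)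
  generalize m * (s.a * s.v) = ρ at p1 p2 hL
  have q1 := cenJ s (Ac.mul ⟨p1.1, p1.2.2.1, p1.2.2.2, p1.2.1⟩ (Ac.mul ⟨p1.1, p1.2.2.2, p1.2.1, p1.2.2.1⟩ p1))
  have q2 : Ac _ _ _ _ _ s.d1 s.d2 s.d3 t :=
    Ac.mul ⟨p2.1, p2.2.2.1, p2.2.2.2, p2.2.1⟩ (Ac.mul ⟨p2.1, p2.2.2.2, p2.2.1, p2.2.2.1⟩ p2)
  rw [pow_three]
  exact J_triv s tL tb (s.cj_J_eq hn ▸ (s.cj _).B0_le_J ((s.cj _).cen_B0 (mul_mem hL (mul_mem hL hL)) fun j hj =>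
    q1 j (s.cj_J_eq hn ▸ (s.cj _).B0_le_J hj))) (of_cj q2.1) (of_cj q2.2.1) (of_cj q2.2.2.1) (of_cj q2.2.2.2)

namespace Bs.Mt

variable {s : Bs G} {m t : G} (h : s.Mt m t)
include h

theorem m_mem : m ∈ s.NJ := normJ s h.hm (eJ s 0) (eJ s 1) (eJ s 3) (eJ s 2)
theorem t_mem : t ∈ s.NJ := h.mt ▸ mul_mem (mul_mem h.m_mem (d3N s)) (inv_mem h.m_mem)
theorem t2 : t * t = 1 := h.mt ▸ conj_sq (dE s).2.2.2.2.2.1
theorem t1 : t ≠ 1 := h.mt ▸ fun e => (dE s).2.2.2.2.2.2 (conj_eq_one.1 e)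
theorem mt' : m * t * m⁻¹ = s.d3 := sq_cj h.m2 h.mt
theorem om_mem : s.om m ∈ s.NJ := mul_mem (mul_mem (mul_mem (inv_mem (vN s)) (aN s)) h.m_mem) (vN s)
theorem om_e : Ac (s.om m) s.e1 s.e2 s.e3 s.b s.e3 s.b s.e1 s.e2 := by
  obtain ⟨⟨v1, v2, v3⟩, -⟩ := vE s
  obtain ⟨⟨a1, a2, a3⟩, -⟩ := aE s
  rw [Lt.om, mul_assoc, mul_assoc]
  exact Ac.mul ⟨inv_cj v3, inv_cj (bcj s s.vL), inv_cj v1, inv_cj v2⟩ (Ac.mul ⟨a2, bcj s s.aL, a1, a3⟩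
    (Ac.mul ⟨h.hm.2.1, h.hm.2.2.1, h.hm.1, h.hm.2.2.2⟩ ⟨v1, v2, v3, bcj s s.vL⟩))
theorem om_d : Ac (s.om m) s.d1 s.d2 s.d3 t s.d3 t s.d1 s.d2 := by
  obtain ⟨-, v1, v2, v3⟩ := vE s
  obtain ⟨-, ⟨a1, a2, a3⟩, -⟩ := aE s
  have v4 := cj_of (h.tL _ s.vL).symm
  rw [Lt.om, mul_assoc, mul_assoc]
  exact Ac.mul ⟨inv_cj v3, inv_cj v4, inv_cj v1, inv_cj v2⟩ (Ac.mul ⟨a2, cj_of (h.tL _ s.aL).symm, a1, a3⟩
    (Ac.mul ⟨cj_of h.md2, h.mt, cj_of h.md1, h.mt'⟩ ⟨v1, v2, v3, v4⟩))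
theorem om_a : s.om m * s.a * (s.om m)⁻¹ = m ∧ s.om m * m * (s.om m)⁻¹ = s.a ∧ s.om m * s.om m = 1 := by
  have h3 : s.om m * s.om m = 1 := by
    calc _ = s.v⁻¹ * (s.a * (m * s.a) * m) * s.v := by group
      _ = 1 := by rw [h.ma, ← mul_assoc s.a, (aE s).2.2.1, one_mul, h.m2]; simp
  have h1 : s.om m * s.a * (s.om m)⁻¹ = m := by
    obtain ⟨k1, k2⟩ : s.v⁻¹ * s.a = s.a * s.v ∧ s.v * s.a * s.v⁻¹ = s.a * s.v := s.hL.decide s.rep (by decide +kernel)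
    have r7 := inv_eq_of_mul_eq_one_right (rE s).2.2
    calc _ = s.v⁻¹ * s.a * m * (s.v * s.a * s.v⁻¹) * m⁻¹ * (s.v⁻¹ * s.a)⁻¹ := by simp only [Lt.om]; group
      _ = m⁻¹ * (m * (s.a * s.v)) ^ 3 := by
        rw [k1, k2, r7, pow_three, mul_assoc m, inv_mul_cancel_left, inv_eq_of_mul_eq_one_right h.m2]
        simp only [mul_assoc]
      _ = m := by rw [h.br, mul_one, inv_eq_of_mul_eq_one_right h.m2]
  exact ⟨h1, sq_cj h3 h1, h3⟩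

end Bs.Mt

namespace MtA

theorem bs4 (s : Bs G) : Bs4 s.e1 s.e2 s.e3 s.b :=
  ⟨s.J_comm _ (eJ s 0) _ (eJ s 1), s.J_comm _ (eJ s 0) _ (eJ s 2), s.J_comm _ (eJ s 0) _ (eJ s 3),
    s.J_comm _ (eJ s 1) _ (eJ s 2), s.J_comm _ (eJ s 1) _ (eJ s 3), s.J_comm _ (eJ s 2) _ (eJ s 3),
    s.J_exp _ (eJ s 0), s.J_exp _ (eJ s 1), s.J_exp _ (eJ s 2), s.J_exp _ (eJ s 3), s.card_J⟩

theorem card27 (s : Bs G) : Nat.card (clos [s.f, s.e3, s.b]) = 27 := by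
  have h := bs4 s
  have m := nth_mem_clos [s.f, s.e3, s.b]
  have k : ∀ v : ZMod 3 × ZMod 3 × ZMod 3, jv s.e1 s.e2 s.e3 s.b (v.1, v.1, v.2.1, v.2.2) ∈ clos [s.f, s.e3, s.b] :=
    fun v => by
      rw [jv, ← h.cx.mul_pow]
      exact mul_mem (mul_mem (pow_mem (m 0) _) (pow_mem (m 1) _)) (pow_mem (m 2) _)
  refine (Nat.card_congr (Equiv.ofBijective (fun v => (⟨_, k v⟩ : clos [s.f, s.e3, s.b]))
    ⟨fun v w e => ?_, ?_⟩)).symm.trans (by simp)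
  · have := h.inj (congrArg Subtype.val e)
    simp only [Prod.mk.injEq] at this
    exact Prod.ext this.1 (Prod.ext this.2.2.1 this.2.2.2)
  · rintro ⟨x, hx⟩
    simp only [Subtype.mk.injEq]
    induction hx using closure_induction with
    | mem y hy =>
      simp only [List.mem_cons, List.not_mem_nil, or_false, Set.mem_ofPred_eq] at hy
      rcases hy with rfl | rfl | rfl
      exacts [⟨(1, 0, 0), by simp [jv, ZMod.val_one]⟩, ⟨(0, 1, 0), jv_3⟩, ⟨(0, 0, 1), jv_4⟩]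
    | one => exact ⟨0, jv_zero⟩
    | mul x y _ _ a b =>
      obtain ⟨v, rfl⟩ := a
      obtain ⟨w, rfl⟩ := b
      exact ⟨v + w, h.add (v.1, v.1, v.2.1, v.2.2) (w.1, w.1, w.2.1, w.2.2)⟩
    | inv x _ a =>
      obtain ⟨v, rfl⟩ := a
      exact ⟨-v, h.neg (v.1, v.1, v.2.1, v.2.2)⟩

theorem Y_bot {s : Bs G} (h : s.WF) (gl : Gl G) {m t : G} (hm : s.Mt m t) : s.Y = ⊥ := by
  obtain ⟨⟨a1, a2, a3⟩, -, a4, a5⟩ := aE s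
  obtain ⟨-, -, ⟨d1, d2, d3⟩, -⟩ := dE s
  obtain ⟨Q, hQ⟩ := gl.c2 s.a a4 a5
  obtain ⟨g, hg⟩ := h.ex2
  have b4 := bs4 s
  have mJ : s.e1 * s.e2 * s.e3 * s.b ∈ s.J := mul_mem (mul_mem (mul_mem (eJ s 0) (eJ s 1)) (eJ s 2)) (eJ s 3)
  have gN := normJ s hg (mul_mem (eJ s 0) mJ) (mul_mem (eJ s 1) mJ) (mul_mem (eJ s 2) mJ) (mul_mem (eJ s 3) mJ)
  have le : clos [s.f, s.e3, s.b] ≤ s.J := clos_le.2 (by
    simp only [List.forall_mem_cons, List.not_mem_nil, false_imp_iff, implies_true, and_true]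
    exact ⟨mul_mem (eJ s 0) (eJ s 1), eJ s 2, eJ s 3⟩)
  have ee : s.e3 * s.e3 = s.e3⁻¹ := eq_inv_of_mul_eq_one_left (by rw [← pow_three', b4.y3])
  have ee' : s.e3⁻¹ * s.e3⁻¹ = s.e3 := by rw [← mul_inv_rev, ee, inv_inv]
  have fL : s.f ∈ s.L := mul_mem s.e1L s.e2L
  have sb : ∀ {y : G}, (∃ n ∈ s.NJ, n * s.b * n⁻¹ = y) → ∀ k ∈ Q, Commute k y → k ∈ centralizer (s.Y : Set G) :=
    fun ⟨n, hn, e⟩ k hk c => by
      obtain ⟨i, hi⟩ := hQ.two ⟨k, hk⟩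
      exact s.Y_two hn (e.symm ▸ c) (congrArg Subtype.val hi)
  have cj : ∀ {y y' k : G}, k ∈ s.NJ → k * y * k⁻¹ = y' → (∃ n ∈ s.NJ, n * s.b * n⁻¹ = y) →
      ∃ n ∈ s.NJ, n * s.b * n⁻¹ = y' := fun {y y' k} hk e ⟨n, hn, e'⟩ =>
    ⟨k * n, mul_mem hk hn, by rw [← e, ← e']; group⟩
  have s0 : ∃ n ∈ s.NJ, n * s.b * n⁻¹ = s.b := ⟨1, one_mem _, by simp⟩
  have s1 := cj hm.m_mem hm.hm.2.2.2 s0
  have s2 : ∃ n ∈ s.NJ, n * s.b * n⁻¹ = s.f * (s.e3 * s.b⁻¹) := cj gN (hg.2.2.2.trans (by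
    rw [s.J_comm _ s.b_mem_J _ mJ, mul_assoc _ s.b,
      eq_inv_of_mul_eq_one_left (by rw [← pow_three', b4.a3] : s.b * s.b * s.b = 1), mul_assoc])) s0
  have tf := cj_of (hm.tL _ fL)
  have te := cj_of (hm.tL _ s.e3L)
  have df : s.d3 * s.f * s.d3⁻¹ = s.f := by rw [← conj_mul, d1, d2]
  have s3 : ∃ n ∈ s.NJ, n * s.b * n⁻¹ = s.f * (s.e3 * s.b) :=
    cj hm.t_mem (by rw [← conj_mul, tf, ← conj_mul, ← conj_inv, te, hm.tb, inv_inv]) s2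
  have s4 : ∃ n ∈ s.NJ, n * s.b * n⁻¹ = s.f * (s.e3⁻¹ * s.b) :=
    cj (d3N s) (by rw [← conj_mul, df, ← conj_mul, d3, bcj s s.d3L]) s3
  have s5 : ∃ n ∈ s.NJ, n * s.b * n⁻¹ = s.f * (s.e3⁻¹ * s.b⁻¹) :=
    cj (d3N s) (by rw [← conj_mul, df, ← conj_mul, ← conj_inv, d3, bcj s s.d3L]) s2
  have hY : Q ≤ centralizer (s.Y : Set G) := by
    refine gen27 (card27 s) (fun x hx => s.J_exp x (le hx)) (fun x hx y hy => s.J_comm x (le hx) y (le hy))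
      ((clos_le.2 ?_).trans hQ.nm) ?_ ?_
    · simp only [List.forall_mem_cons, List.not_mem_nil, false_imp_iff, implies_true, and_true]
      exact ⟨mem_cen.2 (of_cj (by rw [← conj_mul, a1, a2, ← b4.cx.eq])).symm, mem_cen.2 (of_cj a3).symm,
        mem_cen.2 (s.bc _ s.aL).symm⟩
    · obtain ⟨i, hi⟩ := hQ.two.exists_card_eq
      rw [hi]; exact Nat.Coprime.pow_left _ (by decide)
    · simp only [List.forall_mem_cons, List.not_mem_nil, false_imp_iff, implies_true, and_true]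
      refine ⟨fun k hk _ => sb s0 k hk, fun k hk _ => sb s0 k hk, fun k hk _ => sb s1 k hk, fun k hk _ => sb s0 k hk,
        fun k hk _ => sb s0 k hk, fun k hk _ => sb s1 k hk, fun k hk _ => sb s1 k hk,
        fun k hk h1 h2 => sb s2 k hk (Commute.mul_right h2 h1), fun k hk h1 h2 => sb s3 k hk (Commute.mul_right h2 h1),
        fun k hk h1 h2 => sb s3 k hk ?_, fun k hk h1 h2 => sb s2 k hk ?_, fun k hk h1 h2 => sb s4 k hk ?_,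
        fun k hk h1 h2 => sb s5 k hk ?_⟩
      · have := Commute.mul_right h1 (Commute.inv_right h2)
        rwa [mul_inv_rev, inv_inv, b4.ya.symm.inv_right.eq, mul_assoc s.f, ← mul_assoc _ _ s.b, ee'] at this
      · have := Commute.mul_right h1 (Commute.inv_right h2)
        rwa [mul_inv_rev, b4.ya.symm.inv_inv.eq, mul_assoc s.f, ← mul_assoc _ _ s.b⁻¹, ee'] at this
      · have := Commute.mul_right h1 h2
        rwa [mul_assoc s.f, ← mul_assoc _ _ s.b, ee] at this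
      · have := Commute.mul_right h1 h2
        rwa [mul_assoc s.f, ← mul_assoc _ _ s.b⁻¹, ee] at this
  refine eq_bot_iff.2 fun y hy => ?_
  obtain ⟨i, hi⟩ := hQ.two ⟨y, hQ.sc y (s.YL y hy _ s.aL) fun w hw => hY hw y hy⟩
  exact eq_one_of_odd_of_sq s.odd hy (congrArg Subtype.val hi)

end MtA

theorem Bs.WF.f4 {s : Bs G} (h : s.WF) (gl : Gl G) : ∃ n, s.F4 n := by
  obtain ⟨m, t, hm⟩ := s.exists_mt h.ex
  have hY := Y_bot h gl hm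
  obtain ⟨⟨a1, a2, a3⟩, -, a4, -⟩ := aE s
  obtain ⟨⟨r1, r2, r3⟩, -⟩ := rE s
  obtain ⟨w1, w2, w3, w4, w5, w6⟩ : s.w * s.e1 * s.w⁻¹ = s.e1⁻¹ ∧ s.w * s.e2 * s.w⁻¹ = s.e2⁻¹ ∧
    s.w * s.e3 * s.w⁻¹ = s.e3⁻¹ ∧ s.a * s.w = s.w * s.a ∧ s.a * s.v * s.w = s.w * (s.a * s.v) ∧
    s.w * s.z⁻¹ * s.w⁻¹ = s.z := s.hL.decide s.rep (by decide +kernel)
  have wL : s.w ∈ s.L := mul_mem (mul_mem s.d1L s.d2L) s.d3L
  have rL : s.a * s.v ∈ s.L := mul_mem s.aL s.vL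
  have ht : Ac t s.e1 s.e2 s.e3 s.b s.e1 s.e2 s.e3 s.b⁻¹ :=
    ⟨cj_of (hm.tL _ s.e1L), cj_of (hm.tL _ s.e2L), cj_of (hm.tL _ s.e3L), hm.tb⟩
  obtain ⟨g, hg⟩ := h.ex2
  have mJ : s.e1 * s.e2 * s.e3 * s.b ∈ s.J := mul_mem (mul_mem (mul_mem (eJ s 0) (eJ s 1)) (eJ s 2)) (eJ s 3)
  have p0 : Pre s.e1 s.e2 s.e3 s.b s.a (s.a * s.v) m t g (s.w * t) :=
    ⟨s.J_comm, s.J_exp, s.card_J, fun x hx => by
      obtain ⟨y, hy, j, hj, rfl⟩ := s.cen_J fun j hj => (hx j hj).symm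
      rw [hY, mem_bot] at hy
      rwa [hy, one_mul], ⟨a1, a2, a3, bcj s s.aL⟩, ⟨r1, r2, r3, bcj s rL⟩, hm.hm, ht, hg,
      Ac.mul ⟨w1, w2, w3, by rw [← conj_inv, bcj s wL]⟩ ht⟩
  obtain ⟨u, hu, e⟩ := Iv3.adj ⟨p0.comm, p0.exp, p0.cent, fun x hx => p0.inv hx⟩
    (normJ s hg (mul_mem (eJ s 0) mJ) (mul_mem (eJ s 1) mJ) (mul_mem (eJ s 2) mJ) (mul_mem (eJ s 3) mJ))
  have d4 : s.d3 * t = t * s.d3 := (hm.tL _ s.d3L).symm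
  let n : Nw G := ⟨s.e1, s.e2, s.e3, s.b, s.a, s.a * s.v, m, t, u * g, s.w * t,
    { p0 with hb2 := (acJ s hu (mul_mem (eJ s 0) mJ) (mul_mem (eJ s 1) mJ) (mul_mem (eJ s 2) mJ)
        (mul_mem (eJ s 3) mJ)).mul hg },
    Commute.mul_right w4 (hm.tL _ s.aL).symm, Commute.mul_right w5 (hm.tL _ rL).symm,
    of_cj (by rw [← conj_mul, ← conj_mul, ← conj_mul, cj_of hm.md1, cj_of hm.md2, hm.mt, hm.mt', mul_assoc, ← d4,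
      ← mul_assoc]), Commute.mul_right (hm.tL _ wL) rfl, e⟩
  have nv : n.v = s.v := by rw [Nw.v, ← mul_assoc, a4, one_mul]
  have n3 : n.d3 = s.d3 := by rw [← hm.mt', inv_eq_of_mul_eq_one_right hm.m2]; rfl
  have n1 : n.d1 = s.d1 := by rw [Nw.d1, nv, n3, (vE s).2.2.2]
  have n2 : n.d2 = s.d2 := by rw [Nw.d2, nv, n3, (vE s).2.2.2, (vE s).2.1]
  have cen : ∀ g, g * s.b = s.b * g → ∃ c ∈ zpowers s.b, ∃ l ∈ s.L, g = c * l := fun g e => by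
    obtain ⟨y, hy, c, hc, l, hl, rfl⟩ := s.cen g e
    rw [hY, mem_bot] at hy
    exact ⟨c, hc, l, hl, by rw [hy, one_mul]⟩
  have cenL : ∀ g, g * s.b = s.b * g → g * t = t * g → g ∈ s.L := fun g e e' => by
    obtain ⟨c, hc, l, hl, rfl⟩ := cen g e
    rwa [pow_triv s hm.tb hc (mul_right_cancel (b := l) (by
      rw [mul_assoc, ← e', mul_assoc, mul_assoc, hm.tL l hl])), one_mul]
  have eC : n.f.CC s.q = s.CC := by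
    change clos [s.e1, s.e2, s.e3, n.v, s.a, s.q] = _
    rw [nv]; rfl
  have zL : s.z ∈ s.L := mul_mem (mul_mem s.e1L s.e2L) s.e3L
  refine ⟨n, hY, rfl, rfl, rfl, rfl, rfl, nv, n1, n2, n3, hm,
    ⟨⟨s.car.q2, s.car.qa, s.car.qu.trans nv.symm, s.car.qq, s.car.cq⟩, s.bc _ s.qL, (hm.tL _ s.qL).symm, ?_, ?_,
      fun g h1 h2 h3 => eC ▸ s.cen_z (cenL g h2 h3) h1, fun g h1 h2 => ?_, fun g h1 h2 => ?_⟩,
    ⟨⟨s.C, ?_⟩, s.bc _ s.xL, (hm.tL _ s.xL).symm, fun g h1 h2 h3 h4 => ?_, fun g h1 => ?_⟩⟩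
  · obtain ⟨k1, k2⟩ : n.b1 * n.b2 * n.e4 * (n.b1 * n.b2)⁻¹ = n.z * n.e4 ∧
      n.b1 * n.b2 * n.b1 * (n.b1 * n.b2)⁻¹ = n.b2 := n.hL.decide n.rep (by decide +kernel)
    have hq : s.q ∈ (s.cj (n.b1 * n.b2)).L := (s.cj _).two_mem (n := 2)
      (show Commute s.q (n.b1 * n.b2 * n.e4 * (n.b1 * n.b2)⁻¹) from
        k1.symm ▸ Commute.mul_right s.car.qa (s.bc _ s.qL))
      (s.hL.decide s.rep (by decide +kernel) : s.q ^ 4 = 1)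
    rw [← k2]
    generalize n.b1 * n.b2 = k at hq
    obtain ⟨l, hl, e⟩ := s.cj_L k ▸ hq
    rw [← e]
    exact ((show Commute l t from (hm.tL l hl).symm).conj k)
  · rintro (c | c) <;> obtain ⟨k, hk⟩ := isConj_iff.1 c.symm
    · obtain ⟨k', h1, h2⟩ := s.fus (g := k) (hk.symm ▸ s.B0_le_J (mul_mem (mul_mem (nth_mem_clos _ 0) (nth_mem_clos _ 1))
        (nth_mem_clos _ 2)) : k * s.b * k⁻¹ ∈ s.J)
      exact h.nz k' h1 (h2.trans hk)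
    · have hk' : s.w * k * s.b * (s.w * k)⁻¹ = s.z := by rw [← w6, ← show k * s.b * k⁻¹ = s.z⁻¹ from hk]; group
      obtain ⟨k', h1, h2⟩ := s.fus (g := s.w * k) (hk'.symm ▸ s.B0_le_J (mul_mem (mul_mem (nth_mem_clos _ 0)
        (nth_mem_clos _ 1)) (nth_mem_clos _ 2)))
      exact h.nz k' h1 (h2.trans hk')
  · obtain ⟨c, hc, l, hl, rfl⟩ := cen g h2
    have cz : Commute c s.z := by
      obtain ⟨i, rfl⟩ := hc
      exact (show Commute s.b s.z from (s.bc _ zL).symm).zpow_left i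
    have := cz.inv_left.mul_left (show Commute (c * l) s.z from h1)
    rw [inv_mul_cancel_left] at this
    exact mul_mem (mem_sup_right hc) (mem_sup_left (eC ▸ s.cen_z hl this))
  · obtain ⟨y, hy, j, hj, k, hk, rfl⟩ := s.njb h1 h2
    rw [hY, mem_bot] at hy
    rw [hy, one_mul]
    refine mul_mem (mem_sup_left hj) (mem_sup_right (clos_le.2 ?_ hk))
    simp only [List.forall_mem_cons, List.not_mem_nil, false_imp_iff, implies_true, and_true]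
    rw [← nv, ← n3]
    exact (n.hL.decide n.rep (by decide +kernel) : n.v ∈ n.W ∧ n.a1 ∈ n.W ∧ n.d3 ∈ n.W)
  · rw [nv, n1, n2, n3]; exact s.rep
  · rw [n1, n2]; exact s.cen_e3_d3 (cenL g h3 h4) h1 (n3 ▸ h2)
  · obtain ⟨c, hc, l, hl, rfl⟩ := cen g h1
    rw [nv, n3]
    have mm := nth_mem_clos [s.e1, s.e2, s.e3, s.v, s.a, s.d3, s.x, s.b]
    refine mul_mem (zpowers_le.2 (mm 7) hc) (clos_le.2 ?_ (s.st_M.ge hl))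
    have cv : ∀ {g}, g ∈ clos [s.e1, s.e2, s.e3, s.v, s.a, s.d3, s.x, s.b] →
        s.v * g * s.v⁻¹ ∈ clos [s.e1, s.e2, s.e3, s.v, s.a, s.d3, s.x, s.b] := fun h =>
      mul_mem (mul_mem (mm 3) h) (inv_mem (mm 3))
    have m1 := (vE s).2.2.2 ▸ cv (mm 5)
    have m2 := (vE s).2.1 ▸ cv m1
    simp only [Lt.st, List.forall_mem_cons, List.not_mem_nil, false_imp_iff, implies_true, and_true]
    exact ⟨m2, mul_mem (mm 1) m2, cv (mm 6), mul_mem (mm 2) (mm 5), cv (cv (mm 6)), mul_mem (mm 0) m1, mm 5⟩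

end Cfsg.Agent.S8
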