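import Mathlib
import Cfsg.Agent.S8.Defs
import Cfsg.Agent.S8.Flag1

/-! The group `⟨t⟩ × E₁ × E₂ × E₃` and a bound for the order of `C(t)`. -/

set_option autoImplicit false
set_option linter.unusedSectionVars false
set_option synthInstance.maxSize 100000
set_option synthInstance.maxHeartbeats 1000000
set_option maxRecDepth 100000

namespace Cfsg.Agent.S8

open Cfsg.Agent.Spor Cfsg.Agent.Rec Cfsg.Agent.Inv.Fz Cfsg.Agent.T16 Cfsg.Agent.F4L Subgroup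

universe u

variable {G : Type u} [Group G] [Finite G]

namespace Flag1

open Cfsg.Agent.Loc.Mss

theorem clos_one (t : G) : clos [t] = zpowers t :=
  le_antisymm (clos_le.2 (by simp)) (zpowers_le.2 (mem_clos (by simp)))

theorem clos_snoc (xs : List G) (x : G) : clos (xs ++ [x]) = clos xs ⊔ zpowers x :=
  le_antisymm (clos_le.2 fun y hy => (List.mem_append.1 hy).elim (fun h => mem_sup_left (mem_clos h))
      fun h => by rw [List.mem_singleton.1 h]; exact mem_sup_right (mem_zpowers x))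
    (sup_le (clos_le.2 fun y hy => mem_clos (List.mem_append_left _ hy))
      (zpowers_le.2 (mem_clos (by simp))))

theorem clos_ext (xs : List G) (c p : G) :
    clos (xs ++ [p] ++ [c * p * c⁻¹]) = ext (clos xs) c p := by
  rw [clos_snoc, clos_snoc, ext]

theorem clos3 (t c p : G) : clos [t, p, c * p * c⁻¹] = ext (zpowers t) c p := by
  rw [← clos_one, ← clos_ext]; rfl

theorem clos5 (t c p c' p' : G) :
    clos [t, p, c * p * c⁻¹, p', c' * p' * c'⁻¹] = ext (ext (zpowers t) c p) c' p' := by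
  rw [← clos3, ← clos_ext]; rfl

theorem FV_eq (t c1 c2 c3 p1 p2 p3 : G) :
    FV t c1 c2 c3 p1 p2 p3 = ext (ext (ext (zpowers t) c1 p1) c2 p2) c3 p3 := by
  rw [← clos5, ← clos_ext]; rfl

theorem closB (c1 c2 c3 : G) : clos [c1, c2, c3] = zpowers c1 ⊔ zpowers c2 ⊔ zpowers c3 := by
  rw [← clos_one, ← clos_snoc, ← clos_snoc]; rfl

theorem FV_swap (t c1 c2 c3 p1 p2 p3 : G) : FV t c3 c2 c1 p3 p2 p1 = FV t c1 c2 c3 p1 p2 p3 :=
  le_antisymm (clos_le.2 fun x hx => mem_clos (by simp only [List.mem_cons] at hx ⊢; tauto))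
    (clos_le.2 fun x hx => mem_clos (by simp only [List.mem_cons] at hx ⊢; tauto))

theorem C1_le (t : G) : centralizer {t} ≤ 𝐂[zpowers t] := fun _ hg =>
  cent_zp (mem_centralizer_singleton_iff.1 hg).symm

variable {t c1 c2 c3 p1 p2 p3 : G} (h : Fl t c1 c2 c3 p1 p2 p3)
include h

theorem swap : Fl t c3 c2 c1 p3 p2 p1 :=
  ⟨h.t2, h.t1, ⟨h.o.2.2, h.o.2.1, h.o.1⟩, ⟨h.cc.2.2.symm, h.cc.2.1.symm, h.cc.1.symm⟩,
    ⟨h.ct.2.2, h.ct.2.1, h.ct.1⟩, ⟨h.sq.2.2, h.sq.2.1, h.sq.1⟩, ⟨h.ne.2.2, h.ne.2.1, h.ne.1⟩,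
    ⟨h.pt.2.2, h.pt.2.1, h.pt.1⟩, ⟨h.tri.2.2, h.tri.2.1, h.tri.1⟩,
    ⟨h.cp.2.2.2.2.2, h.cp.2.2.2.2.1, h.cp.2.2.2.1, h.cp.2.2.1, h.cp.2.1, h.cp.1⟩,
    ⟨h.pp.2.2.symm, h.pp.2.1.symm, h.pp.1.symm⟩⟩

theorem T1 : Tri c1 p1 := ⟨h.o.1, h.sq.1, h.ne.1, h.tri.1⟩
theorem T2 : Tri c2 p2 := ⟨h.o.2.1, h.sq.2.1, h.ne.2.1, h.tri.2.1⟩
theorem T3 : Tri c3 p3 := ⟨h.o.2.2, h.sq.2.2, h.ne.2.2, h.tri.2.2⟩

theorem a1 : c1 ∈ 𝐂[zpowers t] := cent_zp h.ct.1.symm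
theorem b1 : p1 ∈ 𝐂[zpowers t] := cent_zp h.pt.1.symm
theorem a2 : c2 ∈ 𝐂[ext (zpowers t) c1 p1] := cent_ext (cent_zp h.ct.2.1.symm) h.cp.2.2.1.symm h.cc.1
theorem b2 : p2 ∈ 𝐂[ext (zpowers t) c1 p1] := cent_ext (cent_zp h.pt.2.1.symm) h.pp.1 h.cp.1
theorem a3 : c3 ∈ 𝐂[ext (ext (zpowers t) c1 p1) c2 p2] :=
  cent_ext (cent_ext (cent_zp h.ct.2.2.symm) h.cp.2.2.2.2.1.symm h.cc.2.1) h.cp.2.2.2.2.2.symm h.cc.2.2
theorem b3 : p3 ∈ 𝐂[ext (ext (zpowers t) c1 p1) c2 p2] :=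
  cent_ext (cent_ext (cent_zp h.pt.2.2.symm) h.pp.2.1 h.cp.2.1) h.pp.2.2 h.cp.2.2.2.1

theorem el0 : ∀ x ∈ zpowers t, x ^ 2 = 1 := fun x hx => by
  rcases mem_zp2 h.t2 hx with rfl | rfl
  · exact one_pow 2
  · rw [pow_two, h.t2]
theorem el1 : ∀ x ∈ ext (zpowers t) c1 p1, x ^ 2 = 1 := (T1 h).el (a1 h) (b1 h) (el0 h)
theorem el2 : ∀ x ∈ ext (ext (zpowers t) c1 p1) c2 p2, x ^ 2 = 1 := (T2 h).el (a2 h) (b2 h) (el1 h)
theorem el3 : ∀ x ∈ FV t c1 c2 c3 p1 p2 p3, x ^ 2 = 1 := by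
  rw [FV_eq]; exact (T3 h).el (a3 h) (b3 h) (el2 h)

theorem card0 : Nat.card (zpowers t) = 2 := by
  rw [Nat.card_zpowers, orderOf_eq_prime (by rw [pow_two, h.t2]) h.t1]
theorem card1 : Nat.card (ext (zpowers t) c1 p1) = 8 := by
  rw [(T1 h).card2 (a1 h) (b1 h), card0 h]
theorem card2 : Nat.card (ext (ext (zpowers t) c1 p1) c2 p2) = 32 := by
  rw [(T2 h).card2 (a2 h) (b2 h), card1 h]

theorem le3 : ext (ext (zpowers t) c1 p1) c2 p2 ≤ FV t c1 c2 c3 p1 p2 p3 := by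
  rw [FV_eq]; exact le_ext

theorem pgV : IsPGroup 2 (FV t c1 c2 c3 p1 p2 p3) :=
  pg_iff.2 fun x hx => ⟨1, by rw [pow_one, el3 h x hx]⟩

theorem B_le : clos [c1, c2, c3] ≤ centralizer {t} := by
  rw [closB]
  exact sup_le (sup_le (zpowers_le.2 (mem_centralizer_singleton_iff.2 h.ct.1))
    (zpowers_le.2 (mem_centralizer_singleton_iff.2 h.ct.2.1)))
    (zpowers_le.2 (mem_centralizer_singleton_iff.2 h.ct.2.2))

theorem n0 : clos [c1, c2, c3] ≤ 𝐍[zpowers t] := (B_le h).trans ((C1_le t).trans (cent_le_norm _))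

theorem n1 : clos [c1, c2, c3] ≤ 𝐍[ext (zpowers t) c1 p1] := by
  rw [closB]
  exact sup_le (sup_le (zpowers_le.2 ((T1 h).norm (a1 h) (b1 h)))
    (zpowers_le.2 (cent_le_norm _ (a2 h)))) (zpowers_le.2 (cent_le_norm _ (cent_anti le_ext (a3 h))))

theorem n2 : clos [c1, c2, c3] ≤ 𝐍[ext (ext (zpowers t) c1 p1) c2 p2] := by
  rw [closB]
  exact sup_le (sup_le (zpowers_le.2 (norm_ext ((T1 h).norm (a1 h) (b1 h)) h.cp.1.symm h.cc.1.symm))
    (zpowers_le.2 ((T2 h).norm (a2 h) (b2 h)))) (zpowers_le.2 (cent_le_norm _ (a3 h)))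

theorem n3 : clos [c1, c2, c3] ≤ 𝐍[FV t c1 c2 c3 p1 p2 p3] := by
  rw [closB, FV_eq]
  exact sup_le (sup_le (zpowers_le.2 (norm_ext (norm_ext ((T1 h).norm (a1 h) (b1 h)) h.cp.1.symm
      h.cc.1.symm) h.cp.2.1.symm h.cc.2.1.symm))
    (zpowers_le.2 (norm_ext ((T2 h).norm (a2 h) (b2 h)) h.cp.2.2.2.1.symm h.cc.2.2.symm)))
    (zpowers_le.2 ((T3 h).norm (a3 h) (b3 h)))

theorem d2 : c2 ∈ 𝐂[zpowers c1] := cent_zp h.cc.1
theorem d3 : c3 ∈ 𝐂[zpowers c1 ⊔ zpowers c2] := cent_sup_zp (cent_zp h.cc.2.1) h.cc.2.2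
theorem e2 : p2 ∈ 𝐂[zpowers c1] := cent_zp h.cp.1
theorem e3 : p3 ∈ 𝐂[zpowers c1 ⊔ zpowers c2] := cent_sup_zp (cent_zp h.cp.2.1) h.cp.2.2.2.1

theorem B_exp : ∀ x ∈ clos [c1, c2, c3], x ^ 3 = 1 := by
  rw [closB, ← bot_sup_eq (zpowers c1)]
  refine pow_sup (pow_sup (pow_sup (fun u hu => by rw [mem_bot.1 hu, one_pow]) ?_ h.o.1) ?_ h.o.2.1)
    ?_ h.o.2.2
  · rw [cent_bot]; trivial
  · rw [bot_sup_eq]; exact d2 h
  · rw [bot_sup_eq]; exact d3 h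

theorem B_comm : clos [c1, c2, c3] ≤ 𝐂[clos [c1, c2, c3]] := by
  rw [closB]
  exact comm_sup (comm_sup (zpowers_le.2 (cent_zp rfl)) (d2 h)) (d3 h)

theorem B_inf {y : G} (hy : y ∈ clos [c1, c2, c3]) (hc : y ∈ 𝐂[FV t c1 c2 c3 p1 p2 p3]) : y = 1 := by
  rw [closB] at hy
  have h3 := (T3 h).mem_of_comm (d3 h) (e3 h) hy (mem_cent.1 hc _ (mem_clos (by simp)))
  have h2 := (T2 h).mem_of_comm (d2 h) (e2 h) h3 (mem_cent.1 hc _ (mem_clos (by simp)))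
  rw [← bot_sup_eq (zpowers c1)] at h2
  exact mem_bot.1 ((T1 h).mem_of_comm (by rw [cent_bot]; trivial) (by rw [cent_bot]; trivial) h2
    (mem_cent.1 hc _ (mem_clos (by simp))))

end Flag1

open Flag1

namespace Fl

variable {t c1 c2 c3 p1 p2 p3 : G} (h : Fl t c1 c2 c3 p1 p2 p3)
include h

theorem comm : ∀ x ∈ FV t c1 c2 c3 p1 p2 p3, ∀ y ∈ FV t c1 c2 c3 p1 p2 p3, x * y = y * x := by
  rw [FV_eq]
  exact fun x hx y hy => Loc.Mss.mem_cent.1 ((T3 h).ab (a3 h) (b3 h) ((T2 h).ab (a2 h) (b2 h)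
    ((T1 h).ab (a1 h) (b1 h) (zpowers_le.2 (cent_zp rfl)))) hy) x hx
theorem exp : ∀ x ∈ FV t c1 c2 c3 p1 p2 p3, x * x = 1 := fun x hx => by
  rw [← pow_two, el3 h x hx]
theorem card : Nat.card (FV t c1 c2 c3 p1 p2 p3) = 128 := by
  rw [FV_eq, (T3 h).card2 (a3 h) (b3 h), card2 h]
theorem norm : clos [c1, c2, c3] ≤ normalizer (FV t c1 c2 c3 p1 p2 p3 : Set G) := n3 h
theorem card_B : Nat.card (clos [c1, c2, c3]) = 27 := by
  haveI : Fact (Nat.Prime 3) := ⟨Nat.prime_three⟩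
  have h1 : c1 ≠ 1 := fun e => (T1 h).notMem (mem_centralizer_singleton_iff.2 (by simp [e]))
  rw [closB, GT.PG.card_sup_zpowers Nat.prime_three (Loc.Mss.cent_le_norm _ (d3 h))
    ((T3 h).c_notMem (e3 h)) (by rw [h.o.2.2]; exact one_mem _),
    GT.PG.card_sup_zpowers Nat.prime_three (Loc.Mss.cent_le_norm _ (d2 h))
    ((T2 h).c_notMem (e2 h)) (by rw [h.o.2.1]; exact one_mem _), Nat.card_zpowers,
    orderOf_eq_prime h.o.1 h1]

theorem fix3 {x : G} (hx : x ∈ FV t c1 c2 c3 p1 p2 p3) (h3 : c3 * x * c3⁻¹ * x⁻¹ ∈ zpowers t) :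
    x ∈ clos [t, p1, c1 * p1 * c1⁻¹, p2, c2 * p2 * c2⁻¹] := by
  rw [FV_eq] at hx
  rw [clos5]
  exact (T3 h).fix (a3 h) (b3 h) hx
    (zpowers_le.2 (mem_centralizer_singleton_iff.2 h.ct.2.2.symm) h3)

/-- Elements of `V` that are determined by their centralisers. -/
theorem fix12 {x : G} (hx : x ∈ FV t c1 c2 c3 p1 p2 p3) (h1 : c1 * x * c1⁻¹ * x⁻¹ ∈ zpowers t)
    (h2 : c2 * x * c2⁻¹ * x⁻¹ ∈ zpowers t) : x ∈ clos [t, p3, c3 * p3 * c3⁻¹] := by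
  rw [← FV_swap] at hx
  have h3 := (swap h).fix3 hx h1
  rw [clos5] at h3
  rw [clos3]
  exact (T2 h).fix (a2 (swap h)) (b2 (swap h)) h3
    (zpowers_le.2 (mem_centralizer_singleton_iff.2 h.ct.2.1.symm) h2)

theorem tri3 {x : G} (hx : x ∈ FV t c1 c2 c3 p1 p2 p3) (h3 : x * (c3 * x * c3⁻¹) * (c3⁻¹ * x * c3) = 1) :
    x ∈ clos [p3, c3 * p3 * c3⁻¹] := by
  rw [FV_eq] at hx
  have m1 : p3 ∈ clos [p3, c3 * p3 * c3⁻¹] := mem_clos (by simp)
  have m2 : c3 * p3 * c3⁻¹ ∈ clos [p3, c3 * p3 * c3⁻¹] := mem_clos (by simp)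
  rcases (T3 h).tri3 (a3 h) (b3 h) (el2 h) hx h3 with e | e | e | e <;> rw [e]
  · exact one_mem _
  · exact m1
  · exact m2
  · exact mul_mem m1 m2

open Cfsg.Agent.Loc.Mss in
/-- The order of the centraliser of `V` is prime to three. -/
theorem cop (gl : Gl G) : (Nat.card (centralizer (FV t c1 c2 c3 p1 p2 p3 : Set G))).Coprime 3 := by
  haveI : Fact (Nat.Prime 3) := ⟨Nat.prime_three⟩
  have hB : IsPGroup 3 (clos [c1, c2, c3]) := pg_iff.2 fun x hx => ⟨1, by rw [pow_one, B_exp h x hx]⟩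
  have hn := norm_cent (n3 h)
  obtain ⟨P, h1, hP⟩ := Loc.Mss.Syl.exists_ge hB
    (le_sup_right : _ ≤ 𝐂[FV t c1 c2 c3 p1 p2 p3] ⊔ clos [c1, c2, c3])
  have h2 := hP.inf le_sup_left (hP.le.trans (sup_le le_normalizer hn))
  rw [← h2.eq_bot_iff]
  by_contra h3
  obtain ⟨n, hn0, hn1⟩ := (IsPGroup.nontrivial_iff_card (h2.pg.to_le (inf_le_left :
      (P ⊓ 𝐂[FV t c1 c2 c3 p1 p2 p3]) ⊓ 𝐂[clos [c1, c2, c3]] ≤ _))).1
    ((nontrivial_iff_ne_bot _).2 (GT.PG.inf_centralizer_ne_bot_of_isPGroup h2.pg hB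
      (norm_inf (norm_of_le h1) hn) h3))
  obtain ⟨y, hy⟩ := exists_prime_orderOf_dvd_card' 3 (hn1 ▸ dvd_pow_self 3 hn0.ne')
  have y3 : (y : G) ^ 3 = 1 := by rw [← Subgroup.coe_pow, ← hy, pow_orderOf_eq_one, Subgroup.coe_one]
  have y1 : (y : G) ∉ clos [c1, c2, c3] := fun e => by
    rw [show y = 1 from Subtype.ext (B_inf h e y.2.1.2), orderOf_one] at hy
    exact absurd hy (by norm_num)
  have h4 := gl.rk (clos [c1, c2, c3] ⊔ zpowers (y : G)) (FV t c1 c2 c3 p1 p2 p3)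
    (fun a ha b hb => mem_cent.1 (comm_sup (B_comm h) y.2.2 hb) a ha) (pow_sup (B_exp h) y.2.2 y3)
    (by rw [GT.PG.card_sup_zpowers Nat.prime_three (cent_le_norm _ y.2.2) y1
      (by rw [y3]; exact one_mem _), h.card_B]) (pgV h)
    (sup_le (n3 h) (zpowers_le.2 (cent_le_norm _ y.2.1.2)))
  have h5 := h.card
  rw [h4, card_bot] at h5
  exact absurd h5 (by norm_num)

variable (hN : centralizer {t} ≤ normalizer (FV t c1 c2 c3 p1 p2 p3 : Set G))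
  (h2 : IsPGroup 2 (centralizer (FV t c1 c2 c3 p1 p2 p3 : Set G)))
  (hX : ∀ X : Subgroup G, IsPGroup 2 X → X ≤ centralizer {t} → clos [c1, c2, c3] ≤ normalizer (X : Set G) →
    X ≤ centralizer (FV t c1 c2 c3 p1 p2 p3 : Set G))
include hN h2 hX

open Cfsg.Agent.Loc.Mss in
/-- An element acting trivially on `V / ⟨t⟩` centralises `V`. -/
theorem ker {g : G} (hg : g * t = t * g) (hc : ∀ x ∈ FV t c1 c2 c3 p1 p2 p3, g * x * g⁻¹ * x⁻¹ ∈ zpowers t) :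
    g ∈ centralizer (FV t c1 c2 c3 p1 p2 p3 : Set G) := by
  have hg' : g ∈ centralizer ({t} : Set G) := mem_centralizer_singleton_iff.2 hg
  have r := res_le (p := 2) (centralizer {t} ⊓ cmod (FV t c1 c2 c3 p1 p2 p3) (zpowers t))
  refine hX (centralizer {t} ⊓ cmod (FV t c1 c2 c3 p1 p2 p3) (zpowers t))
    (pg_of_res_le h2 (res_le_cent_of_two (pgV h) (r.trans (inf_le_left.trans hN))
      (le_cmod.1 (r.trans inf_le_right)).2 (r.trans (inf_le_left.trans (C1_le t))))) inf_le_left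
    (norm_inf (norm_of_le (B_le h)) (norm_cmod (n3 h) (n0 h)))
    ⟨hg', mem_cmod.2 ⟨cent_le_norm _ (C1_le t hg'), fun v hv => ?_⟩⟩
  rw [← commutatorElement_inv]
  exact inv_mem (hc v hv)

open Cfsg.Agent.Loc.Mss in
theorem bound : Nat.card (centralizer ({t} : Set G)) ≤
    4921560 * Nat.card (centralizer (FV t c1 c2 c3 p1 p2 p3 : Set G)) := by
  have l2 := le3 h
  have l1 := le_ext.trans l2
  obtain ⟨s1, m1⟩ := (T1 h).steps (n := 62) (a1 h) (b1 h) hN ((C1_le t).trans (cent_le_norm _)) l1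
    (by rw [h.card, card0 h])
  obtain ⟨s2, m2⟩ := (T2 h).steps (n := 14) (a2 h) (b2 h) (inf_le_left.trans hN) m1 l2
    (by rw [h.card, card1 h])
  obtain ⟨s3, -⟩ := (T3 h).steps (n := 2) (a3 h) (b3 h) (inf_le_left.trans (inf_le_left.trans hN)) m2
    (FV_eq t c1 c2 c3 p1 p2 p3).ge (by rw [h.card, card2 h])
  rw [← FV_eq] at s3
  set R := centralizer {t} ⊓ cmod (ext (zpowers t) c1 p1) (zpowers t) ⊓
    cmod (ext (ext (zpowers t) c1 p1) c2 p2) (ext (zpowers t) c1 p1) ⊓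
    cmod (FV t c1 c2 c3 p1 p2 p3) (ext (ext (zpowers t) c1 p1) c2 p2) with hR
  have r : pResidualOf 2 R ≤ R := res_le R
  have r2 := r.trans inf_le_left
  have r1 := r2.trans inf_le_left
  have r0 := r1.trans inf_le_left
  have k1 := res_le_cent_of_two ((pgV h).to_le l1) (r1.trans m1) (le_cmod.1 (r1.trans inf_le_right)).2
    (r0.trans (C1_le t))
  have k2 := res_le_cent_of_two ((pgV h).to_le l2) (r2.trans m2) (le_cmod.1 (r2.trans inf_le_right)).2 k1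
  have k3 := res_le_cent_of_two (pgV h) (r0.trans hN) (le_cmod.1 (r.trans inf_le_right)).2 k2
  have s4 := card_le_of_le (hX R (pg_of_res_le h2 k3)
    (inf_le_left.trans (inf_le_left.trans inf_le_left))
    (norm_inf (norm_inf (norm_inf (norm_of_le (B_le h)) (norm_cmod (n1 h) (n0 h)))
      (norm_cmod (n2 h) (n1 h))) (norm_cmod (n3 h) (n2 h))))
  omega

open Cfsg.Agent.Loc.Mss in
theorem good {K M : Subgroup G} (hK : K ≤ centralizer {t}) (hc : Nat.card K = 1451520)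
    (hd : K ⊓ centralizer (FV t c1 c2 c3 p1 p2 p3 : Set G) = ⊥) (hKM : K ≤ M)
    (hM : centralizer (FV t c1 c2 c3 p1 p2 p3 : Set G) ≤ M) {y : G} (hy : y ∈ K) (h3 : orderOf y = 3) (hG : Good M y) :
    centralizer {t} ≤ M := by
  have h4 := h.bound hN h2 hX
  have h5 := GT.PG.card_sup_of_inf_eq_bot (norm_cent (hK.trans hN)) hd
  have h6 : 𝐂[FV t c1 c2 c3 p1 p2 p3] ≤ centralizer {t} := fun g hg =>
    mem_centralizer_singleton_iff.2 (mem_cent.1 hg t (mem_clos (by simp))).symm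
  have h7 := card_le_of_le (le_inf (sup_le hK h6) (sup_le hKM hM))
  have h8 := (M.subgroupOf (centralizer {t})).index_mul_card
  rw [← inf_subgroupOf_left, Nat.card_congr (subgroupOfEquivOfLe inf_le_left).toEquiv,
    inf_subgroupOf_left] at h8
  have h9 : (M.subgroupOf (centralizer {t})).index ≤ 3 := by
    by_contra h10
    have h11 := Nat.mul_le_mul_right (Nat.card (centralizer {t} ⊓ M : Subgroup G))
      (show 4 ≤ (M.subgroupOf (centralizer {t})).index by omega)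
    have h12 : 0 < Nat.card (centralizer (FV t c1 c2 c3 p1 p2 p3 : Set G)) := Nat.card_pos
    rw [h5, hc] at h7
    omega
  intro g hg
  have h13 := conj_mem_of_index h9 (y := ⟨y, hK hy⟩) (hKM hy)
    (Subtype.ext (by rw [Subgroup.coe_pow, ← h3, pow_orderOf_eq_one, Subgroup.coe_one])) ⟨g, hg⟩⁻¹
  rw [inv_inv] at h13
  exact hG.of_conj h13

end Fl

end Cfsg.Agent.S8
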