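import Mathlib
import Cfsg.Agent.Rec.Tree
import Cfsg.Agent.Rec.B8

/-! Generated by tools/rec: two subgroups of Sp8(2) -/

set_option autoImplicit false
set_option maxRecDepth 100000
set_option linter.unusedVariables false
set_option exponentiation.threshold 100000

namespace Cfsg.Agent.S8.BF2

open Cfsg.Agent.Spor Cfsg.Agent.Rec

universe u

noncomputable def V8_t : ST :=
(.node (nat_lit 0x80c020100c040201) (.node (nat_lit 0x8040a0100a040201) (.node (nat_lit 0x8040209009040201) (.node (nat_lit 0x8040201088040201) (.node (nat_lit 0x8040201048840201) (.node (nat_lit 0x8040201028048201) (.node (nat_lit 0x8040201018040281) (.leaf (nat_lit 0x8040201008040201) (nat_lit 0))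
 (.leaf (nat_lit 0x8040201018040281) (nat_lit 513))
) (.node (nat_lit 0x8040201038048281) (.leaf (nat_lit 0x8040201028048201) (nat_lit 515))
 (.leaf (nat_lit 0x8040201038048281) (nat_lit 515))
)) (.node (nat_lit 0x8040201068848201) (.node (nat_lit 0x8040201058840281) (.leaf (nat_lit 0x8040201048840201) (nat_lit 517))
 (.leaf (nat_lit 0x8040201058840281) (nat_lit 517))
) (.node (nat_lit 0x8040201078848281) (.leaf (nat_lit 0x8040201068848201) (nat_lit 517))
 (.leaf (nat_lit 0x8040201078848281) (nat_lit 1029))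
))) (.node (nat_lit 0x80402010c8840201) (.node (nat_lit 0x80402010a8048201) (.node (nat_lit 0x8040201098040281) (.leaf (nat_lit 0x8040201088040201) (nat_lit 256))
 (.leaf (nat_lit 0x8040201098040281) (nat_lit 257))
) (.node (nat_lit 0x80402010b8048281) (.leaf (nat_lit 0x80402010a8048201) (nat_lit 259))
 (.leaf (nat_lit 0x80402010b8048281) (nat_lit 771))
)) (.node (nat_lit 0x80402010e8848201) (.node (nat_lit 0x80402010d8840281) (.leaf (nat_lit 0x80402010c8840201) (nat_lit 261))
 (.leaf (nat_lit 0x80402010d8840281) (nat_lit 773))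
) (.node (nat_lit 0x80402010f8848281) (.leaf (nat_lit 0x80402010e8848201) (nat_lit 773))
 (.leaf (nat_lit 0x80402010f8848281) (nat_lit 773))
)))) (.node (nat_lit 0x8040209089040201) (.node (nat_lit 0x8040209049840201) (.node (nat_lit 0x8040209029048201) (.node (nat_lit 0x8040209019040281) (.leaf (nat_lit 0x8040209009040201) (nat_lit 770))
 (.leaf (nat_lit 0x8040209019040281) (nat_lit 514))
) (.node (nat_lit 0x8040209039048281) (.leaf (nat_lit 0x8040209029048201) (nat_lit 771))
 (.leaf (nat_lit 0x8040209039048281) (nat_lit 515))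
)) (.node (nat_lit 0x8040209069848201) (.node (nat_lit 0x8040209059840281) (.leaf (nat_lit 0x8040209049840201) (nat_lit 773))
 (.leaf (nat_lit 0x8040209059840281) (nat_lit 517))
) (.node (nat_lit 0x8040209079848281) (.leaf (nat_lit 0x8040209069848201) (nat_lit 1285))
 (.leaf (nat_lit 0x8040209079848281) (nat_lit 1029))
))) (.node (nat_lit 0x80402090c9840201) (.node (nat_lit 0x80402090a9048201) (.node (nat_lit 0x8040209099040281) (.leaf (nat_lit 0x8040209089040201) (nat_lit 514))
 (.leaf (nat_lit 0x8040209099040281) (nat_lit 258))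
) (.node (nat_lit 0x80402090b9048281) (.leaf (nat_lit 0x80402090a9048201) (nat_lit 1027))
 (.leaf (nat_lit 0x80402090b9048281) (nat_lit 771))
)) (.node (nat_lit 0x80402090e9848201) (.node (nat_lit 0x80402090d9840281) (.leaf (nat_lit 0x80402090c9840201) (nat_lit 1029))
 (.leaf (nat_lit 0x80402090d9840281) (nat_lit 773))
) (.node (nat_lit 0x80402090f9848281) (.leaf (nat_lit 0x80402090e9848201) (nat_lit 1029))
 (.leaf (nat_lit 0x80402090f9848281) (nat_lit 773))
))))) (.node (nat_lit 0x8040a0900b040201) (.node (nat_lit 0x8040a0108a040201) (.node (nat_lit 0x8040a0104a840201) (.node (nat_lit 0x8040a0102a048201) (.node (nat_lit 0x8040a0101a040281) (.leaf (nat_lit 0x8040a0100a040201) (nat_lit 772))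
 (.leaf (nat_lit 0x8040a0101a040281) (nat_lit 772))
) (.node (nat_lit 0x8040a0103a048281) (.leaf (nat_lit 0x8040a0102a048201) (nat_lit 516))
 (.leaf (nat_lit 0x8040a0103a048281) (nat_lit 516))
)) (.node (nat_lit 0x8040a0106a848201) (.node (nat_lit 0x8040a0105a840281) (.leaf (nat_lit 0x8040a0104a840201) (nat_lit 773))
 (.leaf (nat_lit 0x8040a0105a840281) (nat_lit 1285))
) (.node (nat_lit 0x8040a0107a848281) (.leaf (nat_lit 0x8040a0106a848201) (nat_lit 517))
 (.leaf (nat_lit 0x8040a0107a848281) (nat_lit 1029))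
))) (.node (nat_lit 0x8040a010ca840201) (.node (nat_lit 0x8040a010aa048201) (.node (nat_lit 0x8040a0109a040281) (.leaf (nat_lit 0x8040a0108a040201) (nat_lit 516))
 (.leaf (nat_lit 0x8040a0109a040281) (nat_lit 1028))
) (.node (nat_lit 0x8040a010ba048281) (.leaf (nat_lit 0x8040a010aa048201) (nat_lit 260))
 (.leaf (nat_lit 0x8040a010ba048281) (nat_lit 772))
)) (.node (nat_lit 0x8040a010ea848201) (.node (nat_lit 0x8040a010da840281) (.leaf (nat_lit 0x8040a010ca840201) (nat_lit 1029))
 (.leaf (nat_lit 0x8040a010da840281) (nat_lit 1029))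
) (.node (nat_lit 0x8040a010fa848281) (.leaf (nat_lit 0x8040a010ea848201) (nat_lit 773))
 (.leaf (nat_lit 0x8040a010fa848281) (nat_lit 773))
)))) (.node (nat_lit 0x8040a0908b040201) (.node (nat_lit 0x8040a0904b840201) (.node (nat_lit 0x8040a0902b048201) (.node (nat_lit 0x8040a0901b040281) (.leaf (nat_lit 0x8040a0900b040201) (nat_lit 1028))
 (.leaf (nat_lit 0x8040a0901b040281) (nat_lit 772))
) (.node (nat_lit 0x8040a0903b048281) (.leaf (nat_lit 0x8040a0902b048201) (nat_lit 772))
 (.leaf (nat_lit 0x8040a0903b048281) (nat_lit 516))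
)) (.node (nat_lit 0x8040a0906b848201) (.node (nat_lit 0x8040a0905b840281) (.leaf (nat_lit 0x8040a0904b840201) (nat_lit 1541))
 (.leaf (nat_lit 0x8040a0905b840281) (nat_lit 1285))
) (.node (nat_lit 0x8040a0907b848281) (.leaf (nat_lit 0x8040a0906b848201) (nat_lit 1285))
 (.leaf (nat_lit 0x8040a0907b848281) (nat_lit 1029))
))) (.node (nat_lit 0x8040a090cb840201) (.node (nat_lit 0x8040a090ab048201) (.node (nat_lit 0x8040a0909b040281) (.leaf (nat_lit 0x8040a0908b040201) (nat_lit 1284))
 (.leaf (nat_lit 0x8040a0909b040281) (nat_lit 1028))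
) (.node (nat_lit 0x8040a090bb048281) (.leaf (nat_lit 0x8040a090ab048201) (nat_lit 1028))
 (.leaf (nat_lit 0x8040a090bb048281) (nat_lit 772))
)) (.node (nat_lit 0x8040a090eb848201) (.node (nat_lit 0x8040a090db840281) (.leaf (nat_lit 0x8040a090cb840201) (nat_lit 1285))
 (.leaf (nat_lit 0x8040a090db840281) (nat_lit 1029))
) (.node (nat_lit 0x8040a090fb848281) (.leaf (nat_lit 0x8040a090eb848201) (nat_lit 1029))
 (.leaf (nat_lit 0x8040a090fb848281) (nat_lit 773))
)))))) (.node (nat_lit 0x80c0a0100e040201) (.node (nat_lit 0x80c020900d040201) (.node (nat_lit 0x80c020108c040201) (.node (nat_lit 0x80c020104c840201) (.node (nat_lit 0x80c020102c048201) (.node (nat_lit 0x80c020101c040281) (.leaf (nat_lit 0x80c020100c040201) (nat_lit 774))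
 (.leaf (nat_lit 0x80c020101c040281) (nat_lit 774))
) (.node (nat_lit 0x80c020103c048281) (.leaf (nat_lit 0x80c020102c048201) (nat_lit 774))
 (.leaf (nat_lit 0x80c020103c048281) (nat_lit 1286))
)) (.node (nat_lit 0x80c020106c848201) (.node (nat_lit 0x80c020105c840281) (.leaf (nat_lit 0x80c020104c840201) (nat_lit 518))
 (.leaf (nat_lit 0x80c020105c840281) (nat_lit 518))
) (.node (nat_lit 0x80c020107c848281) (.leaf (nat_lit 0x80c020106c848201) (nat_lit 518))
 (.leaf (nat_lit 0x80c020107c848281) (nat_lit 1030))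
))) (.node (nat_lit 0x80c02010cc840201) (.node (nat_lit 0x80c02010ac048201) (.node (nat_lit 0x80c020109c040281) (.leaf (nat_lit 0x80c020108c040201) (nat_lit 518))
 (.leaf (nat_lit 0x80c020109c040281) (nat_lit 1030))
) (.node (nat_lit 0x80c02010bc048281) (.leaf (nat_lit 0x80c02010ac048201) (nat_lit 1030))
 (.leaf (nat_lit 0x80c02010bc048281) (nat_lit 1030))
)) (.node (nat_lit 0x80c02010ec848201) (.node (nat_lit 0x80c02010dc840281) (.leaf (nat_lit 0x80c02010cc840201) (nat_lit 262))
 (.leaf (nat_lit 0x80c02010dc840281) (nat_lit 774))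
) (.node (nat_lit 0x80c02010fc848281) (.leaf (nat_lit 0x80c02010ec848201) (nat_lit 774))
 (.leaf (nat_lit 0x80c02010fc848281) (nat_lit 774))
)))) (.node (nat_lit 0x80c020908d040201) (.node (nat_lit 0x80c020904d840201) (.node (nat_lit 0x80c020902d048201) (.node (nat_lit 0x80c020901d040281) (.leaf (nat_lit 0x80c020900d040201) (nat_lit 1030))
 (.leaf (nat_lit 0x80c020901d040281) (nat_lit 774))
) (.node (nat_lit 0x80c020903d048281) (.leaf (nat_lit 0x80c020902d048201) (nat_lit 1542))
 (.leaf (nat_lit 0x80c020903d048281) (nat_lit 1286))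
)) (.node (nat_lit 0x80c020906d848201) (.node (nat_lit 0x80c020905d840281) (.leaf (nat_lit 0x80c020904d840201) (nat_lit 774))
 (.leaf (nat_lit 0x80c020905d840281) (nat_lit 518))
) (.node (nat_lit 0x80c020907d848281) (.leaf (nat_lit 0x80c020906d848201) (nat_lit 1286))
 (.leaf (nat_lit 0x80c020907d848281) (nat_lit 1030))
))) (.node (nat_lit 0x80c02090cd840201) (.node (nat_lit 0x80c02090ad048201) (.node (nat_lit 0x80c020909d040281) (.leaf (nat_lit 0x80c020908d040201) (nat_lit 1286))
 (.leaf (nat_lit 0x80c020909d040281) (nat_lit 1030))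
) (.node (nat_lit 0x80c02090bd048281) (.leaf (nat_lit 0x80c02090ad048201) (nat_lit 1286))
 (.leaf (nat_lit 0x80c02090bd048281) (nat_lit 1030))
)) (.node (nat_lit 0x80c02090ed848201) (.node (nat_lit 0x80c02090dd840281) (.leaf (nat_lit 0x80c02090cd840201) (nat_lit 1030))
 (.leaf (nat_lit 0x80c02090dd840281) (nat_lit 774))
) (.node (nat_lit 0x80c02090fd848281) (.leaf (nat_lit 0x80c02090ed848201) (nat_lit 1030))
 (.leaf (nat_lit 0x80c02090fd848281) (nat_lit 774))
))))) (.node (nat_lit 0x80c0a0900f040201) (.node (nat_lit 0x80c0a0108e040201) (.node (nat_lit 0x80c0a0104e840201) (.node (nat_lit 0x80c0a0102e048201) (.node (nat_lit 0x80c0a0101e040281) (.leaf (nat_lit 0x80c0a0100e040201) (nat_lit 1030))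
 (.leaf (nat_lit 0x80c0a0101e040281) (nat_lit 1542))
) (.node (nat_lit 0x80c0a0103e048281) (.leaf (nat_lit 0x80c0a0102e048201) (nat_lit 774))
 (.leaf (nat_lit 0x80c0a0103e048281) (nat_lit 1286))
)) (.node (nat_lit 0x80c0a0106e848201) (.node (nat_lit 0x80c0a0105e840281) (.leaf (nat_lit 0x80c0a0104e840201) (nat_lit 774))
 (.leaf (nat_lit 0x80c0a0105e840281) (nat_lit 1286))
) (.node (nat_lit 0x80c0a0107e848281) (.leaf (nat_lit 0x80c0a0106e848201) (nat_lit 518))
 (.leaf (nat_lit 0x80c0a0107e848281) (nat_lit 1030))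
))) (.node (nat_lit 0x80c0a010ce840201) (.node (nat_lit 0x80c0a010ae048201) (.node (nat_lit 0x80c0a0109e040281) (.leaf (nat_lit 0x80c0a0108e040201) (nat_lit 1286))
 (.leaf (nat_lit 0x80c0a0109e040281) (nat_lit 1286))
) (.node (nat_lit 0x80c0a010be048281) (.leaf (nat_lit 0x80c0a010ae048201) (nat_lit 1030))
 (.leaf (nat_lit 0x80c0a010be048281) (nat_lit 1030))
)) (.node (nat_lit 0x80c0a010ee848201) (.node (nat_lit 0x80c0a010de840281) (.leaf (nat_lit 0x80c0a010ce840201) (nat_lit 1030))
 (.leaf (nat_lit 0x80c0a010de840281) (nat_lit 1030))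
) (.node (nat_lit 0x80c0a010fe848281) (.leaf (nat_lit 0x80c0a010ee848201) (nat_lit 774))
 (.leaf (nat_lit 0x80c0a010fe848281) (nat_lit 774))
)))) (.node (nat_lit 0x80c0a0908f040201) (.node (nat_lit 0x80c0a0904f840201) (.node (nat_lit 0x80c0a0902f048201) (.node (nat_lit 0x80c0a0901f040281) (.leaf (nat_lit 0x80c0a0900f040201) (nat_lit 1798))
 (.leaf (nat_lit 0x80c0a0901f040281) (nat_lit 1542))
) (.node (nat_lit 0x80c0a0903f048281) (.leaf (nat_lit 0x80c0a0902f048201) (nat_lit 1542))
 (.leaf (nat_lit 0x80c0a0903f048281) (nat_lit 1286))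
)) (.node (nat_lit 0x80c0a0906f848201) (.node (nat_lit 0x80c0a0905f840281) (.leaf (nat_lit 0x80c0a0904f840201) (nat_lit 1542))
 (.leaf (nat_lit 0x80c0a0905f840281) (nat_lit 1286))
) (.node (nat_lit 0x80c0a0907f848281) (.leaf (nat_lit 0x80c0a0906f848201) (nat_lit 1286))
 (.leaf (nat_lit 0x80c0a0907f848281) (nat_lit 1030))
))) (.node (nat_lit 0x80c0a090cf840201) (.node (nat_lit 0x80c0a090af048201) (.node (nat_lit 0x80c0a0909f040281) (.leaf (nat_lit 0x80c0a0908f040201) (nat_lit 1542))
 (.leaf (nat_lit 0x80c0a0909f040281) (nat_lit 1286))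
) (.node (nat_lit 0x80c0a090bf048281) (.leaf (nat_lit 0x80c0a090af048201) (nat_lit 1286))
 (.leaf (nat_lit 0x80c0a090bf048281) (nat_lit 1030))
)) (.node (nat_lit 0x80c0a090ef848201) (.node (nat_lit 0x80c0a090df840281) (.leaf (nat_lit 0x80c0a090cf840201) (nat_lit 1286))
 (.leaf (nat_lit 0x80c0a090df840281) (nat_lit 1030))
) (.node (nat_lit 0x80c0a090ff848281) (.leaf (nat_lit 0x80c0a090ef848201) (nat_lit 1030))
 (.leaf (nat_lit 0x80c0a090ff848281) (nat_lit 774))
)))))))

theorem V8_ok : genOK B8.A [(nat_lit 0x8040201088040201), (nat_lit 0x8040201098040281), (nat_lit 0x8040209099040281), (nat_lit 0x80402010a8048201), (nat_lit 0x8040a010aa048201), (nat_lit 0x80402010c8840201), (nat_lit 0x80c02010cc840201)] V8_t (nat_lit 128) = true := by decide +kernel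

noncomputable def F8_t : ST :=
(.node (nat_lit 0x8040110208041022) (.node (nat_lit 0x8004201008440201) (.node (nat_lit 0x8004100208440122) (.node (nat_lit 0x8004020108402211) (.node (nat_lit 0x8004012008441102) (.node (nat_lit 0x8004010208441122) (.leaf (nat_lit 0x8004010208401122) (nat_lit 1028))
 (.node (nat_lit 0x8004012008401102) (.leaf (nat_lit 0x8004010208441122) (nat_lit 771))
 (.leaf (nat_lit 0x8004012008401102) (nat_lit 1540))
)) (.node (nat_lit 0x8004012208401120) (.leaf (nat_lit 0x8004012008441102) (nat_lit 1283))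
 (.node (nat_lit 0x8004012208441120) (.leaf (nat_lit 0x8004012208401120) (nat_lit 1028))
 (.leaf (nat_lit 0x8004012208441120) (nat_lit 771))
))) (.node (nat_lit 0x8004021008442201) (.node (nat_lit 0x8004020108442211) (.leaf (nat_lit 0x8004020108402211) (nat_lit 772))
 (.node (nat_lit 0x8004021008402201) (.leaf (nat_lit 0x8004020108442211) (nat_lit 515))
 (.leaf (nat_lit 0x8004021008402201) (nat_lit 1284))
)) (.node (nat_lit 0x8004021108442210) (.node (nat_lit 0x8004021108402210) (.leaf (nat_lit 0x8004021008442201) (nat_lit 1027))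
 (.leaf (nat_lit 0x8004021108402210) (nat_lit 1028))
) (.node (nat_lit 0x8004100208400122) (.leaf (nat_lit 0x8004021108442210) (nat_lit 771))
 (.leaf (nat_lit 0x8004100208400122) (nat_lit 1540))
)))) (.node (nat_lit 0x8004112008401002) (.node (nat_lit 0x8004102208400120) (.node (nat_lit 0x8004102008400102) (.leaf (nat_lit 0x8004100208440122) (nat_lit 1283))
 (.node (nat_lit 0x8004102008440102) (.leaf (nat_lit 0x8004102008400102) (nat_lit 772))
 (.leaf (nat_lit 0x8004102008440102) (nat_lit 515))
)) (.node (nat_lit 0x8004110208401022) (.node (nat_lit 0x8004102208440120) (.leaf (nat_lit 0x8004102208400120) (nat_lit 1284))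
 (.leaf (nat_lit 0x8004102208440120) (nat_lit 1027))
) (.node (nat_lit 0x8004110208441022) (.leaf (nat_lit 0x8004110208401022) (nat_lit 1028))
 (.leaf (nat_lit 0x8004110208441022) (nat_lit 771))
))) (.node (nat_lit 0x8004112208441020) (.node (nat_lit 0x8004112008441002) (.leaf (nat_lit 0x8004112008401002) (nat_lit 1284))
 (.node (nat_lit 0x8004112208401020) (.leaf (nat_lit 0x8004112008441002) (nat_lit 1027))
 (.leaf (nat_lit 0x8004112208401020) (nat_lit 1284))
)) (.node (nat_lit 0x8004200108440211) (.node (nat_lit 0x8004200108400211) (.leaf (nat_lit 0x8004112208441020) (nat_lit 1027))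
 (.leaf (nat_lit 0x8004200108400211) (nat_lit 1540))
) (.node (nat_lit 0x8004201008400201) (.leaf (nat_lit 0x8004200108440211) (nat_lit 1283))
 (.leaf (nat_lit 0x8004201008400201) (nat_lit 516))
))))) (.node (nat_lit 0x8040012208041120) (.node (nat_lit 0x8004221008442001) (.node (nat_lit 0x8004220108402011) (.node (nat_lit 0x8004201108400210) (.leaf (nat_lit 0x8004201008440201) (nat_lit 259))
 (.node (nat_lit 0x8004201108440210) (.leaf (nat_lit 0x8004201108400210) (nat_lit 1028))
 (.leaf (nat_lit 0x8004201108440210) (nat_lit 771))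
)) (.node (nat_lit 0x8004220108442011) (.leaf (nat_lit 0x8004220108402011) (nat_lit 772))
 (.node (nat_lit 0x8004221008402001) (.leaf (nat_lit 0x8004220108442011) (nat_lit 515))
 (.leaf (nat_lit 0x8004221008402001) (nat_lit 1284))
))) (.node (nat_lit 0x8040010208041122) (.node (nat_lit 0x8004221108402010) (.leaf (nat_lit 0x8004221008442001) (nat_lit 1027))
 (.node (nat_lit 0x8004221108442010) (.leaf (nat_lit 0x8004221108402010) (nat_lit 1028))
 (.leaf (nat_lit 0x8004221108442010) (nat_lit 771))
)) (.node (nat_lit 0x8040012008041102) (.node (nat_lit 0x8040010208441122) (.leaf (nat_lit 0x8040010208041122) (nat_lit 514))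
 (.leaf (nat_lit 0x8040010208441122) (nat_lit 772))
) (.node (nat_lit 0x8040012008441102) (.leaf (nat_lit 0x8040012008041102) (nat_lit 1025))
 (.leaf (nat_lit 0x8040012008441102) (nat_lit 1284))
)))) (.node (nat_lit 0x8040021108442210) (.node (nat_lit 0x8040020108442211) (.node (nat_lit 0x8040012208441120) (.leaf (nat_lit 0x8040012208041120) (nat_lit 514))
 (.node (nat_lit 0x8040020108042211) (.leaf (nat_lit 0x8040012208441120) (nat_lit 772))
 (.leaf (nat_lit 0x8040020108042211) (nat_lit 256))
)) (.node (nat_lit 0x8040021008442201) (.node (nat_lit 0x8040021008042201) (.leaf (nat_lit 0x8040020108442211) (nat_lit 516))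
 (.leaf (nat_lit 0x8040021008042201) (nat_lit 769))
) (.node (nat_lit 0x8040021108042210) (.leaf (nat_lit 0x8040021008442201) (nat_lit 1028))
 (.leaf (nat_lit 0x8040021108042210) (nat_lit 513))
))) (.node (nat_lit 0x8040102008040102) (.node (nat_lit 0x8040100208040122) (.leaf (nat_lit 0x8040021108442210) (nat_lit 772))
 (.node (nat_lit 0x8040100208440122) (.leaf (nat_lit 0x8040100208040122) (nat_lit 1026))
 (.leaf (nat_lit 0x8040100208440122) (nat_lit 1284))
)) (.node (nat_lit 0x8040102208040120) (.node (nat_lit 0x8040102008440102) (.leaf (nat_lit 0x8040102008040102) (nat_lit 258))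
 (.leaf (nat_lit 0x8040102008440102) (nat_lit 516))
) (.node (nat_lit 0x8040102208440120) (.leaf (nat_lit 0x8040102208040120) (nat_lit 769))
 (.leaf (nat_lit 0x8040102208440120) (nat_lit 1028))
)))))) (.node (nat_lit 0x8044021008402201) (.node (nat_lit 0x8040220108442011) (.node (nat_lit 0x8040200108040211) (.node (nat_lit 0x8040112008441002) (.node (nat_lit 0x8040110208441022) (.leaf (nat_lit 0x8040110208041022) (nat_lit 513))
 (.node (nat_lit 0x8040112008041002) (.leaf (nat_lit 0x8040110208441022) (nat_lit 772))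
 (.leaf (nat_lit 0x8040112008041002) (nat_lit 770))
)) (.node (nat_lit 0x8040112208041020) (.leaf (nat_lit 0x8040112008441002) (nat_lit 1028))
 (.node (nat_lit 0x8040112208441020) (.leaf (nat_lit 0x8040112208041020) (nat_lit 770))
 (.leaf (nat_lit 0x8040112208441020) (nat_lit 1028))
))) (.node (nat_lit 0x8040201008440201) (.node (nat_lit 0x8040200108440211) (.leaf (nat_lit 0x8040200108040211) (nat_lit 1025))
 (.node (nat_lit 0x8040201008040201) (.leaf (nat_lit 0x8040200108440211) (nat_lit 1284))
 (.leaf (nat_lit 0x8040201008040201) (nat_lit 0))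
)) (.node (nat_lit 0x8040201108440210) (.node (nat_lit 0x8040201108040210) (.leaf (nat_lit 0x8040201008440201) (nat_lit 260))
 (.leaf (nat_lit 0x8040201108040210) (nat_lit 513))
) (.node (nat_lit 0x8040220108042011) (.leaf (nat_lit 0x8040201108440210) (nat_lit 772))
 (.leaf (nat_lit 0x8040220108042011) (nat_lit 257))
)))) (.node (nat_lit 0x8044012008041102) (.node (nat_lit 0x8040221108042010) (.node (nat_lit 0x8040221008042001) (.leaf (nat_lit 0x8040220108442011) (nat_lit 516))
 (.node (nat_lit 0x8040221008442001) (.leaf (nat_lit 0x8040221008042001) (nat_lit 769))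
 (.leaf (nat_lit 0x8040221008442001) (nat_lit 1028))
)) (.node (nat_lit 0x8044010208041122) (.node (nat_lit 0x8040221108442010) (.leaf (nat_lit 0x8040221108042010) (nat_lit 512))
 (.leaf (nat_lit 0x8040221108442010) (nat_lit 772))
) (.node (nat_lit 0x8044010208401122) (.leaf (nat_lit 0x8044010208041122) (nat_lit 1027))
 (.leaf (nat_lit 0x8044010208401122) (nat_lit 1027))
))) (.node (nat_lit 0x8044012208401120) (.node (nat_lit 0x8044012008401102) (.leaf (nat_lit 0x8044012008041102) (nat_lit 1539))
 (.node (nat_lit 0x8044012208041120) (.leaf (nat_lit 0x8044012008401102) (nat_lit 1539))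
 (.leaf (nat_lit 0x8044012208041120) (nat_lit 1027))
)) (.node (nat_lit 0x8044020108402211) (.node (nat_lit 0x8044020108042211) (.leaf (nat_lit 0x8044012208401120) (nat_lit 1027))
 (.leaf (nat_lit 0x8044020108042211) (nat_lit 771))
) (.node (nat_lit 0x8044021008042201) (.leaf (nat_lit 0x8044020108402211) (nat_lit 771))
 (.leaf (nat_lit 0x8044021008042201) (nat_lit 1283))
))))) (.node (nat_lit 0x8044112208041020) (.node (nat_lit 0x8044102008400102) (.node (nat_lit 0x8044100208040122) (.node (nat_lit 0x8044021108042210) (.leaf (nat_lit 0x8044021008402201) (nat_lit 1283))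
 (.node (nat_lit 0x8044021108402210) (.leaf (nat_lit 0x8044021108042210) (nat_lit 1027))
 (.leaf (nat_lit 0x8044021108402210) (nat_lit 1027))
)) (.node (nat_lit 0x8044100208400122) (.leaf (nat_lit 0x8044100208040122) (nat_lit 1539))
 (.node (nat_lit 0x8044102008040102) (.leaf (nat_lit 0x8044100208400122) (nat_lit 1539))
 (.leaf (nat_lit 0x8044102008040102) (nat_lit 771))
))) (.node (nat_lit 0x8044110208041022) (.node (nat_lit 0x8044102208040120) (.leaf (nat_lit 0x8044102008400102) (nat_lit 771))
 (.node (nat_lit 0x8044102208400120) (.leaf (nat_lit 0x8044102208040120) (nat_lit 1283))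
 (.leaf (nat_lit 0x8044102208400120) (nat_lit 1283))
)) (.node (nat_lit 0x8044112008041002) (.node (nat_lit 0x8044110208401022) (.leaf (nat_lit 0x8044110208041022) (nat_lit 1027))
 (.leaf (nat_lit 0x8044110208401022) (nat_lit 1027))
) (.node (nat_lit 0x8044112008401002) (.leaf (nat_lit 0x8044112008041002) (nat_lit 1283))
 (.leaf (nat_lit 0x8044112008401002) (nat_lit 1283))
)))) (.node (nat_lit 0x8044201108400210) (.node (nat_lit 0x8044200108400211) (.node (nat_lit 0x8044112208401020) (.leaf (nat_lit 0x8044112208041020) (nat_lit 1283))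
 (.node (nat_lit 0x8044200108040211) (.leaf (nat_lit 0x8044112208401020) (nat_lit 1283))
 (.leaf (nat_lit 0x8044200108040211) (nat_lit 1539))
)) (.node (nat_lit 0x8044201008400201) (.node (nat_lit 0x8044201008040201) (.leaf (nat_lit 0x8044200108400211) (nat_lit 1539))
 (.leaf (nat_lit 0x8044201008040201) (nat_lit 515))
) (.node (nat_lit 0x8044201108040210) (.leaf (nat_lit 0x8044201008400201) (nat_lit 515))
 (.leaf (nat_lit 0x8044201108040210) (nat_lit 1027))
))) (.node (nat_lit 0x8044221008042001) (.node (nat_lit 0x8044220108042011) (.leaf (nat_lit 0x8044201108400210) (nat_lit 1027))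
 (.node (nat_lit 0x8044220108402011) (.leaf (nat_lit 0x8044220108042011) (nat_lit 771))
 (.leaf (nat_lit 0x8044220108402011) (nat_lit 771))
)) (.node (nat_lit 0x8044221108042010) (.node (nat_lit 0x8044221008402001) (.leaf (nat_lit 0x8044221008042001) (nat_lit 1283))
 (.leaf (nat_lit 0x8044221008402001) (nat_lit 1283))
) (.node (nat_lit 0x8044221108402010) (.leaf (nat_lit 0x8044221108042010) (nat_lit 1027))
 (.leaf (nat_lit 0x8044221108402010) (nat_lit 1027))
)))))))

theorem F8_ok : genOK B8.A [(nat_lit 0x8040020108042211), (nat_lit 0x8040220108042011), (nat_lit 0x8040102008040102), (nat_lit 0x8004201008440201), (nat_lit 0x8040201008440201)] F8_t (nat_lit 108) = true := by decide +kernel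

end Cfsg.Agent.S8.BF2
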