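import Mathlib
import Cfsg.Agent.S8.Loc
import Cfsg.Agent.S8.EnC

/-! The possible groups induced by `N(J)` on `J`. -/

set_option autoImplicit false
set_option linter.unusedSectionVars false
set_option synthInstance.maxSize 100000
set_option synthInstance.maxHeartbeats 1000000
set_option maxRecDepth 100000

namespace Cfsg.Agent.S8

open Cfsg.Agent.Spor Cfsg.Agent.Rec Cfsg.Agent.Inv.Fz Cfsg.Agent.T16 Cfsg.Agent.F4L Subgroup

universe u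

variable {G : Type u} [Group G] [Finite G]

namespace Bs

open En

variable (s : Bs G)

/-- The element of `J` with given coordinates. -/
def enPs (a b c d : ℕ) : G := s.e1 ^ a * s.e2 ^ b * s.e3 ^ c * s.b ^ d

/-- The element of `J` with a given code. -/
def enPh (n : ℕ) : G := s.enPs (n % 3) (n / 3 % 3) (n / 9 % 3) (n / 27 % 3)

theorem en_mem : s.e1 ∈ s.J ∧ s.e2 ∈ s.J ∧ s.e3 ∈ s.J ∧ s.b ∈ s.J :=
  ⟨mem_clos (by simp), mem_clos (by simp), mem_clos (by simp), mem_clos (by simp)⟩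

theorem enPs_mem (a b c d : ℕ) : s.enPs a b c d ∈ s.J :=
  mul_mem (mul_mem (mul_mem (pow_mem s.en_mem.1 _) (pow_mem s.en_mem.2.1 _)) (pow_mem s.en_mem.2.2.1 _))
    (pow_mem s.en_mem.2.2.2 _)

theorem enPs_mul (a b c d a' b' c' d' : ℕ) :
    s.enPs a b c d * s.enPs a' b' c' d' = s.enPs (a + a') (b + b') (c + c') (d + d') := by
  obtain ⟨h1, h2, h3, h4⟩ := s.en_mem
  have k : ∀ x ∈ s.J, ∀ y ∈ s.J, Commute x y := s.J_comm
  simp only [enPs, pow_add]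
  rw [(k _ (pow_mem h4 _) _ (mul_mem (mul_mem (pow_mem h1 _) (pow_mem h2 _)) (pow_mem h3 _))).mul_mul_mul_comm,
    (k _ (pow_mem h3 _) _ (mul_mem (pow_mem h1 _) (pow_mem h2 _))).mul_mul_mul_comm,
    (k _ (pow_mem h2 _) _ (pow_mem h1 _)).mul_mul_mul_comm]

theorem enPs_congr {a b c d a' b' c' d' : ℕ} (h1 : a % 3 = a' % 3) (h2 : b % 3 = b' % 3) (h3 : c % 3 = c' % 3)
    (h4 : d % 3 = d' % 3) : s.enPs a b c d = s.enPs a' b' c' d' := by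
  have k : ∀ x ∈ s.J, ∀ m n : ℕ, m % 3 = n % 3 → x ^ m = x ^ n := fun x hx m n e => by
    rw [pow_eq_pow_mod m (s.J_exp x hx), e, ← pow_eq_pow_mod n (s.J_exp x hx)]
  rw [enPs, k _ s.en_mem.1 _ _ h1, k _ s.en_mem.2.1 _ _ h2, k _ s.en_mem.2.2.1 _ _ h3, k _ s.en_mem.2.2.2 _ _ h4, enPs]

theorem enPs_pow (a b c d : ℕ) : ∀ k : ℕ, s.enPs a b c d ^ k = s.enPs (k * a) (k * b) (k * c) (k * d)
  | 0 => by simp [enPs]
  | k + 1 => by simp only [pow_succ, enPs_pow a b c d k, enPs_mul, Nat.succ_mul]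

theorem enPh_eq (n : ℕ) : s.enPh n = s.enPs n (n / 3) (n / 9) (n / 27) :=
  s.enPs_congr (by omega) (by omega) (by omega) (by omega)

theorem enPh_cd (a b c d : ℕ) : s.enPh (cd a b c d) = s.enPs a b c d :=
  s.enPs_congr (by unfold cd; omega) (by unfold cd; omega) (by unfold cd; omega) (by unfold cd; omega)

theorem enPh_ad (x y : ℕ) : s.enPh (ad x y) = s.enPh x * s.enPh y := by
  rw [ad, enPh_cd, enPh_eq, enPh_eq, enPs_mul]

theorem enPh_ng (x : ℕ) : s.enPh (ng x) = (s.enPh x)⁻¹ := by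
  rw [ng, enPh_ad, eq_inv_iff_mul_eq_one, ← s.J_exp _ (s.enPs_mem (x % 3) (x / 3 % 3) (x / 9 % 3) (x / 27 % 3)), pow_three']
  rfl

theorem enPh_val : s.enPh 0 = 1 ∧ s.enPh 1 = s.e1 ∧ s.enPh 3 = s.e2 ∧ s.enPh 9 = s.e3 ∧ s.enPh 27 = s.b ∧
    s.enPh 4 = s.f ∧ s.enPh 13 = s.z ∧ s.enPh 40 = s.e1 * s.e2 * s.e3 * s.b := by
  simp [enPh, enPs]

theorem enPh_surj {j : G} (hj : j ∈ s.J) : ∃ n < 81, s.enPh n = j := by
  obtain ⟨h0, h1, h2, h3, h4, -⟩ := s.enPh_val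
  induction hj using closure_induction with
  | mem y hy =>
    simp only [List.mem_cons, List.not_mem_nil, or_false, Set.mem_ofPred_eq] at hy
    rcases hy with rfl | rfl | rfl | rfl
    exacts [⟨1, by omega, h1⟩, ⟨3, by omega, h2⟩, ⟨9, by omega, h3⟩, ⟨27, by omega, h4⟩]
  | one => exact ⟨0, by omega, h0⟩
  | mul x y _ _ a b =>
    obtain ⟨m, -, rfl⟩ := a
    obtain ⟨n, -, rfl⟩ := b
    exact ⟨ad m n, cd_lt .., s.enPh_ad m n⟩
  | inv x _ a =>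
    obtain ⟨m, -, rfl⟩ := a
    exact ⟨ng m, cd_lt .., s.enPh_ng m⟩

theorem enPh_inj {m n : ℕ} (hm : m < 81) (hn : n < 81) (e : s.enPh m = s.enPh n) : m = n := by
  let f : Fin 81 → s.J := fun i => ⟨s.enPh i, s.enPs_mem _ _ _ _⟩
  have h1 : Function.Surjective f := fun j => by
    obtain ⟨i, hi, e⟩ := s.enPh_surj j.2
    exact ⟨⟨i, hi⟩, Subtype.ext e⟩
  have h2 := (h1.bijective_of_nat_card_le (by rw [s.card_J, Nat.card_fin])).1
  exact congrArg Fin.val (h2 (show f ⟨m, hm⟩ = f ⟨n, hn⟩ from Subtype.ext e))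

/-- `g` acts on `J` by the matrix `A`. -/
def enAc (g : G) (A : Mx) : Prop :=
  Ac g s.e1 s.e2 s.e3 s.b (s.enPh A.1) (s.enPh A.2.1) (s.enPh A.2.2.1) (s.enPh A.2.2.2)

theorem enAc.ap {s : Bs G} {g : G} {A : Mx} (h : s.enAc g A) (n : ℕ) : g * s.enPh n * g⁻¹ = s.enPh (ap A n) := by
  obtain ⟨h1, h2, h3, h4⟩ := h
  rw [enPh, enPs, ← conj_mul, ← conj_mul, ← conj_mul, ← conj_pow, ← conj_pow, ← conj_pow, ← conj_pow, h1, h2, h3, h4]
  simp only [enPh_eq, enPs_pow, enPs_mul]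
  rw [← enPh_eq, En.ap, enPh_cd]

/-- The matrices induced by `N(J)`. -/
def enW (A : Mx) : Prop := (A.1 < 81 ∧ A.2.1 < 81 ∧ A.2.2.1 < 81 ∧ A.2.2.2 < 81) ∧ ∃ g ∈ s.NJ, s.enAc g A

theorem en_ex {g : G} (hg : g ∈ s.NJ) : ∃ A, s.enW A ∧ g * s.b * g⁻¹ = s.enPh A.2.2.2 := by
  have k : ∀ x ∈ s.J, ∃ n < 81, s.enPh n = g * x * g⁻¹ := fun x hx => s.enPh_surj ((mem_normalizer_iff.1 hg x).1 hx)
  obtain ⟨a, ha, e1⟩ := k _ s.en_mem.1
  obtain ⟨b, hb, e2⟩ := k _ s.en_mem.2.1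
  obtain ⟨c, hc, e3⟩ := k _ s.en_mem.2.2.1
  obtain ⟨d, hd, e4⟩ := k _ s.en_mem.2.2.2
  exact ⟨(a, b, c, d), ⟨⟨ha, hb, hc, hd⟩, g, hg, e1.symm, e2.symm, e3.symm, e4.symm⟩, e4.symm⟩

theorem en_W3 : ∀ w ∈ s.W3, ∀ x ∈ [s.e1, s.e2, s.e3], w * x * w⁻¹ ∈ [s.e1, s.e1⁻¹, s.e2, s.e2⁻¹, s.e3, s.e3⁻¹] := by
  simp only [List.mem_cons, List.not_mem_nil, or_false, forall_eq_or_imp, forall_eq]
  exact s.hL.decide s.rep (by decide +kernel)

theorem en_gen : (s.v * s.e1 * s.v⁻¹ = s.e2 ∧ s.v * s.e2 * s.v⁻¹ = s.e3 ∧ s.v * s.e3 * s.v⁻¹ = s.e1) ∧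
    (s.a * s.e1 * s.a⁻¹ = s.e2 ∧ s.a * s.e2 * s.a⁻¹ = s.e1 ∧ s.a * s.e3 * s.a⁻¹ = s.e3) ∧
    s.d3 * s.e1 * s.d3⁻¹ = s.e1 ∧ s.d3 * s.e2 * s.d3⁻¹ = s.e2 ∧ s.d3 * s.e3 * s.d3⁻¹ = s.e3⁻¹ :=
  s.hL.decide s.rep (by decide +kernel)

theorem en_ok : Ok s.enW := by
  obtain ⟨h0, h1, h2, h3, h4, -⟩ := s.enPh_val
  obtain ⟨⟨v1, v2, v3⟩, ⟨a1, a2, a3⟩, d1, d2, d3⟩ := s.en_gen
  have hb : ∀ g ∈ s.N, g * s.b * g⁻¹ = s.b := fun g hg => by rw [s.bc g (s.N_le hg), mul_inv_cancel_right]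
  have hv : s.v ∈ s.N := mem_clos (by simp)
  have ha : s.a ∈ s.N := mem_clos (by simp)
  have hd : s.d3 ∈ s.N := mem_clos (by simp)
  refine ⟨?_, fun A hA => hA.1, ⟨by decide, _, s.N_le_NJ hv, v1.trans h2.symm, v2.trans h3.symm, v3.trans h1.symm,
    (hb _ hv).trans h4.symm⟩, ⟨by decide, _, s.N_le_NJ ha, a1.trans h2.symm, a2.trans h1.symm, a3.trans h3.symm,
    (hb _ ha).trans h4.symm⟩, ⟨by decide, _, s.N_le_NJ hd, d1.trans h1.symm, d2.trans h2.symm,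
    d3.trans (by rw [← h3, ← enPh_ng]; rfl), (hb _ hd).trans h4.symm⟩, ?_, ?_⟩
  · rintro A B ⟨-, g, hg, e⟩ ⟨-, k, hk, e'⟩
    exact ⟨⟨ap_lt .., ap_lt .., ap_lt .., ap_lt ..⟩, g * k, mul_mem hg hk, Ac.mul ⟨e.ap _, e.ap _, e.ap _, e.ap _⟩ e'⟩
  · rintro A B ⟨hA, g, hg, e1, e2, e3, e4⟩ ⟨hB, k, hk, f1, f2, f3, f4⟩ e
    obtain ⟨y, hy, j, hj, w, hw, e5⟩ := s.njb (mul_mem (inv_mem hg) hk) (by
      calc g⁻¹ * k * s.b = g⁻¹ * (k * s.b * k⁻¹) * k := by group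
        _ = _ := by rw [f4, e, ← e4]; group)
    have key : ∀ x ∈ [s.e1, s.e2, s.e3], ∀ n < 81, k * x * k⁻¹ = s.enPh n → n ∈ fr A := fun x hx n hn f => by
      have hJ : ∀ c ∈ [s.e1, s.e1⁻¹, s.e2, s.e2⁻¹, s.e3, s.e3⁻¹], c ∈ s.J := by
        simpa using ⟨s.en_mem.1, s.en_mem.2.1, s.en_mem.2.2.1⟩
      have c := s.en_W3 w hw x hx
      have f' : s.enPh n = g * (w * x * w⁻¹) * g⁻¹ := by
        have := hJ _ c
        calc _ = g * (y * (j * (w * x * w⁻¹)) * (j⁻¹ * y⁻¹)) * g⁻¹ := by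
              rw [← f, show k = g * (y * j * w) by rw [← e5]; group]; group
          _ = _ := by rw [s.J_comm j hj _ this, ← mul_assoc y, s.Y_J y hy _ this]; group
      simp only [fr, List.mem_cons, List.not_mem_nil, or_false] at c ⊢
      rcases c with c | c | c | c | c | c <;> rw [c] at f'
      · exact .inl (s.enPh_inj hn hA.1 (f'.trans e1))
      · exact .inr (.inl (s.enPh_inj hn (cd_lt ..) (by rw [f', ← conj_inv, e1, ← enPh_ng, ng, ad])))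
      · exact .inr (.inr (.inl (s.enPh_inj hn hA.2.1 (f'.trans e2))))
      · exact .inr (.inr (.inr (.inl (s.enPh_inj hn (cd_lt ..) (by rw [f', ← conj_inv, e2, ← enPh_ng, ng, ad])))))
      · exact .inr (.inr (.inr (.inr (.inl (s.enPh_inj hn hA.2.2.1 (f'.trans e3))))))
      · exact .inr (.inr (.inr (.inr (.inr (s.enPh_inj hn (cd_lt ..) (by rw [f', ← conj_inv, e3, ← enPh_ng, ng, ad]))))))
    simp only [List.forall_mem_cons, List.not_mem_nil, false_imp_iff, implies_true, and_true] at key ⊢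
    exact ⟨key.1 _ hB.1 f1, key.2.1 _ hB.2.1 f2, key.2.2 _ hB.2.2.1 f3⟩
  · rintro A x ⟨-, g, -, e⟩ hx e'
    have := e.ap x
    rw [e', h0, mul_inv_eq_one, mul_eq_left] at this
    exact s.enPh_inj hx (by omega) (this.trans h0.symm)

end Bs

open En in
theorem Bs.enum (s : Bs G) (h : ∃ g ∈ s.NJ, g * s.b * g⁻¹ ∉ zpowers s.b) : s.O4 ∨ s.Af ∨ s.WB ∨ s.WF := by
  obtain ⟨h0, h1, h2, h3, h4, h5, h6, h7⟩ := s.enPh_val
  have h8 : s.enPh 54 = s.b⁻¹ := by rw [← h4, ← s.enPh_ng]; rfl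
  by_cases ho : s.enW o4
  · obtain ⟨-, g, -, e1, e2, e3, e4⟩ := ho
    refine .inl ⟨g, e1.trans ?_, e2.trans ?_, e3.trans h3, e4.trans ?_⟩
    · rw [← h5, ← h4, ← s.enPh_ad]; rfl
    · rw [← h5, ← h8, ← s.enPh_ad]; rfl
    · rw [Lt.u, ← h1, ← h2, ← s.enPh_ng, ← s.enPh_ad]; rfl
  have all : ∀ g ∈ s.NJ, ∃ c < 81, g * s.b * g⁻¹ = s.enPh c ∧ (c = 27 ∨ c = 54 ∨ (s.enW mp ∧ 27 ≤ c) ∨
      (s.enW mm ∧ c ∈ sh) ∨ (s.enW mm ∧ s.enW b2 ∧ c ≠ 13)) := fun g hg => by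
    obtain ⟨A, hA, e⟩ := s.en_ex hg
    exact ⟨_, hA.1.2.2.2, e, (s.en_ok.main hA).imp_right (Or.imp_right fun k => k.resolve_left ho)⟩
  right
  by_cases hp : s.enW mp
  · refine .inl ⟨?_, fun g hg => ?_⟩
    · obtain ⟨-, g, -, e1, e2, e3, e4⟩ := hp
      exact ⟨g, e1.trans h1, e2.trans h2, e3.trans h3, e4.trans (by rw [← h4, ← h1, ← s.enPh_ad]; rfl)⟩
    obtain ⟨c, hc, e, k⟩ := all g hg
    have h27 : 27 ≤ c := by
      rcases k with k | k | k | k | k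
      exacts [by omega, by omega, k.2, (s.en_ok.pm hp k.1).elim, (s.en_ok.pm hp k.1).elim]
    have hB : s.e1 ^ (c % 3) * s.e2 ^ (c / 3 % 3) * s.e3 ^ (c / 9 % 3) ∈ s.B0 :=
      mul_mem (mul_mem (pow_mem (mem_clos (by simp)) _) (pow_mem (mem_clos (by simp)) _)) (pow_mem (mem_clos (by simp)) _)
    rw [e, Bs.enPh, Bs.enPs]
    rcases (by omega : c / 27 % 3 = 1 ∨ c / 27 % 3 = 2) with e' | e' <;> rw [e']
    · left; rwa [pow_one, mul_inv_cancel_right]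
    · right; rwa [mul_assoc, ← pow_succ, s.b_pow, mul_one]
  have hm : s.enW mm := by
    obtain ⟨g, hg, hn⟩ := h
    obtain ⟨c, -, e, rfl | rfl | k | k | k⟩ := all g hg
    · exact absurd (by rw [e, h4]; exact mem_zpowers _) hn
    · exact absurd (by rw [e, h8]; exact inv_mem (mem_zpowers _)) hn
    exacts [absurd k.1 hp, k.1, k.1]
  have hm' : ∃ m, Ac m s.e1 s.e2 s.e3 s.b s.e1 s.e2 s.b s.e3 := by
    obtain ⟨-, g, -, e1, e2, e3, e4⟩ := hm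
    exact ⟨g, e1.trans h1, e2.trans h2, e3.trans h4, e4.trans h3⟩
  right
  by_cases hb : s.enW b2
  · refine .inr ⟨hm', ?_, fun g hg e' => ?_⟩
    · obtain ⟨-, g, -, e1, e2, e3, e4⟩ := hb
      refine ⟨g, e1.trans ?_, e2.trans ?_, e3.trans ?_, e4.trans ?_⟩ <;> rw [← h7]
      · rw [← h1, ← s.enPh_ad]; rfl
      · rw [← h2, ← s.enPh_ad]; rfl
      · rw [← h3, ← s.enPh_ad]; rfl
      · rw [← h4, ← s.enPh_ad]; rfl
    obtain ⟨c, hc, e, k⟩ := all g hg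
    obtain rfl : c = 13 := s.enPh_inj hc (by omega) (by rw [← e, e', h6])
    rcases k with k | k | k | k | k
    exacts [by omega, by omega, hp k.1, absurd k.2 (by decide), k.2.2 rfl]
  refine .inl ⟨hm', fun g hg => ?_⟩
  obtain ⟨c, -, e, k⟩ := all g hg
  have hc : c ∈ sh := by
    rcases k with rfl | rfl | k | k | k
    exacts [by decide, by decide, absurd k.1 hp, k.2, absurd k.2.1 hb]
  have i1 : s.enPh 2 = s.e1⁻¹ := by rw [← h1, ← s.enPh_ng]; rfl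
  have i2 : s.enPh 6 = s.e2⁻¹ := by rw [← h2, ← s.enPh_ng]; rfl
  have i3 : s.enPh 18 = s.e3⁻¹ := by rw [← h3, ← s.enPh_ng]; rfl
  rw [e]
  simp only [sh, List.mem_cons, List.not_mem_nil, or_false] at hc
  rcases hc with rfl | rfl | rfl | rfl | rfl | rfl | rfl | rfl <;> simp [Bs.Sh, h1, h2, h3, h4, h8, i1, i2, i3]

end Cfsg.Agent.S8
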