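import Mathlib
import Cfsg.Agent.S8.Mt
import Cfsg.Agent.F4T.Amal
import Cfsg.Agent.F4T.CT

/-! The case `W(F₄)`: the subgroup `F₄(2)`. -/

set_option autoImplicit false
set_option linter.unusedSectionVars false
set_option synthInstance.maxSize 100000
set_option synthInstance.maxHeartbeats 1000000
set_option maxRecDepth 100000

namespace Cfsg.Agent.S8

universe u

variable {G : Type u} [Group G] [Finite G]

namespace FAm

open Cfsg.Lie hiding f4a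
open Cfsg.Agent.Spor Cfsg.Agent.Spor.MX Cfsg.Agent.Rec Cfsg.Agent.F4T Cfsg.Agent.Chev Cfsg.Agent.Chev.StRoot
  Cfsg.Agent.F4L Subgroup

/-- The Curtis–Tits presentation of `F₄(2)`, with the values at the fundamental root elements. -/
theorem f4_hom {e : List G} (hl : e.length = 8) (hs : Sat relCT e) (h1 : nth 1 e 0 ≠ 1) :
    ∃ s : Em G, s.φ.range = clos e ∧ ∀ j < 8, s.X (rtCT.getD j 0) = nth 1 e j := by
  have k : ∀ l ∈ [[0, 1, 2, 3], [0, 1, 4, 5], [0, 1, 6, 7], [2, 4, 3, 5], [2, 3, 6, 7], [4, 5, 6, 7]],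
      ∃ (H : Subgroup Gm) (Φ : H →* G), ∀ j ∈ l, ∃ h : f4a (rtCT.getD j 0) ∈ H, Φ ⟨_, h⟩ = nth 1 e j := by
    intro l hl
    simp only [List.mem_cons, List.not_mem_nil, or_false] at hl
    rcases hl with rfl | rfl | rfl | rfl | rfl | rfl
    exacts [pair_hom hs presA _ (l' := [33, 14, 27, 20]) ((emId.repL [33, 14, 27, 20]).gen g01_ok).2,
      pair_hom hs presC _ (l' := [33, 14, 25, 22]) ((emId.repL [33, 14, 25, 22]).gen g02_ok).2,
      pair_hom hs presC _ (l' := [33, 14, 24, 23]) ((emId.repL [33, 14, 24, 23]).gen g03_ok).2,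
      pair_hom hs presB _ emId.gL.2,
      pair_hom hs presC _ (l' := [27, 20, 24, 23]) ((emId.repL [27, 20, 24, 23]).gen g13_ok).2,
      pair_hom hs presA _ (l' := [25, 22, 24, 23]) ((emId.repL [25, 22, 24, 23]).gen g23_ok).2]
  have k1 : ∀ i j : chevF4.Nd, ∃ l ∈ [[0, 1, 2, 3], [0, 1, 4, 5], [0, 1, 6, 7], [2, 4, 3, 5], [2, 3, 6, 7], [4, 5, 6, 7]],
      ∀ r : chevF4.Rt, (∃ m, (m = i ∨ m = j) ∧ (r = chevF4.sr m ∨ r = chevF4.ng (chevF4.sr m))) →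
        rtCT.idxOf r.1 ∈ l ∧ rtCT.getD (rtCT.idxOf r.1) 0 = r := by decide +kernel
  have ht : ∀ t : ZMod 2, t = 0 ∨ t = 1 := by decide
  let a : chevF4.Rt → ZMod 2 → G := fun r t => if t = 0 then 1 else nth 1 e (rtCT.idxOf r.1)
  obtain ⟨y, hy, hS⟩ := (chevF4.isModel_XG (ZMod 2)).toIsSt.exists_isSt_of_amalgam (chevF4.isModel_XG (ZMod 2)) a
    fun i j => by
      obtain ⟨l, hl, h2⟩ := k1 i j
      obtain ⟨H, Φ, h3⟩ := k l hl
      refine ⟨H, Φ, fun r hr t => ?_⟩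
      rcases ht t with rfl | rfl
      · simp only [show chevF4.XG (ZMod 2) r 0 = 1 from Subtype.ext (chevF4.X_zero _ _)]
        exact ⟨one_mem _, map_one Φ⟩
      · obtain ⟨h4, h5⟩ := h2 r hr
        obtain ⟨h6, h7⟩ := h3 _ h4
        have h8 := (congrArg f4a h5).trans (x_eq r.2)
        exact ⟨h8 ▸ h6, (congrArg Φ (Subtype.ext h8.symm)).trans h7⟩
  let φ := (chevF4.stLift' hS.toIsAB hS.hmul_of_finite).comp (MulEquiv.ofBijective (chevF4.stProj (ZMod 2))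
    ⟨by rw [← MonoidHom.ker_eq_bot_iff, ChevalleyDatum.ker_stProj, center_stF4], chevF4.stProj_surjective _⟩).symm.toMonoidHom
  have h2 : ∀ (r : chevF4.Rt) t, φ (chevF4.XG (ZMod 2) r t) = y r t := fun r t => by
    rw [← chevF4.stProj_stGen]
    exact (congrArg (chevF4.stLift' hS.toIsAB hS.hmul_of_finite) (MulEquiv.symm_apply_apply (MulEquiv.ofBijective _ _) _)).trans
      (chevF4.stLift'_stGen _ _ r t)
  have h3 : ∀ r : chevF4.Rt, (∃ i, r = chevF4.stRoot.sr i ∨ r = chevF4.stRoot.ng (chevF4.stRoot.sr i)) → y r = a r := by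
    rintro _ ⟨i, rfl | rfl⟩
    exacts [(hy i).1, (hy i).2]
  have h4 : ∀ j < 8, φ (f4a (rtCT.getD j 0)) = nth 1 e j := fun j hj => by
    obtain ⟨r, h5, h6, h7⟩ := (by decide +kernel : ∀ j < 8, ∃ r : chevF4.Rt,
      (∃ i, r = chevF4.sr i ∨ r = chevF4.ng (chevF4.sr i)) ∧ rtCT.idxOf r.1 = j ∧ rtCT.getD j 0 = r.1) j hj
    rw [h7, x_eq r.2]
    exact (h2 r 1).trans ((congrFun (h3 r h5) 1).trans (h6 ▸ rfl))
  have := (S1054.result (F := ZMod 2) chevF4 (by simp)).1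
  refine ⟨⟨φ, φ.ker_eq_bot_iff.1 (φ.normal_ker.eq_bot_or_eq_top.resolve_right fun h => h1 ?_)⟩,
    le_antisymm ?_ (by rw [← genLt_nth, hl]; exact genLt_le fun j hj => ⟨_, h4 j hj⟩), h4⟩
  · exact h4 0 (by norm_num) ▸ (h.ge (mem_top _) :)
  · change φ.range ≤ clos e
    rw [MonoidHom.range_eq_map, map_le_iff_le_comap, ← chevF4.XS_XG_univ, (chevF4.isModel_XG (ZMod 2)).toIsSt.XS_univ_eq]
    refine XS_le fun r hr t => ?_
    rw [mem_comap, h2, h3 r hr]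
    rcases ht t with rfl | rfl
    exacts [one_mem _, nth_mem_clos _ _]

theorem long (s : Em G) : s.X 38 * s.X 9 * s.X 38 * s.X 25 * (s.X 38 * s.X 9 * s.X 38)⁻¹ = s.X 47 :=
  Cod.listsL_nil.decide (show s.C.RepL ([38, 9, 25, 47].map (nth 0 cR)) [s.X 38, s.X 9, s.X 25, s.X 47] from s.repL _)
    (by decide +kernel)

end FAm

open Cfsg.Agent.Spor Cfsg.Agent.Rec Cfsg.Agent.Inv.Fz Cfsg.Agent.T16 Cfsg.Agent.F4L Subgroup

namespace FAm

/-- The root elements in `Sp₆(2)`. -/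
theorem roots (r : Lt G) {y r0 r1 r2 r3 : G} (hy : r.x * r.d1 * r.d2 = y)
    (e0 : r.v⁻¹ * r.e2 * y * (r.v⁻¹ * r.e2)⁻¹ = r0) (e1 : r.v⁻¹ * r.e1 * y * (r.v⁻¹ * r.e1)⁻¹ = r1)
    (e2 : r.e2 * y * r.e2⁻¹ = r2) (e3 : r.e1 * y * r.e1⁻¹ = r3) :
    Sat (relCT.filter (lettersLt 6)) [r0, r1, r2, r3, r.d2, r.d2 * r.e2] ∧ r0 ≠ 1 ∧
      r.L = clos [r0, r1, r2, r3, r.d2, r.d2 * r.e2] ∧ ∃ c ∈ r.L, c * r.u * c⁻¹ = r2 * r3 := by
  have hC := r.rep
  subst hy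
  have hR : r.C.RepL cRt [r0, r1, r2, r3, r.d2, r.d2 * r.e2] := by
    subst e0 e1 e2 e3
    unfold cRt
    exact (hC.term _ (by decide +kernel)).cons <| (hC.term _ (by decide +kernel)).cons <|
      (hC.term _ (by decide +kernel)).cons <| (hC.term _ (by decide +kernel)).cons <|
      (hC.term _ (by decide +kernel)).cons <| (hC.term _ (by decide +kernel)).cons Cod.repL_nil
  refine ⟨hR.sat (by decide +kernel), Cod.listsL_nil.decide hR (by decide +kernel), le_antisymm ?_ ?_,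
    r.x * r.e2 * r.e1 * r.x * r.a, mul_mem (mul_mem (mul_mem (mul_mem r.xL r.e2L) r.e1L) r.xL) r.aL, ?_⟩
  · have := (hC.pick [0, 1, 2, 3, 4, 7, 9]).unique (hR.words F4L.wK (by decide +kernel))
    have p := fun i => ((congrArg clos this).le.trans (clos_words_le _ _)) (nth_mem_clos _ i)
    have f : r.d1 = r.v * r.d3 * r.v⁻¹ ∧ r.d2 = r.v * r.d1 * r.v⁻¹ := Cod.listsL_nil.decide hC (by decide +kernel)
    generalize clos [r0, r1, r2, r3, r.d2, r.d2 * r.e2] = H at p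
    have c : ∀ {g}, g ∈ H → r.v * g * r.v⁻¹ ∈ H := fun h => mul_mem (mul_mem (p 3) h) (inv_mem (p 3))
    have d1 : r.d1 ∈ H := mem_eq f.1 (c (p 5))
    have d2 : r.d2 ∈ H := mem_eq f.2 (c d1)
    rw [← r.st_M]
    refine clos_le.2 ?_
    simp only [Lt.st, List.forall_mem_cons, List.not_mem_nil, false_imp_iff, implies_true, and_true]
    exact ⟨d2, mul_mem (p 1) d2, c (p 6), mul_mem (p 2) (p 5), c (c (p 6)), mul_mem (p 0) d1, p 5⟩
  · have y := mul_mem (mul_mem r.xL r.d1L) r.d2L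
    have c : ∀ {k}, k ∈ r.L → k * (r.x * r.d1 * r.d2) * k⁻¹ ∈ r.L := fun h => mul_mem (mul_mem h y) (inv_mem h)
    refine clos_le.2 ?_
    simp only [List.forall_mem_cons, List.not_mem_nil, false_imp_iff, implies_true, and_true]
    exact ⟨e0 ▸ c (mul_mem (inv_mem r.vL) r.e2L), e1 ▸ c (mul_mem (inv_mem r.vL) r.e1L), e2 ▸ c r.e2L, e3 ▸ c r.e1L,
      r.d2L, mul_mem r.d2L r.e2L⟩
  · subst e2 e3
    exact Cod.listsL_nil.decide hC (by decide +kernel)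

/-- The eight root elements. -/
theorem amal {n : Nw G} {q1 x r0 r1 r2 r3 : G} {L : Subgroup G} (h : Half n q1) (hx : Sx n q1 x) {om : G}
    (hom : n.v⁻¹ * n.a1 * n.m * n.v = om)
    (e0 : n.swap.v⁻¹ * n.swap.e2 * (om * x * om⁻¹) * (n.swap.v⁻¹ * n.swap.e2)⁻¹ = r0)
    (e1 : n.swap.v⁻¹ * n.swap.e1 * (om * x * om⁻¹) * (n.swap.v⁻¹ * n.swap.e1)⁻¹ = r1)
    (e2 : n.swap.e2 * (om * x * om⁻¹) * n.swap.e2⁻¹ = r2) (e3 : n.swap.e1 * (om * x * om⁻¹) * n.swap.e1⁻¹ = r3)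
    (k1 : Sat (relCT.filter (lettersLt 6)) [r0, r1, r2, r3, n.swap.d2, n.swap.d2 * n.swap.e2])
    (k3 : L = clos [r0, r1, r2, r3, n.swap.d2, n.swap.d2 * n.swap.e2]) (k5 : L ≤ centralizer {n.u})
    (p : ∀ g ∈ [n.swap.e1, n.swap.e2, n.swap.e3, n.swap.v, n.swap.a1, n.swap.d1, n.swap.d2, n.swap.d3, om * x * om⁻¹],
      g ∈ L) :
    ∃ y1 y2, Sat relCT [r0, r1, r2, r3, n.swap.d2, n.swap.d2 * n.swap.e2, y1, y2] ∧
      ∀ H, clos [r0, r1, r2, r3, n.swap.d2, n.swap.d2 * n.swap.e2, y1, y2] = H →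
        centralizer {n.e4} ≤ H ∧ L ≤ H ∧ H ≤ centralizer {n.e4} ⊔ centralizer {n.u} ∧ om ∈ H := by
  obtain ⟨y1, y2, g, s, m1, m2, T1⟩ := h.trX hx.relE
  have T2 : Tr B24.A cX2 (om :: n.d1 :: n.d2 :: y1 :: y2 :: g :: s :: n.eA q1) :=
    hom ▸ T1.ext [n.v⁻¹ * n.a1 * n.m * n.v, n.v * n.d3 * n.v⁻¹, n.v * (n.v * n.d3 * n.v⁻¹) * n.v⁻¹] (by decide +kernel)
  have T3 : Tr B24.A cX3 (n.swap.e1 :: n.swap.e2 :: n.swap.e3 :: n.swap.v :: n.swap.a1 :: n.swap.d3 :: om :: n.d1 :: n.d2 ::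
      y1 :: y2 :: g :: s :: n.eA q1) :=
    T2.ext [(n.e3 * n.e4)⁻¹, n.e3⁻¹ * n.e4, n.e1 * n.e2, n.b1 * (n.b1 * n.b2 * n.b1), n.b1, n.d2 * n.a1 * n.d2]
      (by decide +kernel)
  have T : Tr B24.A cX4 (n.swap.d1 :: n.swap.d2 :: n.swap.e1 :: n.swap.e2 :: n.swap.e3 :: n.swap.v :: n.swap.a1 ::
      n.swap.d3 :: om :: n.d1 :: n.d2 :: y1 :: y2 :: g :: s :: n.eA q1) :=
    T3.ext [n.swap.v * n.swap.d3 * n.swap.v⁻¹, n.swap.v * (n.swap.v * n.swap.d3 * n.swap.v⁻¹) * n.swap.v⁻¹]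
      (by decide +kernel)
  clear T1 T2 T3
  have cc : ∀ {k b : G}, k⁻¹ * b * k ∈ clos [n.e3, n.e4, n.d3, n.b1, n.m, n.d1, n.d2, n.a1, q1] →
      k * x * k⁻¹ * b = b * (k * x * k⁻¹) := fun hb => cj_comm (by group) (hx.comm _ hb)
  have s1 : y1 * y1 = 1 := T.eq (by decide +kernel)
  have s2 : y2 * y2 = 1 := T.eq (by decide +kernel)
  have c4 : ∀ {k r y : G}, k * (om * x * om⁻¹) * k⁻¹ = r → y * y = 1 →
      (k * om)⁻¹ * y * (k * om) ∈ clos [n.e3, n.e4, n.d3, n.b1, n.m, n.d1, n.d2, n.a1, q1] → r * (y * (r * y)) = 1 :=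
    fun {k r y} e hy hb => by
      have : k * om * x * (k * om)⁻¹ = r := by rw [← e]; group
      exact sq_four (this ▸ cc hb) (this ▸ conj_sq hx.facts.2.1.1) hy
  have k4 : Sat F4L.rel7 [r0, r1, r2, r3, n.swap.d2, n.swap.d2 * n.swap.e2, y1, y2] := by
    simp only [F4L.rel7, sat_cons, sat_nil, evalW_cons, evalW_nil, nth_zero, nth_succ, mul_one, and_true]
    exact ⟨s1, s2, T.eq (by decide +kernel), T.eq (by decide +kernel), T.eq (by decide +kernel), T.eq (by decide +kernel),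
      c4 e0 s1 (T.mem (nth [] F4L.wC 0) (by decide +kernel)), c4 e0 s2 (T.mem (nth [] F4L.wC 1) (by decide +kernel)),
      c4 e1 s1 (T.mem (nth [] F4L.wC 2) (by decide +kernel)), c4 e1 s2 (T.mem (nth [] F4L.wC 3) (by decide +kernel)),
      c4 e2 s1 (T.mem (nth [] F4L.wC 4) (by decide +kernel)), c4 e2 s2 (T.mem (nth [] F4L.wC 5) (by decide +kernel)),
      c4 e3 s1 (T.mem (nth [] F4L.wC 6) (by decide +kernel)), c4 e3 s2 (T.mem (nth [] F4L.wC 7) (by decide +kernel))⟩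
  refine ⟨y1, y2, (sat_append.2 ⟨Sat.of_take (m := 6) k1 (by decide +kernel), k4⟩).mono (by decide +kernel),
    fun H hH => ?_⟩
  have m := fun i => hH.le (nth_mem_clos _ i)
  have hL : L ≤ H := k3.le.trans ((clos_le.2 fun x hx => mem_clos (by simp at hx ⊢; tauto)).trans hH.le)
  simp only [List.forall_mem_cons, List.not_mem_nil, false_imp_iff, implies_true, and_true] at p
  obtain ⟨p0, p1, p2, p3, p4, p5, p6, p7, p8⟩ := p
  have hG : clos [y1, y2, n.swap.e1, n.swap.e2, n.swap.e3, n.swap.v, n.swap.a1, n.swap.d1, n.swap.d2, n.swap.d3] ≤ H :=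
    clos_le.2 (by
      simp only [List.forall_mem_cons, List.not_mem_nil, false_imp_iff, implies_true, and_true]
      exact ⟨m 6, m 7, hL p0, hL p1, hL p2, hL p3, hL p4, hL p5, hL p6, hL p7⟩)
  have ha : n.a1 ∈ H := hG (T.mem (nth [] F4L.wG 0) (by decide +kernel))
  have hv : n.v ∈ H := hG (T.mem (nth [] F4L.wG 1) (by decide +kernel))
  have hq : q1 ∈ H := hG (T.mem (nth [] F4L.wG 2) (by decide +kernel))
  have hu : n.e1 * n.e2⁻¹ ∈ H :=
    mem_eq (y := q1⁻¹ * n.v * q1) (T.eq (by decide +kernel)) (mul_mem (mul_mem (inv_mem hq) hv) hq)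
  have hJ : n.J ≤ H := n.swap_J ▸ clos_le.2 (by
    simp only [List.forall_mem_cons, List.not_mem_nil, false_imp_iff, implies_true, and_true]
    exact ⟨hL p0, hL p1, hL p2, hu⟩)
  have j := fun i => hJ (nth_mem_clos [n.e1, n.e2, n.e3, n.e4] i)
  have hm : n.m ∈ H := mem_eq (congrArg Nw.m n.swap_swap).symm (hL p6)
  have ho : om ∈ H := hom ▸ mul_mem (mul_mem (mul_mem (inv_mem hv) ha) hm) hv
  refine ⟨fun g hg => clos_le.2 ?_ (hx.cen _ (mem_cen.1 hg)), hL, ?_, ho⟩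
  · simp only [List.forall_mem_cons, List.not_mem_nil, false_imp_iff, implies_true, and_true]
    exact ⟨j 0, j 1, j 2, hv, ha, mul_mem (mul_mem hm (hL p4)) hm,
      mem_eq (by group) (mul_mem (mul_mem (inv_mem ho) (hL p8)) ho), j 3⟩
  · have cu : ∀ {g : G}, g * (n.e1 * n.e2⁻¹) = n.e1 * n.e2⁻¹ * g → g ∈ centralizer {n.e4} ⊔ centralizer {n.u} :=
      fun h => mem_sup_right (mem_cen.2 h)
    have ce : ∀ {g : G}, g * n.e4 = n.e4 * g → g ∈ centralizer {n.e4} ⊔ centralizer {n.u} :=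
      fun h => mem_sup_left (mem_cen.2 h)
    have hA : clos (n.eA q1) ≤ centralizer {n.e4} ⊔ centralizer {n.u} := clos_le.2 (by
      simp only [List.forall_mem_cons, List.not_mem_nil, false_imp_iff, implies_true, and_true, inv_mem_iff, and_self_left]
      exact ⟨ce (T.eq (by decide +kernel)), ce (T.eq (by decide +kernel)), ce (T.eq (by decide +kernel)),
        ce (T.eq (by decide +kernel)), ce (T.eq (by decide +kernel)), ce h.qe, ce (T.eq (by decide +kernel)), ce rfl,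
        cu (T.eq (by decide +kernel)), cu (T.eq (by decide +kernel)), cu (T.eq (by decide +kernel))⟩)
    have a := fun i => (k3.ge.trans (k5.trans (le_sup_right (a := centralizer {n.e4})))) (nth_mem_clos _ i)
    rw [← hH]
    refine clos_le.2 ?_
    simp only [List.forall_mem_cons, List.not_mem_nil, false_imp_iff, implies_true, and_true]
    exact ⟨a 0, a 1, a 2, a 3, a 4, a 5, hA m1, hA m2⟩

end FAm

theorem Bs.FK.fg {s : Bs G} {n : Nw G} {r : Lt G} (h : s.FK n r) : ∃ e, s.FG n r e := by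
  have hu : n.u = s.u := by rw [Nw.u, h.e1, h.e2]
  have hom : n.v⁻¹ * n.a1 * n.m * n.v = s.om n.m := by rw [h.v, h.a1]
  obtain ⟨k1, k2, k3, c, hc, k4⟩ := FAm.roots r h.rx.symm rfl rfl rfl rfl
  have hb : r.u = s.b := by rw [← h.e4, ← n.swap_u, Nw.u, ← h.r1, ← h.r2]
  rw [hb] at k4
  rw [h.r1, h.r2] at k4
  rw [h.r1, h.r2, h.rv, h.s2] at k1 k3
  obtain ⟨y1, y2, k5, k6⟩ := FAm.amal h.half h.sx hom rfl rfl rfl rfl k1 k3
    (fun g hg => mem_cen.2 (hu ▸ h.cu g hg)) (by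
      simp only [List.forall_mem_cons, List.not_mem_nil, false_imp_iff, implies_true, and_true]
      exact ⟨h.r1 ▸ r.e1L, h.r2 ▸ r.e2L, h.r3 ▸ r.e3L, h.rv ▸ r.vL, h.ra ▸ r.aL, h.s1 ▸ r.d1L, h.s2 ▸ r.d2L,
        h.s3 ▸ r.d3L, mem_eq h.rx (mul_mem (mul_mem r.xL r.d1L) r.d2L)⟩)
  obtain ⟨e, he, hv⟩ := FAm.f4_hom rfl k5 (by rwa [h.r2, h.rv] at k2)
  obtain ⟨l1, l2, l3, l4⟩ := k6 _ he.symm
  have X : ∀ i, e.X i ∈ e.φ.range := fun i => ⟨_, rfl⟩
  have v4 : e.X 25 = n.m := (hv 4 (by norm_num)).trans (congrArg Nw.m n.swap_swap)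
  refine ⟨e, h, h.e4 ▸ l1, l2, by rwa [h.e4, hu] at l3,
    ⟨e.X 38 * e.X 9 * e.X 38 * s.om n.m, mul_mem (mul_mem (mul_mem (X 38) (X 9)) (X 38)) l4, ?_⟩, c, l2 hc, ?_⟩
  · rw [F4T.Em.r, ← FAm.long e, v4]
    conv_rhs => rw [← h.mt.om_a.1]
    group
  · rw [k4]
    exact (congrArg₂ (· * ·) (hv 2 (by norm_num)) (hv 3 (by norm_num))).symm

end Cfsg.Agent.S8
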