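import Mathlib
import Cfsg.Agent.S8.Mt

/-! The case `W(F₄)`: subgroups of `C(a)` normalised by `C_J(a)`. -/

set_option autoImplicit false
set_option linter.unusedSectionVars false
set_option synthInstance.maxSize 100000
set_option synthInstance.maxHeartbeats 1000000
set_option maxRecDepth 100000

namespace Cfsg.Agent.S8

open Cfsg.Agent.Spor Cfsg.Agent.Rec Cfsg.Agent.Inv.Fz Cfsg.Agent.T16 Cfsg.Agent.F4L Subgroup

universe u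

variable {G : Type u} [Group G] [Finite G]

namespace FPp

abbrev c1 (n : Nw G) : G := (n.e3 * n.e4)⁻¹
abbrev c2 (n : Nw G) : G := n.e3⁻¹ * n.e4
abbrev c3 (n : Nw G) : G := n.e1 * n.e2
abbrev zz (n : Nw G) : G := n.e1 * n.e2 * n.e3

/-- The centraliser of `a` in `J`. -/
def BB (n : Nw G) : Subgroup G := clos [c1 n, c2 n, c3 n]

theorem BB_eq (n : Nw G) : BB n = n.swap.J0 := rfl

theorem BB_le (n : Nw G) : BB n ≤ n.J := by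
  rw [← n.swap_J]; exact clos_le.2 fun x hx => mem_clos (by simp [Nw.swap] at hx ⊢; tauto)

theorem BB_comm (n : Nw G) : ∀ x ∈ BB n, ∀ y ∈ BB n, x * y = y * x := fun x hx y hy =>
  n.pre.comm x (BB_le n hx) y (BB_le n hy)

theorem BB_mem (n : Nw G) : n.e4 ∈ BB n ∧ n.e3 ∈ BB n ∧ c3 n ∈ BB n ∧ zz n ∈ BB n := by
  have m : ∀ i, nth 1 [c1 n, c2 n, c3 n] i ∈ BB n := nth_mem_clos _
  have e : n.e4 = c1 n * (c2 n)⁻¹ ∧ n.e3 = c1 n * c2 n := n.hL.decide n.rep (by decide +kernel)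
  have e3 : n.e3 ∈ BB n := mem_eq e.2 (mul_mem (m 0) (m 1))
  exact ⟨mem_eq e.1 (mul_mem (m 0) (inv_mem (m 1))), e3, m 2, mul_mem (m 2) e3⟩

theorem W3_fact (n : Nw G) : (∀ g ∈ n.W3, g * n.b1 = n.b1 * g ∧ ∀ x ∈ n.J0, g * x * g⁻¹ ∈ n.J0) ∧ n.v ∈ n.W3 ∧
    n.d2 ∈ n.W3 ∧ n.d2 * n.a1 * n.d2 ∈ n.W3 := n.hL.decide n.rep (by decide +kernel)

theorem swap_d2 (n : Nw G) : n.swap.d2 = n.m := congrArg Nw.m n.swap_swap

/-- The elements of `C(a)` that normalise `C_J(a)`. -/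
def HH (n : Nw G) : Subgroup G := centralizer {n.a1} ⊓ normalizer (BB n : Set G)

theorem HH_mem (n : Nw G) : n.v2 ∈ HH n ∧ n.m ∈ HH n ∧ n.d3 ∈ HH n := by
  obtain ⟨h1, h2, h3, h4⟩ := W3_fact n.swap
  have k : ∀ g ∈ n.swap.W3, g ∈ HH n := fun g hg =>
    ⟨mem_cen.2 (h1 g hg).1, mem_normalizer_of_conj_mem (H := n.swap.J0) (h1 g hg).2⟩
  rw [n.swap_v] at h2
  rw [swap_d2] at h3 h4
  exact ⟨k _ h2, k _ h3, k _ h4⟩

/-- The three rotations. -/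
def RA (n : Nw G) (g : G) : Prop := g = 1 ∨ g = n.v2 ∨ g = n.v2 * n.v2

/-- The four sign changes. -/
def RC (n : Nw G) (g : G) : Prop := g = 1 ∨ g = n.d3 ∨ g = n.m ∨ g = n.m * n.d3

theorem W_mem (n : Nw G) : n.v2 ∈ n.W ∧ n.m ∈ n.W ∧ n.d3 ∈ n.W := n.hL.decide n.rep (by decide +kernel)

theorem RA.mem {n : Nw G} {g : G} (h : RA n g) : g ∈ HH n ∧ g ∈ n.W := by
  rcases h with rfl | rfl | rfl
  exacts [⟨one_mem _, one_mem _⟩, ⟨(HH_mem n).1, (W_mem n).1⟩,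
    ⟨mul_mem (HH_mem n).1 (HH_mem n).1, mul_mem (W_mem n).1 (W_mem n).1⟩]

theorem RC.mem {n : Nw G} {g : G} (h : RC n g) : g ∈ HH n ∧ g ∈ n.W := by
  rcases h with rfl | rfl | rfl | rfl
  exacts [⟨one_mem _, one_mem _⟩, ⟨(HH_mem n).2.2, (W_mem n).2.2⟩, ⟨(HH_mem n).2.1, (W_mem n).2.1⟩,
    ⟨mul_mem (HH_mem n).2.1 (HH_mem n).2.2, mul_mem (W_mem n).2.1 (W_mem n).2.2⟩]

/-- Subgroups of order prime to three of `C(a)` normalised by `C_J(a)`. -/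
structure Ok (n : Nw G) (X : Subgroup G) : Prop where
  cop : (Nat.card X).Coprime 3
  le : X ≤ centralizer {n.a1}
  nm : BB n ≤ normalizer (X : Set G)

theorem Ok.cj {n : Nw G} {X : Subgroup G} (hX : Ok n X) {g : G} (hg : g ∈ HH n) : Ok n (cj g X) where
  cop := by rw [card_cj]; exact hX.cop
  le := by
    have := cj_mono (g := g) hX.le
    rwa [cj_eq_of_mem hg.1] at this
  nm := by
    have := cj_mono (g := g) hX.nm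
    rwa [cj_eq_iff.2 hg.2, cj_normalizer] at this

theorem Ok.inf {n : Nw G} {X : Subgroup G} (hX : Ok n X) {y : G} (hy : y ∈ BB n) : Ok n (X ⊓ centralizer {y}) where
  cop := Nat.Coprime.coprime_dvd_left (card_dvd_of_le inf_le_left) hX.cop
  le := inf_le_left.trans hX.le
  nm := fun g hg => by
    rw [← cj_eq_iff, cj_inf, cj_eq_iff.2 (hX.nm hg), cj_eq_of_mem (mem_cen.2 (BB_comm n g hg y hy))]

theorem mem_pull {X : Subgroup G} {k g y1 y2 : G} (hk : k ∈ X) (e1 : k * (g * y1 * g⁻¹) = g * y1 * g⁻¹ * k)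
    (e2 : k * (g * y2 * g⁻¹) = g * y2 * g⁻¹ * k) : g⁻¹ * k * g ∈ cj g⁻¹ X ⊓ centralizer {y1} ⊓ centralizer {y2} := by
  have a : ∀ {y}, k * (g * y * g⁻¹) = g * y * g⁻¹ * k → g⁻¹ * k * g ∈ centralizer ({y} : Set G) := fun e =>
    mem_cj.1 (by rw [cj_centralizer_singleton]; exact mem_cen.2 e)
  exact ⟨⟨mem_cj.2 (by simpa [mul_assoc] using hk), a e1⟩, a e2⟩

theorem push {a g k : G} (hg : g ∈ centralizer ({a} : Set G)) (h : g⁻¹ * k * g ∈ zpowers a) : k ∈ zpowers a := by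
  have := mem_cj.2 h
  rwa [cj_zpowers, mem_cen'.1 hg] at this

theorem pl {k x y w : G} (h1 : k * x = x * k) (h2 : k * y = y * k) {i j : ℕ} (e : w = x ^ i * y ^ j) : k * w = w * k :=
  e ▸ ((Commute.pow_right h1 i).mul_right (Commute.pow_right h2 j) : Commute k _)

theorem idA (n : Nw G) :
    (n.v2 * n.e4 * n.v2⁻¹ = c2 n ^ 1 * c3 n ^ 2 ∧ n.v2 * n.e3 * n.v2⁻¹ = c2 n ^ 1 * c3 n ^ 1) ∧
    (n.v2 * n.v2 * n.e4 * (n.v2 * n.v2)⁻¹ = c1 n ^ 2 * c3 n ^ 1 ∧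
      n.v2 * n.v2 * n.e3 * (n.v2 * n.v2)⁻¹ = c1 n ^ 1 * c3 n ^ 1) ∧
    (1 * n.e4 * 1⁻¹ = c1 n ^ 1 * c2 n ^ 2 ∧ 1 * n.e3 * 1⁻¹ = c1 n ^ 1 * c2 n ^ 1) ∧
    n.v2 * c3 n * n.v2⁻¹ = c1 n ∧ n.v2 * n.v2 * c3 n * (n.v2 * n.v2)⁻¹ = c2 n :=
  n.hL.decide n.rep (by decide +kernel)

theorem idB (n : Nw G) :
    (1 * n.e4 * 1⁻¹ = (c1 n * (c2 n)⁻¹) ^ 1 * c3 n ^ 0 ∧ 1 * c3 n * 1⁻¹ = (c1 n * (c2 n)⁻¹) ^ 0 * c3 n ^ 1) ∧
    (n.m * n.e4 * n.m⁻¹ = (c1 n * c2 n) ^ 1 * c3 n ^ 0 ∧ n.m * c3 n * n.m⁻¹ = (c1 n * c2 n) ^ 0 * c3 n ^ 1) ∧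
    (n.v2 * n.v2 * n.e4 * (n.v2 * n.v2)⁻¹ = (c1 n * (c3 n)⁻¹) ^ 2 * c2 n ^ 0 ∧
      n.v2 * n.v2 * c3 n * (n.v2 * n.v2)⁻¹ = (c1 n * (c3 n)⁻¹) ^ 0 * c2 n ^ 1) ∧
    (n.v2 * n.v2 * n.m * n.e4 * (n.v2 * n.v2 * n.m)⁻¹ = (c1 n * c3 n) ^ 1 * c2 n ^ 0 ∧
      n.v2 * n.v2 * n.m * c3 n * (n.v2 * n.v2 * n.m)⁻¹ = (c1 n * c3 n) ^ 0 * c2 n ^ 1) ∧
    (n.v2 * n.e4 * n.v2⁻¹ = (c2 n * (c3 n)⁻¹) ^ 1 * c1 n ^ 0 ∧ n.v2 * c3 n * n.v2⁻¹ = (c2 n * (c3 n)⁻¹) ^ 0 * c1 n ^ 1) ∧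
    (n.v2 * n.m * n.e4 * (n.v2 * n.m)⁻¹ = (c2 n * c3 n) ^ 1 * c1 n ^ 0 ∧
      n.v2 * n.m * c3 n * (n.v2 * n.m)⁻¹ = (c2 n * c3 n) ^ 0 * c1 n ^ 1) :=
  n.hL.decide n.rep (by decide +kernel)

theorem idC (n : Nw G) :
    (1 * n.e4 * 1⁻¹ = (c1 n * (c2 n)⁻¹) ^ 1 * (c2 n * (c3 n)⁻¹) ^ 0 ∧
      1 * zz n * 1⁻¹ = (c1 n * (c2 n)⁻¹) ^ 1 * (c2 n * (c3 n)⁻¹) ^ 2) ∧
    (n.d3 * n.e4 * n.d3⁻¹ = (c1 n * (c2 n)⁻¹) ^ 1 * (c2 n * c3 n) ^ 0 ∧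
      n.d3 * zz n * n.d3⁻¹ = (c1 n * (c2 n)⁻¹) ^ 2 * (c2 n * c3 n) ^ 1) ∧
    (n.m * n.e4 * n.m⁻¹ = (c1 n * c2 n) ^ 1 * (c2 n * c3 n) ^ 0 ∧
      n.m * zz n * n.m⁻¹ = (c1 n * c2 n) ^ 1 * (c2 n * c3 n) ^ 1) ∧
    (n.m * n.d3 * n.e4 * (n.m * n.d3)⁻¹ = (c1 n * c2 n) ^ 1 * (c2 n * (c3 n)⁻¹) ^ 0 ∧
      n.m * n.d3 * zz n * (n.m * n.d3)⁻¹ = (c1 n * c2 n) ^ 2 * (c2 n * (c3 n)⁻¹) ^ 2) :=
  n.hL.decide n.rep (by decide +kernel)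

theorem factL (s : Lt G) : s.a ∈ s.Q1 ∧ (∀ k ∈ s.Q1, (k * k = 1 → k = 1 ∨ k = s.a) ∧ k * s.a = s.a * k ∧
    s.e3 * k * s.e3⁻¹ ∈ s.Q1 ∧ s.f * k * s.f⁻¹ ∈ s.Q1 ∧
    ∀ w ∈ s.Za, w * k = k * w ∧ w * (s.d3 * k * s.d3⁻¹) = s.d3 * k * s.d3⁻¹ * w) ∧
    s.p * s.p = 1 ∧ s.p ≠ 1 ∧ s.p ≠ s.a := s.hL.decide s.rep (by decide +kernel)

variable {s : Bs G} {n : Nw G} (h : s.F4 n)
include h

theorem f_eq : c3 n = s.f := by rw [c3, h.e1, h.e2]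
theorem z_eq : zz n = s.z := by rw [zz, h.e1, h.e2, h.e3]

theorem Ok.le_L {X : Subgroup G} (hX : Ok n X) (hb : X ≤ centralizer {n.e4}) : X ≤ s.L :=
  s.cop_le h.Y (h.e4 ▸ hb) hX.cop

section types

variable {X : Subgroup G} (hX : Ok n X) {g k : G} (hg : g ∈ HH n) (hk : k ∈ X)
  (e1 : k * (g * n.e4 * g⁻¹) = g * n.e4 * g⁻¹ * k)
include hX hg hk e1

theorem pA (e2 : k * (g * n.e3 * g⁻¹) = g * n.e3 * g⁻¹ * k) :
    k ∈ zpowers s.a ∨ (g * s.p * g⁻¹ ∈ X ∧ k ∈ cj g s.Za) := by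
  have o := ((hX.cj (inv_mem hg)).inf (BB_mem n).1).inf (BB_mem n).2.1
  have m := mem_pull hk e1 e2
  obtain ⟨r1, r2 | r2⟩ := s.le_Za (o.le_L h (inf_le_left.trans inf_le_right)) o.cop (h.e3 ▸ inf_le_right) (h.a1 ▸ o.le)
    (f_eq h ▸ o.nm (BB_mem n).2.2.1)
  · exact Or.inl (push (h.a1 ▸ hg.1) (r2 m))
  · exact Or.inr ⟨by simpa only [inv_inv] using mem_cj.1 r2.1.1, mem_cj.2 (r1 m)⟩

theorem pB (e2 : k * (g * c3 n * g⁻¹) = g * c3 n * g⁻¹ * k) : k ∈ zpowers s.a := by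
  have o := ((hX.cj (inv_mem hg)).inf (BB_mem n).1).inf (BB_mem n).2.2.1
  exact push (h.a1 ▸ hg.1) (s.le_a (o.le_L h (inf_le_left.trans inf_le_right)) o.cop (f_eq h ▸ inf_le_right)
    (h.a1 ▸ o.le) (h.e3 ▸ o.nm (BB_mem n).2.1) (mem_pull hk e1 e2))

theorem pC (e2 : k * (g * zz n * g⁻¹) = g * zz n * g⁻¹ * k) :
    k ∈ zpowers s.a ∨ (cj g s.Q1 ≤ X ∧ k ∈ cj g s.Q1) := by
  have o := ((hX.cj (inv_mem hg)).inf (BB_mem n).1).inf (BB_mem n).2.2.2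
  have m := mem_pull hk e1 e2
  rcases s.le_Q1 (o.le_L h (inf_le_left.trans inf_le_right)) o.cop (z_eq h ▸ inf_le_right) (h.a1 ▸ o.le)
    (h.e3 ▸ o.nm (BB_mem n).2.1) with r | r
  · exact Or.inl (push (h.a1 ▸ hg.1) (r m))
  · refine Or.inr ⟨?_, mem_cj.2 (r ▸ m)⟩
    have := cj_mono (g := g) (r.ge.trans (inf_le_left.trans inf_le_left))
    rwa [cj_cj_inv] at this

end types

theorem key {X M : Subgroup G} (hX : Ok n X) (ha : s.a ∈ M)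
    (hA : ∀ g, RA n g → g * s.p * g⁻¹ ∈ X → cj g s.Za ≤ M)
    (hC : ∀ g, RC n g → cj g s.Q1 ≤ X → cj g s.Q1 ≤ M) : X ≤ M := by
  have za : zpowers s.a ≤ M := zpowers_le.2 ha
  have A : ∀ {g k x y : G} {i j i' j' : ℕ}, RA n g → k ∈ X → k * x = x * k → k * y = y * k →
      g * n.e4 * g⁻¹ = x ^ i * y ^ j ∧ g * n.e3 * g⁻¹ = x ^ i' * y ^ j' → k ∈ M := fun hg hk h1 h2 e =>
    (pA h hX hg.mem.1 hk (pl h1 h2 e.1) (pl h1 h2 e.2)).elim (fun r => za r) fun r => hA _ hg r.1 r.2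
  have B : ∀ {g k x y : G} {i j i' j' : ℕ}, g ∈ HH n → k ∈ X → k * x = x * k → k * y = y * k →
      g * n.e4 * g⁻¹ = x ^ i * y ^ j ∧ g * c3 n * g⁻¹ = x ^ i' * y ^ j' → k ∈ M := fun hg hk h1 h2 e =>
    za (pB h hX hg hk (pl h1 h2 e.1) (pl h1 h2 e.2))
  have C : ∀ {g k x y : G} {i j i' j' : ℕ}, RC n g → k ∈ X → k * x = x * k → k * y = y * k →
      g * n.e4 * g⁻¹ = x ^ i * y ^ j ∧ g * zz n * g⁻¹ = x ^ i' * y ^ j' → k ∈ M := fun hg hk h1 h2 e =>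
    (pC h hX hg.mem.1 hk (pl h1 h2 e.1) (pl h1 h2 e.2)).elim (fun r => za r) fun r => hC _ hg r.1 r.2
  obtain ⟨a1, a2, a3, -⟩ := idA n
  obtain ⟨b1, b2, b3, b4, b5, b6⟩ := idB n
  obtain ⟨d1, d2, d3, d4⟩ := idC n
  obtain ⟨mv, mm, -⟩ := HH_mem n
  refine gen27 (c1 := c1 n) (c2 := c2 n) (c3 := c3 n) n.swap.gJ0.2 (fun x hx => n.pre.exp x (BB_le n hx)) (BB_comm n)
    hX.nm hX.cop ?_
  simp only [List.forall_mem_cons, List.not_mem_nil, false_imp_iff, implies_true, and_true]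
  exact ⟨fun k hk h1 h2 => A (Or.inr (Or.inl rfl)) hk h1 h2 a1, fun k hk h1 h2 => A (Or.inr (Or.inr rfl)) hk h1 h2 a2,
    fun k hk h1 h2 => A (Or.inl rfl) hk h1 h2 a3, fun k hk h1 h2 => B (one_mem _) hk h1 h2 b1,
    fun k hk h1 h2 => B mm hk h1 h2 b2, fun k hk h1 h2 => B (mul_mem mv mv) hk h1 h2 b3,
    fun k hk h1 h2 => B (mul_mem (mul_mem mv mv) mm) hk h1 h2 b4, fun k hk h1 h2 => B mv hk h1 h2 b5,
    fun k hk h1 h2 => B (mul_mem mv mm) hk h1 h2 b6, fun k hk h1 h2 => C (Or.inl rfl) hk h1 h2 d1,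
    fun k hk h1 h2 => C (Or.inr (Or.inl rfl)) hk h1 h2 d2, fun k hk h1 h2 => C (Or.inr (Or.inr (Or.inl rfl))) hk h1 h2 d3,
    fun k hk h1 h2 => C (Or.inr (Or.inr (Or.inr rfl))) hk h1 h2 d4⟩

theorem cj_Za {g : G} (hg : g ∈ HH n) :
    cj g s.Za = clos [s.a, g * s.p * g⁻¹, g * c3 n * g⁻¹ * (g * s.p * g⁻¹) * (g * c3 n * g⁻¹)⁻¹] := by
  have e : g * s.a * g⁻¹ = s.a := h.a1 ▸ mem_cen'.1 hg.1
  have e' : g * (s.f * s.p * s.f⁻¹) * g⁻¹ = g * c3 n * g⁻¹ * (g * s.p * g⁻¹) * (g * c3 n * g⁻¹)⁻¹ := by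
    rw [f_eq h]; group
  rw [← e']
  exact (map_clos (MulAut.conj g).toMonoidHom [s.a, s.p, s.f * s.p * s.f⁻¹]).trans
    (congrArg (fun y => clos [y, g * s.p * g⁻¹, g * (s.f * s.p * s.f⁻¹) * g⁻¹]) e)

theorem Va_iff {M : Subgroup G} : s.Va n ≤ M ↔ ∀ g, RA n g → cj g s.Za ≤ M := by
  obtain ⟨-, -, -, r1, r2⟩ := idA n
  have e : n.v2 * n.v2 * s.p * (n.v2 * n.v2)⁻¹ = n.v2 * (n.v2 * s.p * n.v2⁻¹) * n.v2⁻¹ := by group
  have z1 := cj_Za h (one_mem (HH n))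
  have z2 := cj_Za h (HH_mem n).1
  have z3 := cj_Za h (mul_mem (HH_mem n).1 (HH_mem n).1)
  rw [r1] at z2
  rw [r2, e] at z3
  simp only [one_mul, inv_one, mul_one] at z1
  simp only [RA, forall_eq_or_imp, forall_eq, z1, z2, z3, Bs.Va, FV, clos_le, List.forall_mem_cons, List.not_mem_nil,
    false_imp_iff, implies_true, and_true]
  exact ⟨fun ⟨a, b, c, d, e, f, g⟩ => ⟨⟨a, f, g⟩, ⟨a, b, c⟩, a, d, e⟩,
    fun ⟨⟨a, f, g⟩, ⟨_, b, c⟩, _, d, e⟩ => ⟨a, b, c, d, e, f, g⟩⟩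

theorem Q4_iff {M : Subgroup G} : s.Q4 n ≤ M ↔ ∀ g, RC n g → cj g s.Q1 ≤ M := by
  simp only [RC, forall_eq_or_imp, forall_eq, Bs.Q4, sup_le_iff, cj_one, h.d3, and_assoc]

theorem a_Va : s.a ∈ s.Va n := mem_clos (by simp)

theorem a_Q4 : s.a ∈ s.Q4 n := (Q4_iff h).1 le_rfl 1 (Or.inl rfl) (by rw [cj_one]; exact (factL s.toLt).1)

theorem ok_Q1 : Ok n s.Q1 where
  cop := by rw [s.gQ1.2]; norm_num
  le := fun k hk => mem_cen.2 (h.a1 ▸ ((factL s.toLt).2.1 k hk).2.1)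
  nm := by
    have e3 : n.e3 ∈ normalizer (s.Q1 : Set G) :=
      h.e3 ▸ mem_normalizer_of_conj_mem fun k hk => ((factL s.toLt).2.1 k hk).2.2.1
    have e4 : n.e4 ∈ normalizer (s.Q1 : Set G) :=
      h.e4 ▸ centralizer_le_normalizer _ fun k hk => s.bc k (s.Q1_le hk)
    refine clos_le.2 ?_
    simp only [List.forall_mem_cons, List.not_mem_nil, false_imp_iff, implies_true, and_true]
    exact ⟨inv_mem (mul_mem e3 e4), mul_mem (inv_mem e3) e4,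
      f_eq h ▸ mem_normalizer_of_conj_mem fun k hk => ((factL s.toLt).2.1 k hk).2.2.2.1⟩

theorem cj_Q1_le {g : G} (hg : g ∈ HH n) : cj g s.Q1 ≤ s.Q4 n := by
  refine key h ((ok_Q1 h).cj hg) (a_Q4 h) (fun r hr e => ?_) fun r hr _ => (Q4_iff h).1 le_rfl r hr
  obtain ⟨-, f1, f2, f3, f4⟩ := factL s.toLt
  have c : (g⁻¹ * r) * s.a * (g⁻¹ * r)⁻¹ = s.a := h.a1 ▸ mem_cen'.1 (mul_mem (inv_mem hg) hr.mem.1).1
  have e' : (g⁻¹ * r) * s.p * (g⁻¹ * r)⁻¹ ∈ s.Q1 := mem_eq (by group) (mem_cj.1 e)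
  rcases (f1 _ e').1 (conj_sq f2) with k | k
  · exact absurd (conj_eq_one.1 k) f3
  · exact absurd (mul_left_cancel (mul_right_cancel (k.trans c.symm))) f4

theorem HH_Q4 {g : G} (hg : g ∈ HH n) : cj g (s.Q4 n) = s.Q4 n := cj_eq_of_le (by
  rw [← cj_le_cj (g := g⁻¹), cj_inv_cj, Q4_iff h]
  intro r hr
  rw [← cj_le_cj (g := g), cj_cj_inv, cj_cj]
  exact cj_Q1_le h (mul_mem hg hr.mem.1))

theorem Za_Q4 : s.Q4 n ≤ centralizer (s.Za : Set G) := by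
  obtain ⟨-, f1, -⟩ := factL s.toLt
  have q1 : s.Q1 ≤ centralizer (s.Za : Set G) := fun k hk w hw => ((f1 k hk).2.2.2.2 w hw).1
  have q2 : cj s.d3 s.Q1 ≤ centralizer (s.Za : Set G) := cj_le_iff.2 fun k hk w hw => ((f1 k hk).2.2.2.2 w hw).2
  have ma : Commute n.m s.a := h.mt.ma
  have mp : Commute n.m s.p := ma.mul_right h.mt.mx
  have mf : Commute n.m s.f :=
    (show Commute n.m s.e1 from mem_cen.1 (mem_cen'.2 h.mt.hm.1)).mul_right (mem_cen.1 (mem_cen'.2 h.mt.hm.2.1))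
  have mZ : n.m ∈ centralizer (s.Za : Set G) := fun w hw => (commute_clos (by
    simp only [List.forall_mem_cons, List.not_mem_nil, false_imp_iff, implies_true, and_true]
    exact ⟨ma, mp, (mf.mul_right mp).mul_right mf.inv_right⟩) w hw).symm
  refine sup_le (sup_le (sup_le q1 q2) ?_) ?_
  · exact (cj_mono q1).trans (cj_eq_of_mem mZ).le
  · rw [← cj_cj]; exact (cj_mono q2).trans (cj_eq_of_mem mZ).le

end FPp

open FPp in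
theorem Bs.F4.fp {s : Bs G} {n : Nw G} (h : s.F4 n) : s.FP n where
  toF4 := h
  le := fun X h1 h2 h3 => key h ⟨h1, h.a1 ▸ h2, h3⟩ (mem_sup_left (a_Va h))
    (fun g hg _ => ((Va_iff h).1 le_rfl g hg).trans le_sup_left) fun g hg _ => ((Q4_iff h).1 le_rfl g hg).trans le_sup_right
  VQ := fun w hw g hg => by
    refine ((Va_iff h (M := centralizer (s.Q4 n : Set G))).2 (fun r hr => ?_) hw g hg).symm
    have := cj_mono (g := r) (le_centralizer_iff.1 (Za_Q4 h))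
    rwa [cj_centralizer, HH_Q4 h hr.mem.1] at this
  rot := fun X h1 h2 h3 => by
    have nb : BB n ≤ centralizer {s.a} := clos_le.2 (by
      rw [← h.a1]
      simp only [List.forall_mem_cons, List.not_mem_nil, false_imp_iff, implies_true, and_true, mem_cen]
      exact n.hL.decide n.rep (by decide +kernel))
    have o : Ok n X := ⟨by
      obtain ⟨k, e⟩ := IsPGroup.iff_card.1 h1
      rw [e]; exact Nat.Coprime.pow_left _ (by norm_num), h.a1 ▸ h2, nb.trans h3⟩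
    have cx : ∀ g ∈ HH n, Inv.Fz.cj g X = X := fun g hg => cj_eq_iff.2 (h3 (h.a1 ▸ hg.1))
    obtain ⟨-, -, b3, b4, -⟩ := idB n
    obtain ⟨mv, mm, -⟩ := HH_mem n
    refine ⟨fun hp => key h o (a_Q4 h) (fun g hg e => ?_) fun g hg _ => (Q4_iff h).1 le_rfl g hg,
      fun hq => key h o (a_Va h) (fun g hg _ => (Va_iff h).1 le_rfl g hg) fun g hg e => ?_,
      fun hq => (Q4_iff h).2 fun g hg => ?_, fun hp => (Va_iff h).2 fun g hg => ?_, fun g hg e1 e2 => ?_⟩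
    · rw [← cx g hg.mem.1, conj_mem_cj] at e
      exact absurd e hp
    · rw [← cx g hg.mem.1, cj_le_cj] at e
      exact absurd (e (mem_clos (by simp))) hq
    · rw [← cx g hg.mem.1, cj_le_cj]
      refine clos_le.2 ?_
      simp only [List.forall_mem_cons, List.not_mem_nil, false_imp_iff, implies_true, and_true]
      exact ⟨hq, conj_mem_of_mem_norm (h.e3 ▸ o.nm (BB_mem n).2.1) hq⟩
    · have e : Inv.Fz.cj g (X ⊔ zpowers s.a) = X ⊔ zpowers s.a := by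
        rw [cj_sup, cx g hg.mem.1, cj_zpowers, mem_cen'.1 (h.a1 ▸ hg.mem.1.1)]
      rw [← e, cj_le_cj]
      refine clos_le.2 ?_
      simp only [List.forall_mem_cons, List.not_mem_nil, false_imp_iff, implies_true, and_true]
      exact ⟨mem_sup_right (mem_zpowers _), mem_sup_left hp,
        mem_sup_left (conj_mem_of_mem_norm (f_eq h ▸ o.nm (BB_mem n).2.2.1) hp)⟩
    · rcases e2 with e2 | e2
      · exact pB h o (mul_mem (mul_mem mv mv) mm) hg (pl e2 e1 b4.1) (pl e2 e1 b4.2)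
      · exact pB h o (mul_mem mv mv) hg (pl e2 e1 b3.1) (pl e2 e1 b3.2)
  sh := fun M hM => by
    have k : ∀ g ∈ n.W, ∀ K : Subgroup G, K ≤ s.L → Inv.Fz.cj g K ≤ M := fun g hg K hK => by
      refine (cj_mono (K := centralizer {n.e4}) fun x hx => mem_cen.2 (h.e4 ▸ s.bc x (hK hx))).trans ?_
      rw [cj_centralizer_singleton]
      exact hM _ ⟨g, hg, rfl⟩
    exact sup_le ((Va_iff h).2 fun g hg => k g hg.mem.2 _ s.Za_le) ((Q4_iff h).2 fun g hg => k g hg.mem.2 _ s.Q1_le)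

end Cfsg.Agent.S8
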