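import Mathlib
import Cfsg.Agent.S8.FP
import Cfsg.Agent.S8.Flag

/-! The case `W(F₄)`: the centre of `O₂(C(a))`. -/

set_option autoImplicit false
set_option linter.unusedSectionVars false
set_option synthInstance.maxSize 100000
set_option synthInstance.maxHeartbeats 1000000
set_option maxRecDepth 100000

namespace Cfsg.Agent.S8

open Cfsg.Agent.Spor Cfsg.Agent.Rec Cfsg.Agent.Inv.Fz Cfsg.Agent.T16 Cfsg.Agent.F4L Subgroup

universe u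

variable {G : Type u} [Group G] [Finite G]

namespace FQ

theorem zsq {a z : G} (a2 : a * a = 1) (hz : z ∈ zpowers a) : z * z = 1 := by
  obtain ⟨k, rfl⟩ := hz
  rw [← (Commute.refl a).mul_zpow, a2, one_zpow]

theorem zcm {a z x : G} (hz : z ∈ zpowers a) (h : x * a = a * x) : x * z = z * x := by
  obtain ⟨k, rfl⟩ := hz
  exact (show Commute x a from h).zpow_right k

theorem cube {φ : G} (φ3 : φ ^ 3 = 1) (x : G) : φ * (φ * (φ * x * φ⁻¹) * φ⁻¹) * φ⁻¹ = x := by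
  calc _ = φ ^ 3 * x * (φ ^ 3)⁻¹ := by rw [pow_three]; group
    _ = x := by rw [φ3]; group

theorem two_inv {φ : G} (φ3 : φ ^ 3 = 1) (x : G) : φ * (φ * x * φ⁻¹) * φ⁻¹ = φ⁻¹ * x * φ := by
  conv_rhs => rw [← cube φ3 x]
  group

/-- An element of order three without fixed points modulo a central involution. -/
theorem tri_mod {R : Subgroup G} {a φ : G} (a2 : a * a = 1) (ha : ∀ x ∈ R, x * a = a * x) (hφ : φ * a = a * φ)
    (φ3 : φ ^ 3 = 1) (hn : ∀ x ∈ R, φ * x * φ⁻¹ ∈ R) (hf : ∀ x ∈ R, x * φ = φ * x → x ∈ zpowers a) {x : G}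
    (hx : x ∈ R) : x * (φ * x * φ⁻¹) * (φ⁻¹ * x * φ) ∈ zpowers a := by
  let Z := (zpowers a).subgroupOf R
  have : Z.Normal := ⟨fun z hz y => by
    rw [show y * z * y⁻¹ = z from Subtype.ext (mul_inv_eq_iff_eq_mul.2 (zcm hz (ha y y.2)))]; exact hz⟩
  let α : R →* R := ((MulAut.conj φ).toMonoidHom.comp R.subtype).codRestrict R fun y => hn y y.2
  let β := QuotientGroup.map Z Z α fun z hz => by
    change φ * z * φ⁻¹ ∈ zpowers a
    rw [zcm (z := (z : G)) hz hφ, mul_inv_cancel_right]; exact hz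
  have h1 : MonoidHom.FixedPointFree β := fun y e => by
    obtain ⟨y, rfl⟩ := QuotientGroup.mk_surjective y
    have h2 : (y : G)⁻¹ * (φ * y * φ⁻¹) ∈ zpowers a :=
      (QuotientGroup.eq (s := Z) (a := y) (b := α y)).1 e.symm
    obtain ⟨z, hz⟩ : ∃ z, z = (y : G)⁻¹ * (φ * y * φ⁻¹) := ⟨_, rfl⟩
    rw [← hz] at h2
    have h3 : φ * y * φ⁻¹ = y * z := by rw [hz, mul_inv_cancel_left]
    have h4 : φ * z * φ⁻¹ = z := mul_inv_eq_iff_eq_mul.2 (zcm h2 hφ)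
    have h5 := cube φ3 (y : G)
    rw [h3, ← conj_mul (a := (y : G)), h3, h4, mul_assoc _ z, zsq a2 h2, mul_one] at h5
    exact (QuotientGroup.eq_one_iff _).2 (hf y y.2 (mul_inv_eq_iff_eq_mul.1 h5).symm)
  have h2 := h1.prod_pow_eq_one (n := 3) (funext fun y => by
    obtain ⟨y, rfl⟩ := QuotientGroup.mk_surjective y
    exact congrArg QuotientGroup.mk (Subtype.ext (cube φ3 (y : G)))) (⟨x, hx⟩ : R)
  have h3 : ((⟨x, hx⟩ * (α ⟨x, hx⟩ * (α (α ⟨x, hx⟩) * 1)) : R) : R ⧸ Z) = 1 := h2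
  have h4 : x * (φ * x * φ⁻¹ * (φ * (φ * x * φ⁻¹) * φ⁻¹ * 1)) ∈ zpowers a :=
    (QuotientGroup.eq_one_iff (N := Z) _).1 h3
  rwa [mul_one, two_inv φ3, ← mul_assoc] at h4

/-- Two four-groups commute. -/
theorem comm_of {R : Subgroup G} {a c d e g : G} (a2 : a * a = 1) (ha : ∀ x ∈ R, x * a = a * x)
    (ca : c * a = a * c) (da : d * a = a * d) (c3 : c ^ 3 = 1) (d3 : d ^ 3 = 1) (cd : c * d = d * c)
    (cn : ∀ x ∈ R, c * x * c⁻¹ ∈ R) (dn : ∀ x ∈ R, d * x * d⁻¹ ∈ R)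
    (hf : ∀ x ∈ R, x * (c * d) = c * d * x ∨ x * (c * d⁻¹) = c * d⁻¹ * x → x ∈ zpowers a)
    (eR : e ∈ R) (gR : g ∈ R) (g2 : g * g = 1) (te : e * (c * e * c⁻¹) * (c⁻¹ * e * c) = 1)
    (tg : g * (d * g * d⁻¹) * (d⁻¹ * g * d) = 1) (cg : c * g = g * c) (de : d * e = e * d) : e * g = g * e := by
  have key : ∀ d : G, d * a = a * d → d ^ 3 = 1 → c * d = d * c → (∀ x ∈ R, d * x * d⁻¹ ∈ R) → d * e = e * d →
      (∀ x ∈ R, x * (c * d) = c * d * x → x ∈ zpowers a) →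
      e * g * (c * e * c⁻¹ * (d * g * d⁻¹)) * (c⁻¹ * e * c * (d⁻¹ * g * d)) ∈ zpowers a :=
    fun d da d3 cd dn de hf => by
      have C : Commute c d := cd
      have h := tri_mod (φ := c * d) a2 ha (by rw [mul_assoc, da, ← mul_assoc, ca, mul_assoc])
        (by rw [C.mul_pow, c3, d3, one_mul]) (fun x hx => by
          have := cn _ (dn x hx)
          rwa [show c * (d * x * d⁻¹) * c⁻¹ = c * d * x * (c * d)⁻¹ by group] at this) hf (mul_mem eR gR)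
      have e1 : c * d * (e * g) * (c * d)⁻¹ = c * e * c⁻¹ * (d * g * d⁻¹) := by
        calc _ = c * (d * e * d⁻¹) * c⁻¹ * (c * d * g * (c * d)⁻¹) := by group
          _ = c * e * c⁻¹ * (d * (c * g * c⁻¹) * d⁻¹) := by rw [de, cd]; group
          _ = _ := by rw [cg]; group
      have e2 : (c * d)⁻¹ * (e * g) * (c * d) = c⁻¹ * e * c * (d⁻¹ * g * d) := by
        calc _ = (d * c)⁻¹ * e * (d * c) * ((c * d)⁻¹ * g * (c * d)) := by rw [← cd]; group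
          _ = c⁻¹ * (d⁻¹ * (e * d)) * c * (d⁻¹ * (c⁻¹ * (g * c)) * d) := by group
          _ = _ := by rw [← de, ← cg]; group
      rwa [e1, e2] at h
  have h1 := key d da d3 cd dn de fun x hx h => hf x hx (.inl h)
  have h2 := key d⁻¹ (show Commute d a from da).inv_left (by rw [inv_pow, d3, inv_one])
    (show Commute c d from cd).inv_right (fun x hx => by rw [inv_inv, ← two_inv d3]; exact dn _ (dn x hx))
    (show Commute d e from de).inv_left fun x hx h => hf x hx (.inr h)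
  rw [inv_inv] at h2
  have s1 : d * g * d⁻¹ * (d * g * d⁻¹) = 1 := conj_sq g2
  have s2 : d⁻¹ * g * d * (d⁻¹ * g * d) = 1 := by simpa using conj_sq (g := d⁻¹) g2
  have g1R := dn g gR
  have g2R : d⁻¹ * g * d ∈ R := two_inv d3 g ▸ dn _ g1R
  have e1R := cn e eR
  have e2R : c⁻¹ * e * c ∈ R := two_inv c3 e ▸ cn _ e1R
  have m1 : c * (c⁻¹ * e * c) * c⁻¹ = e := by group
  generalize d * g * d⁻¹ = g1 at *
  generalize d⁻¹ * g * d = g2' at *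
  generalize c⁻¹ * e * c = e2 at *
  obtain ⟨e1, he1⟩ : ∃ e1, e1 = c * e * c⁻¹ := ⟨_, rfl⟩
  rw [← he1] at te h1 h2 e1R
  have hg : g = g1 * g2' := by
    rw [← inv_eq_of_mul_eq_one_right g2, inv_eq_iff_mul_eq_one, ← mul_assoc, tg]
  have hg' : g = g2' * g1 := by
    rw [← inv_eq_of_mul_eq_one_right g2, hg, mul_inv_rev, inv_eq_of_mul_eq_one_right s1,
      inv_eq_of_mul_eq_one_right s2]
  obtain ⟨z, hz⟩ : ∃ z, z = (e * g * (e1 * g1) * (e2 * g2'))⁻¹ * (e * g * (e1 * g2') * (e2 * g1)) := ⟨_, rfl⟩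
  have zm : z ∈ zpowers a := hz ▸ mul_mem (inv_mem h1) h2
  have h3 : g * e2 = e2 * g * z := by
    have : g2' * e2 * g1 = g1 * e2 * g2' * z := by rw [hz]; group
    calc g * e2 = g1 * (g2' * e2 * g1) * g1⁻¹ := by rw [hg]; group
      _ = g1 * g1 * e2 * g2' * (z * g1⁻¹) := by rw [this]; group
      _ = e2 * g * z := by
        rw [s1, ← zcm zm (ha _ (inv_mem g1R)), inv_eq_of_mul_eq_one_right s1, hg']; group
  have cz : c * z * c⁻¹ = z := mul_inv_eq_iff_eq_mul.2 (zcm zm ca)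
  have cg' : c * g * c⁻¹ = g := mul_inv_eq_iff_eq_mul.2 cg
  have h4 : g * e = e * g * z := by
    have := congrArg (fun y => c * y * c⁻¹) h3
    simpa only [← conj_mul, cz, cg', m1] using this
  have h5 : g * e1 = e1 * g * z := by
    have := congrArg (fun y => c * y * c⁻¹) h4
    simpa only [← conj_mul, cz, cg', ← he1] using this
  have h6 : g * (e * e1 * e2) = e * e1 * e2 * g * z := by
    calc _ = e * g * (z * e1) * e2 := by rw [← mul_assoc, ← mul_assoc, h4]; group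
      _ = e * (g * e1) * (z * e2) := by rw [← zcm zm (ha _ e1R)]; group
      _ = e * e1 * (g * (z * z) * e2) := by rw [h5]; group
      _ = _ := by rw [zsq a2 zm, mul_one, h3]; group
  rw [te, mul_one, one_mul, left_eq_mul] at h6
  rw [h4, h6, mul_one]

/-- The relations follow by rotation. -/
theorem mk_fl {a c1 c2 c3 p v : G} (a2 : a * a = 1) (a1 : a ≠ 1) (o3 : c3 ^ 3 = 1) (c12 : c1 * c2 = c2 * c1)
    (ca : c3 * a = a * c3) (v3 : v ^ 3 = 1) (va : v * a * v⁻¹ = a) (v1 : v * c1 * v⁻¹ = c2) (v2 : v * c2 * v⁻¹ = c3)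
    (v0 : v * c3 * v⁻¹ = c1) (p2 : p * p = 1) (p1 : p ≠ 1) (pa : p * a = a * p)
    (tri : p * (c3 * p * c3⁻¹) * (c3⁻¹ * p * c3) = 1) (q1 : c1 * p = p * c1) (q2 : c2 * p = p * c2)
    (pp : v * p * v⁻¹ * p = p * (v * p * v⁻¹)) : Fl a c1 c2 c3 (v * p * v⁻¹) (v * (v * p * v⁻¹) * v⁻¹) p := by
  have m : ∀ {x y : G}, x * y = y * x → v * x * v⁻¹ * (v * y * v⁻¹) = v * y * v⁻¹ * (v * x * v⁻¹) := fun h => by
    rw [conj_mul, conj_mul, h]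
  have o : ∀ {x : G}, x ^ 3 = 1 → (v * x * v⁻¹) ^ 3 = 1 := fun h => by rw [conj_pow, h]; group
  have t : ∀ {x c : G}, x * (c * x * c⁻¹) * (c⁻¹ * x * c) = 1 → v * x * v⁻¹ * (v * c * v⁻¹ * (v * x * v⁻¹) *
      (v * c * v⁻¹)⁻¹) * ((v * c * v⁻¹)⁻¹ * (v * x * v⁻¹) * (v * c * v⁻¹)) = 1 := fun {x c} h => by
    calc _ = v * (x * (c * x * c⁻¹) * (c⁻¹ * x * c)) * v⁻¹ := by group
      _ = 1 := by rw [h]; group
  have c23 : c2 * c3 = c3 * c2 := by simpa only [v1, v2] using m c12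
  have c1a : c1 * a = a * c1 := by simpa only [v0, va] using m ca
  have pa1 : v * p * v⁻¹ * a = a * (v * p * v⁻¹) := by simpa only [va] using m pa
  have t1 := t tri
  rw [v0] at t1
  have t2 := t t1
  rw [v1] at t2
  have q3 := m q1
  have q4 := m q2
  rw [v1] at q3
  rw [v2] at q4
  exact ⟨a2, a1, ⟨v0 ▸ o o3, v1 ▸ v0 ▸ o (o o3), o3⟩, ⟨c12, by simpa only [v2, v0] using (m c23).symm, c23⟩,
    ⟨c1a, by simpa only [v1, va] using m c1a, ca⟩, ⟨conj_sq p2, conj_sq (conj_sq p2), p2⟩,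
    ⟨mt conj_eq_one.1 p1, mt conj_eq_one.1 (mt conj_eq_one.1 p1), p1⟩,
    ⟨pa1, by simpa only [va] using m pa1, pa⟩, ⟨t1, t2, tri⟩,
    ⟨by simpa only [v0] using m q4, q1, q3, q2, q4, by simpa only [v2] using m q3⟩,
    (m pp).symm, pp, by simpa only [cube v3] using (m (m pp)).symm⟩

end FQ

theorem Bs.FP.fq {s : Bs G} {n : Nw G} (h : s.FP n) (gl : Gl G) : s.FQ n := by
  have hs : s.a * s.a = 1 ∧ s.a ≠ 1 ∧ s.p * s.p = 1 ∧ s.p ≠ 1 ∧ s.p * s.a = s.a * s.p ∧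
      s.p * (s.f * s.p * s.f⁻¹) * (s.f⁻¹ * s.p * s.f) = 1 ∧ s.e3 * s.p = s.p * s.e3 ∧ s.q * s.a = s.a * s.q ∧
      s.e3 * s.q * s.e3⁻¹ * s.q ≠ s.q * (s.e3 * s.q * s.e3⁻¹) := s.hL.decide s.rep (by decide +kernel)
  obtain ⟨a2, a1, p2, p1, pa, tri, e3p, qa, qq⟩ := hs
  have hn : ((n.e3 * n.e4)⁻¹ ^ 3 = 1 ∧ (n.e1 * n.e2) ^ 3 = 1) ∧
      ((n.e3 * n.e4)⁻¹ * (n.e3⁻¹ * n.e4) = n.e3⁻¹ * n.e4 * (n.e3 * n.e4)⁻¹ ∧
        (n.e3 * n.e4)⁻¹ * (n.e1 * n.e2) = n.e1 * n.e2 * (n.e3 * n.e4)⁻¹ ∧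
        n.e3⁻¹ * n.e4 * (n.e1 * n.e2) = n.e1 * n.e2 * (n.e3⁻¹ * n.e4)) ∧
      ((n.e3 * n.e4)⁻¹ * n.a1 = n.a1 * (n.e3 * n.e4)⁻¹ ∧ n.e3⁻¹ * n.e4 * n.a1 = n.a1 * (n.e3⁻¹ * n.e4) ∧
        n.e1 * n.e2 * n.a1 = n.a1 * (n.e1 * n.e2)) ∧ n.v2 ^ 3 = 1 ∧ n.v2 * n.a1 * n.v2⁻¹ = n.a1 ∧
      n.v2 * (n.e3 * n.e4)⁻¹ * n.v2⁻¹ = n.e3⁻¹ * n.e4 ∧ n.v2 * (n.e3⁻¹ * n.e4) * n.v2⁻¹ = n.e1 * n.e2 ∧
      n.v2 * (n.e1 * n.e2) * n.v2⁻¹ = (n.e3 * n.e4)⁻¹ := n.hL.decide n.rep (by decide +kernel)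
  have hf : s.f = n.swap.e3 := by rw [Lt.f, ← h.e1, ← h.e2]; rfl
  have bp : Commute n.e4 s.p := h.e4 ▸ (s.bc _ (mul_mem s.aL s.xL)).symm
  have ep : Commute n.e3 s.p := h.e3 ▸ e3p
  have q1 : n.swap.e1 * s.p = s.p * n.swap.e1 := (ep.mul_left bp).inv_left
  have q2 : n.swap.e2 * s.p = s.p * n.swap.e2 := ep.inv_left.mul_left bp
  rw [h.a1] at hn
  rw [hf] at tri
  change (n.swap.e1 ^ 3 = 1 ∧ n.swap.e3 ^ 3 = 1) ∧ (n.swap.e1 * n.swap.e2 = n.swap.e2 * n.swap.e1 ∧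
    n.swap.e1 * n.swap.e3 = n.swap.e3 * n.swap.e1 ∧ n.swap.e2 * n.swap.e3 = n.swap.e3 * n.swap.e2) ∧
    (n.swap.e1 * _ = _ * n.swap.e1 ∧ n.swap.e2 * _ = _ * n.swap.e2 ∧ n.swap.e3 * _ = _ * n.swap.e3) ∧ _ ∧ _ ∧
    _ * n.swap.e1 * _ = n.swap.e2 ∧ _ * n.swap.e2 * _ = n.swap.e3 ∧ _ * n.swap.e3 * _ = n.swap.e1 at hn
  obtain ⟨⟨o1, o3⟩, ⟨c12, c13, c23⟩, ⟨c1a, c2a, c3a⟩, v3, va, v1, v2, v0⟩ := hn
  obtain ⟨Q, hQ⟩ := gl.c2 s.a a2 a1
  obtain ⟨r1, r2, r3, r4, r5⟩ := h.rot Q hQ.two hQ.le hQ.nm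
  have pV : s.p ∈ s.Va n := mem_clos (by simp)
  have aV : s.a ∈ s.Va n := mem_clos (by simp)
  have k4 : s.Q1 ≤ s.Q4 n := le_sup_of_le_left (le_sup_of_le_left le_sup_left)
  have qQ4 : s.q ∈ s.Q4 n := k4 (mem_clos (by simp))
  have pQ : s.p ∈ Q := by_contra fun e => e (hQ.sc _ pa fun w hw => h.VQ _ pV _ (r1 e hw))
  have qQ : s.q ∈ Q := by_contra fun e => e (hQ.sc _ qa fun w hw => (h.VQ _ (r2 e hw) _ qQ4).symm)
  have aQ : s.a ∈ Q := hQ.sc _ rfl fun w hw => (mem_cen.1 (hQ.le hw)).symm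
  have VQ : s.Va n ≤ Q := (r4 pQ).trans (sup_le le_rfl (zpowers_le.2 aQ))
  have nQ : ∀ {c x : G}, c * s.a = s.a * c → x ∈ Q → c * x * c⁻¹ ∈ Q := fun hc hx =>
    conj_mem_of_mem_norm (hQ.nm (mem_cen.2 hc)) hx
  have nR : ∀ {c : G}, c * s.a = s.a * c → c * n.swap.e2 = n.swap.e2 * c → ∀ x ∈ Q ⊓ centralizer {n.swap.e2},
      c * x * c⁻¹ ∈ Q ⊓ centralizer {n.swap.e2} := fun hc hc' x hx =>
    mem_inf.2 ⟨nQ hc hx.1, mul_mem (mul_mem (mem_cen.2 hc') hx.2) (inv_mem (mem_cen.2 hc'))⟩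
  have m : ∀ {x y : G}, x * y = y * x →
      n.v2 * x * n.v2⁻¹ * (n.v2 * y * n.v2⁻¹) = n.v2 * y * n.v2⁻¹ * (n.v2 * x * n.v2⁻¹) := fun h => by
    rw [conj_mul, conj_mul, h]
  have fl : Fl s.a n.swap.e1 n.swap.e2 n.swap.e3 (n.v2 * s.p * n.v2⁻¹) (n.v2 * (n.v2 * s.p * n.v2⁻¹) * n.v2⁻¹)
      s.p := by
    refine FQ.mk_fl a2 a1 o3 c12 c3a v3 va v1 v2 v0 p2 p1 pa tri q1 q2 ?_
    refine FQ.comm_of (R := Q ⊓ centralizer {n.swap.e2}) a2 (fun x hx => mem_cen.1 (hQ.le hx.1)) c1a c3a o1 o3 c13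
      (nR c1a c12) (nR c3a c23.symm) (fun x hx => r5 x hx.1 (mem_cen.1 hx.2))
      ⟨nQ (mul_inv_eq_iff_eq_mul.1 va) pQ, mem_cen.2 (v1 ▸ (m q1).symm)⟩ ⟨pQ, mem_cen.2 q2.symm⟩ p2 ?_ tri q1
      (v2 ▸ m q2)
    rw [← v0]
    calc _ = n.v2 * (s.p * (n.swap.e3 * s.p * n.swap.e3⁻¹) * (n.swap.e3⁻¹ * s.p * n.swap.e3)) * n.v2⁻¹ := by group
      _ = 1 := by rw [tri]; group
  have : Fact (Nat.Prime 2) := ⟨Nat.prime_two⟩
  have cop : ∀ {X : Subgroup G}, IsPGroup 2 X → (Nat.card X).Coprime 3 := fun hX => by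
    obtain ⟨k, hk⟩ := hX.exists_card_eq
    rw [hk]; exact Nat.Coprime.pow_left k (by norm_num)
  have BC : clos [n.swap.e1, n.swap.e2, n.swap.e3] ≤ centralizer {s.a} := clos_le.2 (by
    simp only [List.forall_mem_cons, List.not_mem_nil, false_imp_iff, implies_true, and_true]
    exact ⟨mem_cen.2 c1a, mem_cen.2 c2a, mem_cen.2 c3a⟩)
  have cV : s.Va n ⊔ s.Q4 n ≤ centralizer (s.Va n : Set G) :=
    sup_le (fun x hx y hy => fl.comm y hy x hx) fun x hx y hy => h.VQ y hy x hx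
  have QV := h.le Q (cop hQ.two) hQ.le (BC.trans hQ.nm)
  have nZ : centralizer {s.a} ≤ normalizer ((Q ⊓ centralizer (Q : Set G) : Subgroup G) : Set G) :=
    (le_inf hQ.nm (hQ.nm.trans (normalizer_le_normalizer_centralizer Q))).trans inf_normalizer_le_normalizer_inf
  have ZV : Q ⊓ centralizer (Q : Set G) = s.Va n := by
    refine le_antisymm ((h.rot _ (hQ.two.to_le inf_le_left) (inf_le_left.trans hQ.le) nZ).2.1 fun e => qq ?_)
      (le_inf VQ fun x hx y hy => (cV (QV hy) x hx).symm)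
    exact e.2 _ (r3 qQ (k4 (mem_clos (by simp))))
  have CV := h.le (centralizer (s.Va n : Set G)) (fl.cop gl) (centralizer_le (by simpa using aV))
    (fl.norm.trans (normalizer_le_normalizer_centralizer _))
  exact ⟨h.toF4, fl, ZV ▸ nZ, hQ.two.to_le (CV.trans (sup_le VQ (r3 qQ))),
    fun X h1 h2 h3 => (h.le X (cop h1) h2 h3).trans cV, fun M hM => CV.trans (h.sh M hM)⟩

end Cfsg.Agent.S8
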