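import Mathlib
import Cfsg.Agent.S8.FQ
import Cfsg.Agent.S8.Flag
import Cfsg.Agent.S8.Mt
import Cfsg.Agent.T16.CaX4B

/-! The case `W(F₄)`: the second group `Sp₆(2)`. -/

set_option autoImplicit false
set_option linter.unusedSectionVars false
set_option synthInstance.maxSize 100000
set_option synthInstance.maxHeartbeats 1000000
set_option maxRecDepth 100000

namespace Cfsg.Agent.S8

open Cfsg.Agent.Spor Cfsg.Agent.Rec Cfsg.Agent.Inv.Fz Cfsg.Agent.T16 Cfsg.Agent.F4L Subgroup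

universe u

variable {G : Type u} [Group G] [Finite G]

namespace FKx

/-- An element that acts on the generators as a transvection with centre `p` does so on the group. -/
theorem delta {l : List G} {d p : G} (hp : p * p = 1) (hc : ∀ x ∈ clos l, p * x = x * p)
    (h : ∀ x ∈ l, d * x * d⁻¹ = x ∨ d * x * d⁻¹ = p * x) {w : G} (hw : w ∈ clos l) :
    d * w * d⁻¹ = w ∨ d * w * d⁻¹ = p * w := by
  induction hw using closure_induction with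
  | mem y hy => exact h y hy
  | one => simp
  | mul x y hx hy a b =>
    rw [← conj_mul]
    rcases a with a | a <;> rcases b with b | b <;> rw [a, b]
    · exact Or.inl rfl
    · exact Or.inr (by rw [← mul_assoc, ← hc x hx, mul_assoc])
    · exact Or.inr (mul_assoc _ _ _)
    · exact Or.inl (by rw [hc x hx, mul_assoc, ← mul_assoc p, hp, one_mul])
  | inv x hx a =>
    rw [← conj_inv]
    rcases a with a | a <;> rw [a]
    · exact Or.inl rfl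
    · exact Or.inr (by rw [hc x hx, mul_inv_rev, inv_eq_of_mul_eq_one_right hp])

theorem dich {l : List G} {r w : G} (hc : ∀ x ∈ clos (r :: l), r * x = x * r) (h2 : r * r = 1)
    (hw : w ∈ clos (r :: l)) : w ∈ clos l ∨ r * w ∈ clos l := by
  induction hw using closure_induction with
  | mem y hy =>
    rcases List.mem_cons.1 hy with rfl | hy
    · exact Or.inr (h2 ▸ one_mem _)
    · exact Or.inl (mem_clos hy)
  | one => exact Or.inl (one_mem _)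
  | mul x y hx hy a b =>
    rcases a with a | a <;> rcases b with b | b
    · exact Or.inl (mul_mem a b)
    · exact Or.inr (mem_eq (by rw [← mul_assoc, hc x hx, mul_assoc]) (mul_mem a b))
    · exact Or.inr (mem_eq (mul_assoc _ _ _).symm (mul_mem a b))
    · exact Or.inl (mem_eq (by rw [hc x hx, mul_assoc, ← mul_assoc r, h2, one_mul]) (mul_mem a b))
  | inv x hx a =>
    rcases a with a | a
    · exact Or.inl (inv_mem a)
    · exact Or.inr (mem_eq (by rw [hc x hx, mul_inv_rev, inv_eq_of_mul_eq_one_right h2]) (inv_mem a))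

theorem strip {l : List G} {r d w : G} (hc : ∀ x ∈ clos (r :: l), r * x = x * r) (h2 : r * r = 1)
    (hd : ∀ x ∈ l, d * x = x * d) (hr : d * r ≠ r * d) (hw : w ∈ clos (r :: l)) (h : d * w = w * d) : w ∈ clos l :=
  (dich hc h2 hw).resolve_right fun e => hr (by
    have := (show Commute d (r * w) from commute_clos hd _ e).mul_right (show Commute d w from h).inv_right
    rwa [mul_inv_cancel_right] at this)

theorem fix {V : Subgroup G} (hV : ∀ x ∈ V, ∀ y ∈ V, x * y = y * x) {d p r g : G} (hp : p ∈ V) (h1 : p ≠ 1) (hr : r ∈ V)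
    (e : d * r * d⁻¹ = p * r) (hd : ∀ w ∈ V, d * w * d⁻¹ = w ∨ d * w * d⁻¹ = p * w) (hg : ∀ w ∈ V, g * w * g⁻¹ ∈ V)
    (c : g * d = d * g) : g * p = p * g ∧ ∀ w ∈ V, d * (g * w * g⁻¹ * w⁻¹) = g * w * g⁻¹ * w⁻¹ * d := by
  have k : ∀ w, d * (g * w * g⁻¹) * d⁻¹ = g * (d * w * d⁻¹) * g⁻¹ := fun w => by
    calc _ = d * g * w * (d * g)⁻¹ := by group
      _ = _ := by rw [← c]; group
  have k1 : g * p * g⁻¹ = p := by
    rcases hd _ (hg r hr) with a | a <;> rw [k, e, ← conj_mul] at a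
    · exact absurd (conj_eq_one.1 (mul_eq_right.1 a)) h1
    · exact mul_right_cancel a
  refine ⟨mul_inv_eq_iff_eq_mul.1 k1, fun w hw => mul_inv_eq_iff_eq_mul.1 ?_⟩
  rw [← conj_mul, ← conj_inv, k]
  rcases hd w hw with a | a <;> rw [a]
  rw [← conj_mul, k1, mul_inv_rev, ← mul_assoc, mul_assoc p, hV p hp _ (mul_mem (hg w hw) (inv_mem hw)),
    mul_inv_cancel_right]

/-- `d` inverts `c₃` and centralises the other letters. -/
structure Tv (t c1 c2 c3 p1 p2 p3 d : G) : Prop where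
  t : d * t = t * d
  p1 : d * p1 = p1 * d
  p2 : d * p2 = p2 * d
  p3 : d * p3 = p3 * d
  c1 : d * c1 = c1 * d
  c2 : d * c2 = c2 * d
  c3 : d * c3 * d⁻¹ = c3⁻¹

theorem cm {d c p : G} (h1 : d * c = c * d) (h2 : d * p = p * d) : d * (c * p * c⁻¹) = c * p * c⁻¹ * d :=
  ((show Commute d c from h1).mul_right h2).mul_right (show Commute d c from h1).inv_right

theorem mv {d c p : G} (h1 : d * c * d⁻¹ = c⁻¹) (h2 : d * p = p * d) (h3 : p * (c * p * c⁻¹) * (c⁻¹ * p * c) = 1)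
    (h4 : p * p = 1) : d * (c * p * c⁻¹) * d⁻¹ = p * (c * p * c⁻¹) := by
  have e : c⁻¹ * p * c * (c⁻¹ * p * c) = 1 := by
    calc _ = c⁻¹ * (p * p) * c := by group
      _ = 1 := by rw [h4]; group
  rw [← conj_mul, ← conj_mul, ← conj_inv, h1, inv_inv, mul_inv_eq_iff_eq_mul.2 h2, eq_inv_of_mul_eq_one_left h3,
    inv_eq_of_mul_eq_one_right e]

section

variable {t c1 c2 c3 p1 p2 p3 d1 d2 d3 : G} (h : Fl t c1 c2 c3 p1 p2 p3) (h1 : Tv t c2 c3 c1 p2 p3 p1 d1)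
  (h2 : Tv t c3 c1 c2 p3 p1 p2 d2) (h3 : Tv t c1 c2 c3 p1 p2 p3 d3)
include h h1 h2 h3

theorem act {g : G} (hg : g ∈ normalizer (FV t c1 c2 c3 p1 p2 p3 : Set G)) (g0 : g * t = t * g) (g1 : g * d1 = d1 * g)
    (g2 : g * d2 = d2 * g) (g3 : g * d3 = d3 * g) :
    (∀ x ∈ clos [t, p1, p2, p3], g * x = x * g) ∧
      ∀ w ∈ FV t c1 c2 c3 p1 p2 p3, g * w * g⁻¹ * w⁻¹ ∈ clos [t, p1, p2, p3] := by
  have m : ∀ i, nth 1 [t, p1, c1 * p1 * c1⁻¹, p2, c2 * p2 * c2⁻¹, p3, c3 * p3 * c3⁻¹] i ∈ FV t c1 c2 c3 p1 p2 p3 :=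
    nth_mem_clos _
  have hN : ∀ w ∈ FV t c1 c2 c3 p1 p2 p3, g * w * g⁻¹ ∈ FV t c1 c2 c3 p1 p2 p3 := fun w hw =>
    (mem_normalizer_iff.1 hg w).1 hw
  have i : ∀ {d x : G}, d * x = x * d → d * x * d⁻¹ = x := mul_inv_eq_iff_eq_mul.2
  have e1 := mv h1.c3 h1.p3 h.tri.1 h.sq.1
  have e2 := mv h2.c3 h2.p3 h.tri.2.1 h.sq.2.1
  have e3 := mv h3.c3 h3.p3 h.tri.2.2 h.sq.2.2
  have a1 := fix h.comm (m 1) h.ne.1 (m 2) e1 (fun w hw => delta h.sq.1 (h.comm _ (m 1)) (by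
    simp only [List.forall_mem_cons, List.not_mem_nil, false_imp_iff, implies_true, and_true]
    exact ⟨.inl (i h1.t), .inl (i h1.p3), .inr e1, .inl (i h1.p1), .inl (i (cm h1.c1 h1.p1)), .inl (i h1.p2),
      .inl (i (cm h1.c2 h1.p2))⟩) hw) hN g1
  have a2 := fix h.comm (m 3) h.ne.2.1 (m 4) e2 (fun w hw => delta h.sq.2.1 (h.comm _ (m 3)) (by
    simp only [List.forall_mem_cons, List.not_mem_nil, false_imp_iff, implies_true, and_true]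
    exact ⟨.inl (i h2.t), .inl (i h2.p2), .inl (i (cm h2.c2 h2.p2)), .inl (i h2.p3), .inr e2, .inl (i h2.p1),
      .inl (i (cm h2.c1 h2.p1))⟩) hw) hN g2
  have a3 := fix h.comm (m 5) h.ne.2.2 (m 6) e3 (fun w hw => delta h.sq.2.2 (h.comm _ (m 5)) (by
    simp only [List.forall_mem_cons, List.not_mem_nil, false_imp_iff, implies_true, and_true]
    exact ⟨.inl (i h3.t), .inl (i h3.p1), .inl (i (cm h3.c1 h3.p1)), .inl (i h3.p2), .inl (i (cm h3.c2 h3.p2)),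
      .inl (i h3.p3), .inr e3⟩) hw) hN g3
  refine ⟨commute_clos (by
    simp only [List.forall_mem_cons, List.not_mem_nil, false_imp_iff, implies_true, and_true]
    exact ⟨g0, a1.1, a2.1, a3.1⟩), fun w hw => ?_⟩
  have n : ∀ {d p r : G}, p ≠ 1 → d * r * d⁻¹ = p * r → d * r ≠ r * d := fun a b e => a (mul_eq_right.1 (b.symm.trans (i e)))
  have hw' := mul_mem (hN w hw) (inv_mem hw)
  have le : ∀ l : List G, (∀ x ∈ l, x ∈ [t, p1, c1 * p1 * c1⁻¹, p2, c2 * p2 * c2⁻¹, p3, c3 * p3 * c3⁻¹]) →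
      clos l ≤ FV t c1 c2 c3 p1 p2 p3 := fun l hl => clos_le.2 fun x hx => mem_clos (hl x hx)
  refine strip (r := c1 * p1 * c1⁻¹) (fun x hx => h.comm _ (m 2) x (le _ (by simp) hx)) (h.exp _ (m 2)) ?_
    (n h.ne.1 e1) (strip (r := c2 * p2 * c2⁻¹) (fun x hx => h.comm _ (m 4) x (le _ (by simp) hx)) (h.exp _ (m 4)) ?_
    (n h.ne.2.1 e2) (strip (r := c3 * p3 * c3⁻¹) (fun x hx => h.comm _ (m 6) x (le _ (by simp) hx)) (h.exp _ (m 6)) ?_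
    (n h.ne.2.2 e3) ((clos_le.2 fun x hx => mem_clos (by simp at hx ⊢; tauto) : FV t c1 c2 c3 p1 p2 p3 ≤ _) hw')
    (a3.2 w hw)) (a2.2 w hw)) (a1.2 w hw) <;>
    simp only [List.forall_mem_cons, List.not_mem_nil, false_imp_iff, implies_true, and_true]
  · exact ⟨h1.t, h1.p3, h1.p1, h1.p2⟩
  · exact ⟨cm h2.c2 h2.p2, h2.t, h2.p2, h2.p3, h2.p1⟩
  · exact ⟨cm h3.c2 h3.p2, cm h3.c1 h3.p1, h3.t, h3.p1, h3.p2, h3.p3⟩

/-- The commutator of two elements of `C(t, d₁, d₂, d₃)` centralises `V`. -/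
theorem comm_cen (hN : centralizer {t} ≤ normalizer (FV t c1 c2 c3 p1 p2 p3 : Set G)) {g k : G}
    (g0 : g * t = t * g) (g1 : g * d1 = d1 * g) (g2 : g * d2 = d2 * g) (g3 : g * d3 = d3 * g)
    (k0 : k * t = t * k) (k1 : k * d1 = d1 * k) (k2 : k * d2 = d2 * k) (k3 : k * d3 = d3 * k) :
    (k * g)⁻¹ * (g * k) ∈ centralizer (FV t c1 c2 c3 p1 p2 p3 : Set G) := by
  obtain ⟨a1, a2⟩ := act h h1 h2 h3 (hN (mem_cen.2 g0)) g0 g1 g2 g3
  obtain ⟨b1, b2⟩ := act h h1 h2 h3 (hN (mem_cen.2 k0)) k0 k1 k2 k3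
  intro w hw
  have c1 := a1 _ (b2 w hw)
  have c2 := b1 _ (a2 w hw)
  have c3 := h.comm _ (mul_mem ((mem_normalizer_iff.1 (hN (mem_cen.2 g0)) w).1 hw) (inv_mem hw)) _
    (mul_mem ((mem_normalizer_iff.1 (hN (mem_cen.2 k0)) w).1 hw) (inv_mem hw))
  have e : g * k * w * (g * k)⁻¹ = k * g * w * (k * g)⁻¹ := by
    calc _ = g * (k * w * k⁻¹ * w⁻¹) * w * g⁻¹ := by group
      _ = k * w * k⁻¹ * w⁻¹ * (g * w * g⁻¹ * w⁻¹) * w := by rw [c1]; group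
      _ = k * (g * w * g⁻¹ * w⁻¹) * w * k⁻¹ := by rw [← c3, c2]; group
      _ = _ := by group
  calc _ = (k * g)⁻¹ * (k * g * w * (k * g)⁻¹) * (g * k) := by group
    _ = _ := by rw [← e]; group

end

/-- The third transvection `q` on the line through `d₁` and `d₂`, inside `C(u, a)`. -/
structure Blk (u a c1 c2 c3 d1 d2 d3 t q : G) : Prop where
  q2 : q * q = 1
  k1 : Commute q d1
  k2 : Commute q d2
  k3 : Commute q d3
  kc : Commute q c3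
  ku : Commute q u
  ka : Commute q a
  x1 : (c1 * d1 * q) ^ 3 = 1
  x2 : (q * (c2 * d2)) ^ 3 = 1
  te : q * (c1 * c2 * q * (c1 * c2)⁻¹) * ((c1 * c2)⁻¹ * q * (c1 * c2)) = t
  cent : ∀ z, Commute z u → Commute z a → Commute z c3 → Commute z d3 → Commute z c1 → Commute z d1 → Commute z q →
    z = 1 ∨ z = d2

theorem Blk.map {u a c1 c2 c3 d1 d2 d3 t q u' a' c1' c2' c3' d1' d2' d3' t' q' : G} (h : Blk u a c1 c2 c3 d1 d2 d3 t q)
    (φ : G ≃* G) (e0 : φ u = u') (e1 : φ a = a') (e2 : φ c1 = c1') (e3 : φ c2 = c2') (e4 : φ c3 = c3') (e5 : φ d1 = d1')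
    (e6 : φ d2 = d2') (e7 : φ d3 = d3') (e8 : φ t = t') (e9 : φ q = q') : Blk u' a' c1' c2' c3' d1' d2' d3' t' q' := by
  subst e0 e1 e2 e3 e4 e5 e6 e7 e8 e9
  refine ⟨by rw [← map_mul, h.q2, map_one], h.k1.map φ, h.k2.map φ, h.k3.map φ, h.kc.map φ, h.ku.map φ, h.ka.map φ,
    by simp only [← map_mul, ← map_pow, h.x1, map_one], by simp only [← map_mul, ← map_pow, h.x2, map_one],
    by simp only [← map_mul, ← map_inv, h.te], fun z => ?_⟩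
  obtain ⟨z, rfl⟩ := φ.surjective z
  simp only [commute_map_iff φ.injective, map_eq_one_iff φ φ.injective, φ.injective.eq_iff]
  exact h.cent z

theorem sq4 {a b : G} (ha : a * a = 1) (hb : b * b = 1) (h : Commute a b) : a * (b * (a * b)) = 1 := by
  rw [← mul_assoc b, ← h.eq, mul_assoc, hb, mul_one, ha]

theorem cube {a b : G} (h : (a * b) ^ 3 = 1) : a * (b * (a * (b * (a * b)))) = 1 := by
  rw [← h]; simp only [pow_succ, pow_zero, one_mul, mul_assoc]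

theorem rotN (N : Nw G) : N.v * N.e4 * N.v⁻¹ = N.e4 ∧ N.v * N.b1 * N.v⁻¹ = N.b1 ∧ N.v * N.e1 * N.v⁻¹ = N.e2 ∧
    N.v * N.e2 * N.v⁻¹ = N.e3 ∧ N.v * N.e3 * N.v⁻¹ = N.e1 ∧ N.v * N.d1 * N.v⁻¹ = N.d2 ∧ N.v * N.d2 * N.v⁻¹ = N.d3 ∧
    N.v * N.d3 * N.v⁻¹ = N.d1 := N.hL.decide N.rep (by decide +kernel)

/-- The letters of `Sp₆(2)` in `C(e₄, b₁)`. -/
theorem build (N : Nw G) {x : G} (B3 : Blk N.e4 N.b1 N.e1 N.e2 N.e3 N.d1 N.d2 N.d3 N.a1 x)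
    (hc : ∀ g k : G, Commute g N.e4 → Commute g N.b1 → Commute g N.d1 → Commute g N.d2 → Commute g N.d3 →
      Commute k N.e4 → Commute k N.b1 → Commute k N.d1 → Commute k N.d2 → Commute k N.d3 → Commute g k) :
    (∃ q, ∃ C : Cod B6.A G, C.RepL cK [N.e1, N.e2, N.e3, N.v, N.a1, N.d1, N.d2, N.d3, q, x]) ∧
      ∀ g ∈ clos [N.d2, N.e2 * N.d2, N.v * x * N.v⁻¹, N.e3 * N.d3, N.v * (N.v * x * N.v⁻¹) * N.v⁻¹, N.e1 * N.d1, N.d3],
        N.e4 * g = g * N.e4 ∧ N.b1 * g = g * N.b1 := by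
  obtain ⟨v1, v2, v3, v4, v5, v6, v7, v8⟩ := rotN N
  have B1 := B3.map (MulAut.conj N.v) v1 v2 v3 v4 v5 v6 v7 v8 rfl rfl
  have B2 := B1.map (MulAut.conj N.v) v1 v2 v4 v5 v3 v7 v8 v6 rfl rfl
  simp only [MulAut.conj_apply] at B1 B2
  have hx : N.v * (N.v * (N.v * x * N.v⁻¹) * N.v⁻¹) * N.v⁻¹ = x := by
    calc _ = N.v * N.v * N.v * x * (N.v * N.v * N.v)⁻¹ := by group
      _ = x := by rw [(N.hL.decide N.rep (by decide +kernel) : N.v * N.v * N.v = 1)]; group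
  generalize N.v * x * N.v⁻¹ = q1 at B1 B2 hx ⊢
  generalize N.v * q1 * N.v⁻¹ = q2 at B2 hx ⊢
  have k : N.e1 * N.d1 * N.d1 = N.e1 ∧ N.e2 * N.d2 * N.d2 = N.e2 ∧ N.e3 * N.d3 * N.d3 = N.e3 ∧ N.d2 ≠ 1 ∧
      N.d1 * (N.e1 * N.d1) ≠ N.e1 * N.d1 * N.d1 ∧
      N.v * N.a1 * N.v⁻¹ * (N.v * (N.v * N.a1 * N.v⁻¹) * N.v⁻¹) = N.v ∧
      N.v * N.a1 * N.v⁻¹ * (N.v * (N.v * N.a1 * N.v⁻¹) * N.v⁻¹) * (N.v * N.a1 * N.v⁻¹) = N.a1 ∧
      N.d2 * N.d2 = 1 ∧ N.d3 * N.d3 = 1 ∧ N.e1 * N.d1 * (N.e1 * N.d1) = 1 ∧ N.e2 * N.d2 * (N.e2 * N.d2) = 1 :=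
    N.hL.decide N.rep (by decide +kernel)
  obtain ⟨k1, k2, k3, k4, k5, k6, k7, k8, k9, k10, k11⟩ := k
  have hK : ∀ g ∈ clos [N.d2, N.e2 * N.d2, q1, N.e3 * N.d3, q2, N.e1 * N.d1, N.d3],
      N.e4 * g = g * N.e4 ∧ N.b1 * g = g * N.b1 := fun g hg => by
    refine ⟨commute_clos ?_ g hg, commute_clos ?_ g hg⟩ <;>
      simp only [List.forall_mem_cons, List.not_mem_nil, false_imp_iff, implies_true, and_true]
    · refine ⟨?_, ?_, B1.ku.symm, ?_, B2.ku.symm, ?_, ?_⟩ <;> exact N.hL.decide N.rep (by decide +kernel)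
    · refine ⟨?_, ?_, B1.ka.symm, ?_, B2.ka.symm, ?_, ?_⟩ <;> exact N.hL.decide N.rep (by decide +kernel)
  refine ⟨?_, hK⟩
  have hs : Sat Sp6.rel7 [N.d2, N.e2 * N.d2, q1, N.e3 * N.d3, q2, N.e1 * N.d1, N.d3] := by
    simp only [Sp6.rel7, sat_cons, sat_nil, evalW_cons, evalW_nil, nth_zero, nth_succ, mul_one, and_true]
    refine ⟨?_, ?_, B1.q2, ?_, B2.q2, ?_, ?_, ?_, sq4 k8 B1.q2 B1.k1.symm, ?_, sq4 k8 B2.q2 B2.k3.symm, ?_, ?_, cube B1.x1,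
      ?_, sq4 k11 B2.q2 (B2.kc.mul_right B2.k3).symm, ?_, ?_, cube B1.x2,
      sq4 B1.q2 B2.q2 (hc _ _ B1.ku B1.ka B1.k3 B1.k1 B1.k2 B2.ku B2.ka B2.k2 B2.k3 B2.k1),
      sq4 B1.q2 k10 (B1.kc.mul_right B1.k3), sq4 B1.q2 k9 B1.k2, cube B2.x1, ?_, ?_, cube B2.x2, sq4 B2.q2 k9 B2.k1, ?_⟩
    all_goals exact N.hL.decide N.rep (by decide +kernel)
  obtain ⟨C, hC⟩ := Sp6.exists_cod rfl hs (fun z hz' hz => by
    simp only [List.forall_mem_cons, List.not_mem_nil, false_imp_iff, implies_true, and_true] at hz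
    obtain ⟨z1, z2, -, z4, z5, z6, z7⟩ := hz
    refine (B2.cent z (hK z hz').1.symm (hK z hz').2.symm ?_ z1 ?_ z7 z5).resolve_right fun e => k5 (e ▸ z6)
    · exact k2 ▸ Commute.mul_right z2 z1
    · exact k3 ▸ Commute.mul_right z4 z7) k4
  let r : Sp6.St G := ⟨_, _, _, _, _, _, _, C, hC⟩
  have e1 : r.d1 = N.d1 := by
    obtain ⟨z1, z2, z3, z4, z5, z6⟩ := r.d1_comm
    exact (B2.cent _ (hK _ r.d1M).1.symm (hK _ r.d1M).2.symm (show r.d1 * N.e2 = N.e2 * r.d1 from k2 ▸ z2) z1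
      (show r.d1 * N.e3 = N.e3 * r.d1 from k3 ▸ z3) z4 z5).resolve_left z6
  have r1 : C.Rep (nat_lit 0x810204089) N.d1 := e1 ▸ r.rep.nth 7
  have a1 : C.Rep (nat_lit 0x810044089) N.e1 := k1 ▸ (r1.cons hC).term (N.e1 * N.d1 * N.d1) (by decide +kernel)
  have a2 : C.Rep (nat_lit 0x802204481) N.e2 := k2 ▸ hC.term (N.e2 * N.d2 * N.d2) (by decide +kernel)
  have a3 : C.Rep (nat_lit 0x110224081) N.e3 := k3 ▸ hC.term (N.e3 * N.d3 * N.d3) (by decide +kernel)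
  have h1 := a1.cons (a2.cons (a3.cons (r1.cons (hC.pick [0, 6, 2, 4]))))
  change C.RepL _ [N.e1, N.e2, N.e3, N.d1, N.d2, N.d3, q1, q2] at h1
  have b1 : C.Rep (nat_lit 0x420202101) (N.v * N.a1 * N.v⁻¹) := B1.te ▸ h1.term _ (by decide +kernel)
  have b2 : C.Rep (nat_lit 0x210801084) (N.v * (N.v * N.a1 * N.v⁻¹) * N.v⁻¹) := B2.te ▸ h1.term _ (by decide +kernel)
  generalize N.v * N.a1 * N.v⁻¹ = t1 at b1 b2 k6 k7
  generalize N.v * t1 * N.v⁻¹ = t2 at b2 k6 k7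
  have b3 : C.Rep (nat_lit 0x408802044) N.v := k6 ▸ (b1.cons (b2.cons Cod.repL_nil)).term _ (by decide +kernel)
  have b4 : C.Rep (nat_lit 0x808404042) N.a1 := k7 ▸ (b1.cons (b2.cons Cod.repL_nil)).term _ (by decide +kernel)
  have b5 : C.Rep (nat_lit 0x810204699) x := hx ▸ (b3.cons h1).term _ (by decide +kernel)
  obtain ⟨y, hy⟩ : ∃ y, C.Rep (nat_lit 0xe33ac775e) y := ⟨_, (hC.words wK wK_ok).nth 8⟩
  exact ⟨y, C, a1.cons <| a2.cons <| a3.cons <| b3.cons <| b4.cons <| r1.cons <| (h1.nth 4).cons <| (h1.nth 5).cons <|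
    hy.cons <| b5.cons Cod.repL_nil⟩

theorem memY {s : Bs G} {m t g : G} (hY : s.Y = ⊥) (h : s.Mt m t) (h1 : g * s.b = s.b * g) (h2 : g * s.e3 = s.e3 * g)
    (h3 : g * (s.d3 * t) = s.d3 * t * g) : g ∈ s.Y6 := by
  have hL : g ∈ s.L := by
    obtain ⟨y, hy, c, hc, l, hl, rfl⟩ := s.cen g h1
    obtain ⟨i, hi⟩ := mem_zpowers_iff.1 hc
    obtain rfl : y = 1 := mem_bot.1 (hY ▸ hy)
    have e1 : t * c * t⁻¹ = c⁻¹ := by rw [← hi, ← conj_zpow, h.tb, inv_zpow]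
    have e2 : c ^ 3 = 1 := by rw [← hi, ← zpow_natCast, zpow_comm, zpow_natCast, s.b_pow, one_zpow]
    have e3 : ∀ k ∈ s.L, k * c = c * k := fun k hk => hi ▸ (show Commute k s.b from s.bc k hk).zpow_right i
    have e4 : c = l * s.d3 * l⁻¹ * s.d3⁻¹ := by
      have e5 : c * (l * s.d3 * l⁻¹) = s.d3 * c⁻¹ := by
        calc _ = 1 * c * l * (s.d3 * t) * t⁻¹ * l⁻¹ := by group
          _ = s.d3 * (t * c * t⁻¹) * (t * l) * t⁻¹ * l⁻¹ := by rw [h3]; group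
          _ = _ := by rw [e1, h.tL l hl]; group
      have e6 : c * (l * s.d3 * l⁻¹ * s.d3⁻¹) = c⁻¹ := by
        calc _ = s.d3 * c⁻¹ * s.d3⁻¹ := by rw [← e5]; group
          _ = (s.d3 * c * s.d3⁻¹)⁻¹ := by group
          _ = _ := by rw [e3 _ s.d3L]; group
      calc c = c ^ 3 * c⁻¹ * c⁻¹ := by group
        _ = c⁻¹ * (c * (l * s.d3 * l⁻¹ * s.d3⁻¹)) := by rw [e2, e6, one_mul]
        _ = _ := by group
    exact mul_mem (mul_mem (one_mem _) (mem_eq e4 (mul_mem (mul_mem (mul_mem hl s.d3L) (inv_mem hl)) (inv_mem s.d3L)))) hl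
  refine s.cen_e3_d3 hL h2 ?_
  have := (show Commute g (s.d3 * t) from h3).mul_right (show Commute g t from (h.tL g hL).symm).inv_right
  rwa [mul_inv_cancel_right] at this

variable {s : Bs G} {n : Nw G}

theorem swapd (n : Nw G) : n.swap.d1 = n.m * n.d3 * n.b1 ∧ n.swap.d2 = n.m :=
  (n.hL.decide n.rep (by decide +kernel) :
    n.b1 * (n.b1 * n.b2 * n.b1) * (n.d2 * n.a1 * n.d2) * (n.b1 * (n.b1 * n.b2 * n.b1))⁻¹ = n.m * n.d3 * n.b1 ∧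
    n.b1 * (n.b1 * n.b2 * n.b1) * (n.b1 * (n.b1 * n.b2 * n.b1) * (n.d2 * n.a1 * n.d2) * (n.b1 * (n.b1 * n.b2 * n.b1))⁻¹) *
      (n.b1 * (n.b1 * n.b2 * n.b1))⁻¹ = n.m)

theorem blk0 (h : s.F4 n) : Blk (s.e3 * s.b⁻¹) n.m (s.e1 * s.e2)⁻¹ (s.e1⁻¹ * s.e2) (s.e3 * s.b) (s.a * s.d1 * s.d2) s.a
    (n.b1 * n.m * n.b1) s.d2 (s.x * s.a⁻¹ * (s.a * s.d1 * s.d2)⁻¹) := by
  have hq : s.x * s.a⁻¹ * (s.a * s.d1 * s.d2)⁻¹ ∈ s.L :=
    mul_mem (mul_mem s.xL (inv_mem s.aL)) (inv_mem (mul_mem (mul_mem s.aL s.d1L) s.d2L))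
  have c1 : Commute (s.x * s.a⁻¹ * (s.a * s.d1 * s.d2)⁻¹) s.b := s.bc _ hq
  have c2 : Commute (s.x * s.a⁻¹ * (s.a * s.d1 * s.d2)⁻¹) n.b1 := (h.mt.tL _ hq).symm
  have ma : Commute n.m s.a := h.mt.ma
  have c3 : Commute (s.x * s.a⁻¹ * (s.a * s.d1 * s.d2)⁻¹) n.m :=
    (((show Commute n.m s.x from h.mt.mx).mul_right ma.inv_right).mul_right
      ((ma.mul_right h.mt.md1).mul_right h.mt.md2).inv_right).symm
  have c4 : Commute (s.x * s.a⁻¹ * (s.a * s.d1 * s.d2)⁻¹) s.e3 := s.hL.decide s.rep (by decide +kernel)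
  have k : (n.e3 * n.e4⁻¹ * (n.e3 * n.e4))⁻¹ = n.e3 ∧ ((n.e3 * n.e4⁻¹)⁻¹ * (n.e3 * n.e4))⁻¹ = n.e4 ∧
      n.m * (n.b1 * n.m * n.b1) = n.d3 * n.b1 := n.hL.decide n.rep (by decide +kernel)
  rw [h.e3, h.e4, h.d3] at k
  refine ⟨?_, ?_, ?_, (c2.mul_right c3).mul_right c2, c4.mul_right c1, c4.mul_right c1.inv_right, c3, ?_, ?_, ?_,
    fun z z1 z2 z3 z4 => ?_⟩
  iterate 6 exact s.hL.decide s.rep (by decide +kernel)
  exact (s.hL.decide s.rep (by decide +kernel) : ∀ z ∈ s.Y6, Commute z (s.e1 * s.e2)⁻¹ → Commute z (s.a * s.d1 * s.d2) →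
    Commute z (s.x * s.a⁻¹ * (s.a * s.d1 * s.d2)⁻¹) → z = 1 ∨ z = s.a) z
    (memY h.Y h.mt (show Commute z s.b from k.2.1 ▸ (z1.inv_right.mul_right z3).inv_right)
      (show Commute z s.e3 from k.1 ▸ (z1.mul_right z3).inv_right)
      (show Commute z (s.d3 * n.b1) from k.2.2 ▸ z2.mul_right z4))

theorem blk3 (h : s.F4 n) : Blk n.swap.e4 n.swap.b1 n.swap.e1 n.swap.e2 n.swap.e3 n.swap.d1 n.swap.d2 n.swap.d3 n.swap.a1
    (s.q4 n.m * n.swap.d2⁻¹ * n.swap.d1⁻¹) := by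
  have f1 : MulAut.conj (s.om n.m) s.e1 = n.e3 := h.mt.om_e.1.trans h.e3.symm
  have f2 : MulAut.conj (s.om n.m) s.e2 = n.e4 := h.mt.om_e.2.1.trans h.e4.symm
  have f3 : MulAut.conj (s.om n.m) s.e3 = n.e1 := h.mt.om_e.2.2.1.trans h.e1.symm
  have f4 : MulAut.conj (s.om n.m) s.b = n.e2 := h.mt.om_e.2.2.2.trans h.e2.symm
  have g1 : MulAut.conj (s.om n.m) s.d1 = n.d3 := h.mt.om_d.1.trans h.d3.symm
  have g2 : MulAut.conj (s.om n.m) s.d2 = n.b1 := h.mt.om_d.2.1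
  have g4 : MulAut.conj (s.om n.m) n.b1 = n.d2 := h.mt.om_d.2.2.2.trans h.d2.symm
  have a1 : MulAut.conj (s.om n.m) s.a = n.m := h.mt.om_a.1
  have a2 : MulAut.conj (s.om n.m) n.m = n.a1 := h.mt.om_a.2.1.trans h.a1.symm
  have x1 : MulAut.conj (s.om n.m) s.x = s.q4 n.m := rfl
  generalize MulAut.conj (s.om n.m) = φ at f1 f2 f3 f4 g1 g2 g4 a1 a2 x1
  refine (blk0 h).map φ ?_ a2 ?_ ?_ ?_ ?_ (a1.trans (swapd n).2.symm) ?_ g2 ?_ <;>
    simp only [map_mul, map_inv, f1, f2, f3, f4, g1, g2, g4, a1, a2, x1, (swapd n).1, (swapd n).2]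
  all_goals rfl

theorem comm_K (h : s.FQ n) (gl : Gl G) (g k : G) (g0 : Commute g n.swap.e4) (g1 : Commute g n.swap.b1)
    (g2 : Commute g n.swap.d1) (g3 : Commute g n.swap.d2) (g4 : Commute g n.swap.d3) (k0 : Commute k n.swap.e4)
    (k1 : Commute k n.swap.b1) (k2 : Commute k n.swap.d1) (k3 : Commute k n.swap.d2) (k4 : Commute k n.swap.d3) :
    Commute g k := by
  have ea : n.swap.b1 = s.a := h.a1
  have pm : Commute s.p n.m := ((show Commute n.m s.a from h.mt.ma).mul_right h.mt.mx).symm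
  have P3 : Commute s.p n.swap.d1 ∧ Commute s.p n.swap.d2 ∧ Commute s.p n.swap.d3 := by
    rw [(swapd n).1, (swapd n).2, show n.swap.d3 = n.d2 * n.a1 * n.d2 from rfl, h.d3, h.d2, h.a1]
    exact ⟨(pm.mul_right (s.hL.decide s.rep (by decide +kernel) : Commute (s.a * s.x) s.d3)).mul_right
      (h.mt.tL _ (mul_mem s.aL s.xL)).symm, pm,
      (s.hL.decide s.rep (by decide +kernel) : Commute (s.a * s.x) (s.d2 * s.a * s.d2))⟩
  have R : ∀ {y : G}, Commute y n.swap.d1 ∧ Commute y n.swap.d2 ∧ Commute y n.swap.d3 →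
      Commute (n.v2 * y * n.v2⁻¹) n.swap.d1 ∧ Commute (n.v2 * y * n.v2⁻¹) n.swap.d2 ∧
        Commute (n.v2 * y * n.v2⁻¹) n.swap.d3 := fun {y} c => by
    obtain ⟨-, -, -, -, -, v6, v7, v8⟩ := rotN n.swap
    rw [← n.swap_v]
    exact ⟨v8 ▸ c.2.2.map (MulAut.conj n.swap.v), v6 ▸ c.1.map (MulAut.conj n.swap.v),
      v7 ▸ c.2.1.map (MulAut.conj n.swap.v)⟩
  have P1 := R P3
  have P2 := R P1
  have D : (n.swap.d1 * n.swap.b1 = n.swap.b1 * n.swap.d1 ∧ n.swap.d1 * n.swap.e2 = n.swap.e2 * n.swap.d1 ∧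
      n.swap.d1 * n.swap.e3 = n.swap.e3 * n.swap.d1 ∧ n.swap.d1 * n.swap.e1 * n.swap.d1⁻¹ = n.swap.e1⁻¹) ∧
      (n.swap.d2 * n.swap.b1 = n.swap.b1 * n.swap.d2 ∧ n.swap.d2 * n.swap.e3 = n.swap.e3 * n.swap.d2 ∧
      n.swap.d2 * n.swap.e1 = n.swap.e1 * n.swap.d2 ∧ n.swap.d2 * n.swap.e2 * n.swap.d2⁻¹ = n.swap.e2⁻¹) ∧
      n.swap.d3 * n.swap.b1 = n.swap.b1 * n.swap.d3 ∧ n.swap.d3 * n.swap.e1 = n.swap.e1 * n.swap.d3 ∧
      n.swap.d3 * n.swap.e2 = n.swap.e2 * n.swap.d3 ∧ n.swap.d3 * n.swap.e3 * n.swap.d3⁻¹ = n.swap.e3⁻¹ := by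
    generalize n.swap = N
    exact N.hL.decide N.rep (by decide +kernel)
  rw [ea] at D g1 k1
  have hc : (k * g)⁻¹ * (g * k) ∈ centralizer (s.Va n : Set G) :=
    comm_cen h.fl ⟨D.1.1, P2.1.symm, P3.1.symm, P1.1.symm, D.1.2.1, D.1.2.2.1, D.1.2.2.2⟩
      ⟨D.2.1.1, P3.2.1.symm, P1.2.1.symm, P2.2.1.symm, D.2.1.2.1, D.2.1.2.2.1, D.2.1.2.2.2⟩
      ⟨D.2.2.1, P1.2.2.symm, P2.2.2.symm, P3.2.2.symm, D.2.2.2.1, D.2.2.2.2.1, D.2.2.2.2.2⟩ h.nm g1 g2 g3 g4 k1 k2 k3 k4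
  have hJ : s.J = n.swap.J := by rw [n.swap_J, Bs.J, Nw.J, h.e1, h.e2, h.e3, h.e4]
  have hb : centralizer {n.swap.e4} ⊓ centralizer (s.Va n : Set G) = ⊥ := by
    refine s.J_two gl (h.two.to_inf_right) (hJ.le.trans (clos_le.2 fun j hj => ?_))
    have c : ∀ j ∈ clos [n.swap.e1, n.swap.e2, n.swap.e3], j ∈ n.swap.J → j ∈ normalizer
        ((centralizer {n.swap.e4} ⊓ centralizer (s.Va n : Set G) : Subgroup G) : Set G) := fun j h1 h2 =>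
      inf_normalizer_le_normalizer_inf ⟨le_normalizer (mem_cen.2 (n.swap.pre.comm _ h2 _ (mem_clos (by simp)))),
        normalizer_le_normalizer_centralizer _ (h.fl.norm h1)⟩
    simp only [List.mem_cons, List.not_mem_nil, or_false] at hj
    rcases hj with rfl | rfl | rfl | rfl
    iterate 3 exact c _ (mem_clos (by simp)) (mem_clos (by simp))
    exact centralizer_le_normalizer _ fun y hy => mem_cen.1 hy.1
  exact (inv_mul_eq_one.1 (mem_bot.1 (hb.le ⟨mem_cen.2 ((k0.mul_left g0).inv_left.mul_left (g0.mul_left k0)), hc⟩))).symm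

end FKx

theorem Bs.FQ.fk {s : Bs G} {n : Nw G} (h : s.FQ n) (gl : Gl G) : ∃ r, s.FK n r := by
  obtain ⟨⟨q, C, hC⟩, hK⟩ := FKx.build n.swap (FKx.blk3 h.toF4) (FKx.comm_K h gl)
  let r : Lt G := ⟨_, _, _, _, _, _, _, _, _, _, C, hC⟩
  have eu : n.swap.e4 = s.u := by rw [Lt.u, ← h.e1, ← h.e2]; rfl
  have ea : n.swap.b1 = s.a := h.a1
  refine ⟨r, h, rfl, rfl, rfl, rfl, rfl, rfl, rfl, rfl, ?_, fun g hg => ?_, fun g hg => ?_⟩
  · show _ = s.q4 n.m * n.swap.d2⁻¹ * n.swap.d1⁻¹ * n.swap.d1 * n.swap.d2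
    rw [inv_mul_cancel_right, inv_mul_cancel_right]
  · exact eu ▸ (hK g (r.st_M.ge hg)).1.symm
  · exact ea ▸ (hK g (r.st_M.ge hg)).2.symm

end Cfsg.Agent.S8
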