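import Mathlib
import Cfsg.Agent.S8.Loc
import Cfsg.Agent.GT.CoprimeActThms

/-! The case of an orthogonal group of minus type does not occur. -/

set_option autoImplicit false
set_option linter.unusedSectionVars false
set_option synthInstance.maxSize 100000
set_option synthInstance.maxHeartbeats 1000000
set_option maxRecDepth 100000

namespace Cfsg.Agent.S8

open Cfsg.Agent.Spor Cfsg.Agent.Rec Cfsg.Agent.Inv.Fz Cfsg.Agent.T16 Cfsg.Agent.F4L Subgroup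

universe u

variable {G : Type u} [Group G] [Finite G]

namespace O4x

theorem pow_val {R : Type*} [Monoid R] {g : R} (h : g ^ 3 = 1) (a b : ZMod 3) :
    g ^ (a + b).val = g ^ a.val * g ^ b.val := by
  rw [ZMod.val_add, ← pow_eq_pow_mod _ h, pow_add]

/-- Generation by centralisers for two elements of order three that commute as operators. -/
theorem gen9 {T M : Subgroup G} {u v : G} (hu : u ∈ normalizer (T : Set G))
    (hv : v ∈ normalizer (T : Set G)) (u3 : u ^ 3 = 1) (v3 : v ^ 3 = 1)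
    (hc : ∀ k ∈ T, u * v * k * (u * v)⁻¹ = v * u * k * (v * u)⁻¹) (hT : (Nat.card T).Coprime 3)
    (h : ∀ i < 3, ∀ j < 3, (i ≠ 0 ∨ j ≠ 0) → ∀ k ∈ T, k * (u ^ i * v ^ j) = u ^ i * v ^ j * k → k ∈ M) :
    T ≤ M := by
  let α := T.normalizerMonoidHom ⟨u, hu⟩
  let β := T.normalizerMonoidHom ⟨v, hv⟩
  have hα : α ^ 3 = 1 := by rw [← map_pow, show (⟨u, hu⟩ : normalizer (T : Set G)) ^ 3 = 1 from
    Subtype.ext u3, map_one]
  have hβ : β ^ 3 = 1 := by rw [← map_pow, show (⟨v, hv⟩ : normalizer (T : Set G)) ^ 3 = 1 from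
    Subtype.ext v3, map_one]
  have hαβ : Commute α β := by
    change _ * _ = _ * _
    rw [← map_mul, ← map_mul]
    exact MulEquiv.ext fun k => Subtype.ext (hc k k.2)
  let φ : Multiplicative (ZMod 3 × ZMod 3) →* MulAut T := MonoidHom.mk'
    (fun x => α ^ x.toAdd.1.val * β ^ x.toAdd.2.val) fun x y => by
      simp only [toAdd_mul, Prod.fst_add, Prod.snd_add, pow_val hα, pow_val hβ]
      exact (hαβ.pow_pow _ _).mul_mul_mul_comm _ _
  have hn : ¬ IsCyclic (Multiplicative (ZMod 3 × ZMod 3)) := fun hc => by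
    obtain ⟨g, hg⟩ := hc.exists_ofOrder_eq_natCard
    have h3 : ∀ x : Multiplicative (ZMod 3 × ZMod 3), x ^ 3 = 1 := by decide
    have := orderOf_dvd_of_pow_eq_one (h3 g)
    rw [hg] at this
    simp at this
  have key := GT.CopAct.act_le_of_fixed_elt (φ := φ) inferInstance hn (U := ⊤)
    (H := M.subgroupOf T) (GT.CopAct.actInv_top φ) (by
      rw [card_top]
      exact (show Nat.card (Multiplicative (ZMod 3 × ZMod 3)) = 3 ^ 2 by simp) ▸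
        hT.symm.pow_left 2) fun x hx k _ hk => by
      refine h _ (ZMod.val_lt x.toAdd.1) _ (ZMod.val_lt x.toAdd.2) ?_ k k.2 ?_
      · clear hk
        revert x
        decide
      · have h1 : φ x = T.normalizerMonoidHom (⟨u, hu⟩ ^ x.toAdd.1.val * ⟨v, hv⟩ ^ x.toAdd.2.val) := by
          rw [map_mul, map_pow, map_pow]; rfl
        rw [h1] at hk
        exact (mul_inv_eq_iff_eq_mul.1 (congrArg Subtype.val hk)).symm
  exact fun k hk => key (mem_top (⟨k, hk⟩ : T))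

theorem cm_conj {g k x y : G} (h : k * x = x * k) (e : g * x * g⁻¹ = y) :
    g * k * g⁻¹ * y = y * (g * k * g⁻¹) := by rw [← e, conj_mul, conj_mul, h]

theorem cm_of_conj {g k x : G} (h : g * k * g⁻¹ * (g * x * g⁻¹) = g * x * g⁻¹ * (g * k * g⁻¹)) :
    k * x = x * k := by
  rwa [conj_mul, conj_mul, mul_left_inj, mul_right_inj] at h

section L

variable (s : Lt G)

theorem fa : s.a * s.a = 1 ∧ s.a ≠ 1 ∧ s.a * s.u * s.a⁻¹ = s.u⁻¹ ∧ s.a * s.f = s.f * s.a ∧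
    s.a * s.e3 = s.e3 * s.a ∧ s.a * s.z * s.a⁻¹ = s.z ∧ s.a * s.v * s.a⁻¹ = s.v⁻¹ ∧
    s.d3 * s.a = s.a * s.d3 := s.hL.decide s.rep (by decide +kernel)

theorem fe : s.e1 = (s.f * s.u)⁻¹ ∧ s.e2 = (s.f * s.u⁻¹)⁻¹ ∧ s.f * s.f * s.f = 1 ∧
    s.e3 * s.f = s.f * s.e3 ∧ s.e3 * s.z = s.z * s.e3 ∧ s.u ^ 3 = 1 ∧ s.v ^ 3 = 1 ∧
    s.v * (s.u * s.z) * s.v⁻¹ = s.u ∧ s.v * s.z * s.v⁻¹ = s.z ∧ s.u * s.z * s.u⁻¹ = s.z ∧
    s.u * s.v = s.v * s.u * s.z := s.hL.decide s.rep (by decide +kernel)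

theorem fd : s.d1 * s.d2 * s.e1 * (s.d1 * s.d2)⁻¹ = s.e1⁻¹ ∧
    s.d1 * s.d2 * s.e2 * (s.d1 * s.d2)⁻¹ = s.e2⁻¹ ∧ s.d1 * s.d2 * s.e3 * (s.d1 * s.d2)⁻¹ = s.e3 ∧
    s.d2 * s.u * s.d2⁻¹ = s.f ∧ s.d2 * s.f * s.d2⁻¹ = s.u ∧ s.d2 * s.e3 * s.d2⁻¹ = s.e3 ∧
    s.d3 * (s.f * s.e3⁻¹) * s.d3⁻¹ = s.z ∧ s.d2 * (s.u * s.e3) * s.d2⁻¹ = s.z ∧
    s.d2 * s.d3 * (s.u * s.e3⁻¹) * (s.d2 * s.d3)⁻¹ = s.z ∧
    s.d2 * s.d3 * s.e3⁻¹ * (s.d2 * s.d3)⁻¹ = s.e3 := s.hL.decide s.rep (by decide +kernel)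

theorem fp : s.p * s.p = 1 ∧ s.p * s.a = s.a * s.p ∧ s.p * s.e3 = s.e3 * s.p ∧
    s.p * s.f ≠ s.f * s.p ∧ s.d3 * s.p * s.d3⁻¹ = s.p ∧ ∀ y ∈ s.Q1, y * s.p = s.p * y :=
  s.hL.decide s.rep (by decide +kernel)

theorem fq : s.q ∈ s.Q1 ∧ s.q * s.q = s.a ∧
    s.q * (s.e3 * s.q * s.e3⁻¹) * (s.e3⁻¹ * s.q * s.e3) = s.a ∧
    s.e3 * s.q * s.e3⁻¹ ≠ s.e3⁻¹ * s.q * s.e3 ∧ s.e3 * (s.e3 * s.q * s.e3⁻¹) * s.e3⁻¹ ≠ s.q ∧
    s.e3⁻¹ * (s.e3⁻¹ * s.q * s.e3) * s.e3 ≠ s.q ∧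
    ∀ y ∈ s.Q1, y * y = s.a → y * (s.e3 * y * s.e3⁻¹) * (s.e3⁻¹ * y * s.e3) = s.a →
      y = s.q ∨ y = s.e3 * s.q * s.e3⁻¹ ∨ y = s.e3⁻¹ * s.q * s.e3 :=
  s.hL.decide s.rep (by decide +kernel)

theorem fr : ∀ i < 3, ∀ j < 3, (i ≠ 0 ∨ j ≠ 0) → ∃ c ∈ s.CC, c * (s.u ^ i * s.v ^ j) * c⁻¹ = s.u ∧
    c * s.z * c⁻¹ = s.z ∧ c * s.u * c⁻¹ ∈ s.R1 := by
  intro i hi j hj h
  interval_cases i <;> interval_cases j <;>
    first | exact absurd h (by decide) | exact s.hL.decide s.rep (by decide +kernel)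

/-- The type of a plane. -/
abbrev AB (x y : G) : Prop := ∃ c ∈ s.W3, (c * x * c⁻¹ = s.e1 ∧ c * y * c⁻¹ = s.e2) ∨
  (c * x * c⁻¹ = s.u ∧ c * y * c⁻¹ = s.e3)

theorem fw : AB s s.e2 s.e3 ∧ AB s s.e1 s.e3 ∧ AB s s.e1 s.e2 ∧ AB s (s.e1 * s.e2⁻¹) s.e3 ∧
    AB s (s.e1 * s.e2) s.e3 ∧ AB s (s.e1 * s.e3⁻¹) s.e2 ∧ AB s (s.e1 * s.e3) s.e2 ∧
    AB s (s.e2 * s.e3⁻¹) s.e1 ∧ AB s (s.e2 * s.e3) s.e1 := s.hL.decide s.rep (by decide +kernel)

theorem fc : s.z = s.e1 * s.e2⁻¹ * (s.e2 * s.e3⁻¹)⁻¹ ∧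
    s.f * s.e3⁻¹ = s.e1 * s.e2⁻¹ * (s.e2 * s.e3)⁻¹ ∧ s.u * s.e3 = s.e1 * s.e2 * (s.e2 * s.e3) ∧
    s.u * s.e3⁻¹ = s.e1 * s.e2 * (s.e2 * s.e3⁻¹) := s.hL.decide s.rep (by decide +kernel)

/-- An involution that normalises the quaternion group and commutes with `e₃` centralises it. -/
theorem cent_Q1 {h : G} (h2 : h * h = 1) (ha : h * s.a = s.a * h) (he : h * s.e3 = s.e3 * h)
    (hq : h * s.q * h⁻¹ ∈ s.Q1) : s.Q1 ≤ centralizer {h} := by
  obtain ⟨-, q2, q3, -, n1, n2, key⟩ := fq s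
  have e1 : ∀ x, h * (s.e3 * x * s.e3⁻¹) * h⁻¹ = s.e3 * (h * x * h⁻¹) * s.e3⁻¹ := fun x => by
    calc _ = h * s.e3 * x * (h * s.e3)⁻¹ := by group
      _ = _ := by rw [he]; group
  have e2 : ∀ x, h * (s.e3⁻¹ * x * s.e3) * h⁻¹ = s.e3⁻¹ * (h * x * h⁻¹) * s.e3 := fun x => by
    calc _ = s.e3⁻¹ * (s.e3 * h) * s.e3⁻¹ * x * s.e3 * (s.e3 * h)⁻¹ * s.e3 := by group
      _ = _ := by rw [← he]; group
  have e3 : h * s.a * h⁻¹ = s.a := by rw [ha, mul_inv_cancel_right]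
  have e4 : h * (h * s.q * h⁻¹) * h⁻¹ = s.q := by
    calc _ = h * h * s.q * (h * h)⁻¹ := by group
      _ = _ := by rw [h2, one_mul, inv_one, mul_one]
  have e5 : h * s.q * h⁻¹ = s.q := by
    rcases key _ hq (by rw [conj_mul, q2, e3]) (by rw [← e1, ← e2, conj_mul, conj_mul, q3, e3]) with
      e | e | e
    · exact e
    · exact absurd (by rw [← e, ← e1, ← e, e4]) n1
    · exact absurd (by rw [← e, ← e2, ← e, e4]) n2
  refine clos_le.2 ?_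
  simp only [List.forall_mem_cons, List.not_mem_nil, false_imp_iff, implies_true, and_true,
    mem_centralizer_singleton_iff]
  exact ⟨(mul_inv_eq_iff_eq_mul.1 e5).symm, (mul_inv_eq_iff_eq_mul.1 (by rw [e1, e5])).symm⟩

end L

/-- Two configurations. -/
structure Tw (s r : Bs G) (Q : Subgroup G) : Prop where
  hf : r.f = s.f
  hu : r.u = s.b
  h3 : r.e3 = s.e3
  hb : r.b = s.u
  qq : QQ s.a Q

namespace Tw

variable {s r : Bs G} {Q : Subgroup G} (h : Tw s r Q)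
include h

theorem hz : r.z = s.z := by
  change r.f * r.e3 = s.f * s.e3
  rw [h.hf, h.h3]

theorem aL : ∀ l ∈ r.L, s.a * l = l * s.a := by
  obtain ⟨a2, -, au, af, ae, -⟩ := fa s.toLt
  obtain ⟨e1, e2, -⟩ := fe r.toLt
  refine r.inv_cen a2 (Or.inr (by rw [h.hb, au])) fun j hj => ?_
  have h1 : Commute s.a s.b := s.bc _ s.aL
  have h2 : r.B0 ≤ centralizer {s.a} := by
    refine clos_le.2 ?_
    simp only [List.forall_mem_cons, List.not_mem_nil, false_imp_iff, implies_true, and_true,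
      mem_centralizer_singleton_iff]
    refine ⟨?_, ?_, by rw [h.h3, ae]⟩
    · rw [e1, h.hf, h.hu]
      exact ((Commute.mul_right af h1).inv_right).symm
    · rw [e2, h.hf, h.hu]
      exact ((Commute.mul_right af h1.inv_right).inv_right).symm
  exact (mem_centralizer_singleton_iff.1 (h2 hj)).symm

theorem nQ {g k : G} (hg : g * s.a = s.a * g) (hk : k ∈ Q) : g * k * g⁻¹ ∈ Q :=
  (mem_normalizer_iff.1 (h.qq.nm (mem_centralizer_singleton_iff.2 hg)) k).1 hk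

theorem nQ' {g k : G} (hg : g ∈ r.L) (hk : k ∈ Q) : g * k * g⁻¹ ∈ Q := h.nQ (h.aL g hg).symm hk

theorem cop {X : Subgroup G} (hX : X ≤ Q) : (Nat.card X).Coprime 3 := by
  obtain ⟨n, hn⟩ := IsPGroup.iff_card.1 (h.qq.two.to_le hX)
  rw [hn]
  exact Nat.Coprime.pow_left n (by norm_num)

theorem X_le (x : G) : Q ⊓ centralizer {s.b} ⊓ centralizer {x} ≤ s.L :=
  s.two_le (inf_le_left.trans inf_le_right) (h.qq.two.to_le (inf_le_left.trans inf_le_left))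

theorem X_norm {g x : G} (hg : g ∈ s.L) (ha : g * s.a = s.a * g) (hx : g * x = x * g) :
    g ∈ normalizer ((Q ⊓ centralizer {s.b} ⊓ centralizer {x} : Subgroup G) : Set G) :=
  mem_normalizer_of_conj_mem fun k hk => ⟨⟨h.nQ ha hk.1.1, mem_centralizer_singleton_iff.2
    (cm_conj (mem_centralizer_singleton_iff.1 hk.1.2) (by rw [s.bc g hg, mul_inv_cancel_right]))⟩,
    mem_centralizer_singleton_iff.2 (cm_conj (mem_centralizer_singleton_iff.1 hk.2)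
      (by rw [hx, mul_inv_cancel_right]))⟩

theorem plA {k : G} (hk : k ∈ Q) (h1 : k * s.b = s.b * k) (h2 : k * s.f = s.f * k) :
    k ∈ zpowers s.a :=
  s.le_a (h.X_le s.f) (h.cop (inf_le_left.trans inf_le_left)) inf_le_right
    ((inf_le_left.trans inf_le_left).trans h.qq.le)
    (h.X_norm s.e3L (fa s.toLt).2.2.2.2.1.symm (fe s.toLt).2.2.2.1)
    ⟨⟨hk, mem_centralizer_singleton_iff.2 h1⟩, mem_centralizer_singleton_iff.2 h2⟩

theorem plB (hp : s.p ∉ Q) {k : G} (hk : k ∈ Q) (h1 : k * s.b = s.b * k)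
    (h2 : k * s.e3 = s.e3 * k) : k ∈ zpowers s.a :=
  (s.le_Za (h.X_le s.e3) (h.cop (inf_le_left.trans inf_le_left)) inf_le_right
    ((inf_le_left.trans inf_le_left).trans h.qq.le)
    (h.X_norm (mul_mem s.e1L s.e2L) (fa s.toLt).2.2.2.1.symm
      (fe s.toLt).2.2.2.1.symm)).2.resolve_right (fun e => hp e.1.1)
    ⟨⟨hk, mem_centralizer_singleton_iff.2 h1⟩, mem_centralizer_singleton_iff.2 h2⟩

theorem plC : Q ⊓ centralizer {s.b} ⊓ centralizer {s.z} ≤ zpowers s.a ∨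
    Q ⊓ centralizer {s.b} ⊓ centralizer {s.z} = s.Q1 :=
  s.le_Q1 (h.X_le s.z) (h.cop (inf_le_left.trans inf_le_left)) inf_le_right
    ((inf_le_left.trans inf_le_left).trans h.qq.le)
    (h.X_norm s.e3L (fa s.toLt).2.2.2.2.1.symm (fe s.toLt).2.2.2.2.1)

theorem cent_X {g : G} (g2 : g * g = 1) (ha : g * s.a = s.a * g) (he : g * s.e3 = s.e3 * g)
    (hn : ∀ k ∈ Q ⊓ centralizer {s.b} ⊓ centralizer {s.z},
      g * k * g⁻¹ ∈ Q ⊓ centralizer {s.b} ⊓ centralizer {s.z}) :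
    Q ⊓ centralizer {s.b} ⊓ centralizer {s.z} ≤ centralizer {g} := by
  rcases h.plC with e | e
  · exact e.trans (zpowers_le.2 (mem_centralizer_singleton_iff.2 ha.symm))
  · rw [e] at hn ⊢
    exact cent_Q1 s.toLt g2 ha he (hn _ (fq s.toLt).1)

theorem cent_R {k : G} (hk : k ∈ Q ⊓ centralizer {s.b} ⊓ centralizer {s.z}) :
    r.R1 ≤ centralizer {k} := by
  obtain ⟨a2, -, au, -, ae, az, av, -⟩ := fa r.toLt
  obtain ⟨-, -, -, -, -, -, v3, vu, vz, -⟩ := fe r.toLt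
  rw [h.hu] at au vu
  rw [h.hz] at az vu vz
  have h1 := h.cent_X a2 (h.aL _ r.aL).symm (by rw [← h.h3, ae]) fun k hk =>
    ⟨⟨h.nQ' r.aL hk.1.1, mem_centralizer_singleton_iff.2 (Commute.inv_right_iff.1
      (cm_conj (mem_centralizer_singleton_iff.1 hk.1.2) au))⟩,
      mem_centralizer_singleton_iff.2 (cm_conj (mem_centralizer_singleton_iff.1 hk.2) az)⟩
  have hb : Commute k s.b := mem_centralizer_singleton_iff.1 hk.1.2
  have hz : Commute k s.z := mem_centralizer_singleton_iff.1 hk.2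
  have h2 := mem_centralizer_singleton_iff.1 (h1 (x := r.v * k * r.v⁻¹) ⟨⟨h.nQ' r.vL hk.1.1,
    mem_centralizer_singleton_iff.2 (cm_conj (hb.mul_right hz) vu)⟩,
    mem_centralizer_singleton_iff.2 (cm_conj hz vz)⟩)
  have h3 := mem_centralizer_singleton_iff.1 (h1 hk)
  have h4 : Commute k (r.v * r.v) := by
    have h5 : r.v⁻¹ * k * r.v = r.v * k * r.v⁻¹ := by
      calc r.v⁻¹ * k * r.v = r.a * r.v * r.a⁻¹ * k * (r.a * r.v * r.a⁻¹)⁻¹ := by rw [av, inv_inv]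
        _ = r.a * r.v * r.a⁻¹ * (k * r.a) * r.v⁻¹ * r.a⁻¹ := by group
        _ = r.a * (r.v * k * r.v⁻¹) * r.a⁻¹ := by rw [h3]; group
        _ = _ := by rw [← h2, mul_inv_cancel_right]
    calc k * (r.v * r.v) = r.v * (r.v⁻¹ * k * r.v) * r.v := by group
      _ = _ := by rw [h5]; group
  have h6 : Commute k r.v := by
    have := h4.mul_right h4
    rwa [show r.v * r.v * (r.v * r.v) = r.v ^ 3 * r.v by simp only [pow_succ, pow_zero, one_mul,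
      mul_assoc], v3, one_mul] at this
  refine clos_le.2 ?_
  simp only [List.forall_mem_cons, List.not_mem_nil, false_imp_iff, implies_true, and_true,
    mem_centralizer_singleton_iff]
  exact ⟨h.hz ▸ hz.symm, h.hu ▸ hb.symm, h6.symm⟩

theorem T_le : Q ⊓ centralizer {s.z} ≤ centralizer {s.b} := by
  obtain ⟨-, -, -, -, -, u3, v3, -, vz, uz, uv⟩ := fe r.toLt
  rw [h.hz] at vz uz uv
  have uL : r.u ∈ r.L := mul_mem r.e1L (inv_mem r.e2L)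
  have hn : ∀ g ∈ r.L, g * s.z * g⁻¹ = s.z → ∀ k ∈ Q ⊓ centralizer {s.z},
      g * k * g⁻¹ ∈ Q ⊓ centralizer {s.z} := fun g hg e k hk => ⟨h.nQ' hg hk.1,
    mem_centralizer_singleton_iff.2 (cm_conj (mem_centralizer_singleton_iff.1 hk.2) e)⟩
  refine gen9 (mem_normalizer_of_conj_mem (hn _ uL uz)) (mem_normalizer_of_conj_mem (hn _ r.vL vz))
    u3 v3 (fun k hk => ?_) (h.cop inf_le_left) fun i hi j hj hij k hk hc => ?_
  · calc _ = r.v * r.u * (s.z * k) * s.z⁻¹ * (r.v * r.u)⁻¹ := by rw [uv]; group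
      _ = _ := by rw [← mem_centralizer_singleton_iff.1 hk.2]; group
  · obtain ⟨c, hc1, e1, e2, e3⟩ := fr r.toLt i hi j hj hij
    rw [h.hz] at e2
    have h1 := hn c (r.CC_le hc1) e2 k hk
    have h2 := h.cent_R (k := c * k * c⁻¹) ⟨⟨h1.1, mem_centralizer_singleton_iff.2
      (h.hu ▸ cm_conj hc e1)⟩, h1.2⟩ e3
    exact mem_centralizer_singleton_iff.2
      (h.hu ▸ (cm_of_conj (mem_centralizer_singleton_iff.1 h2)).symm)

theorem pb : s.p * s.b = s.b * s.p := s.bc _ (mul_mem s.aL s.xL)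

theorem p_notMem : s.p ∉ Q := by
  intro hp
  obtain ⟨-, -, -, du, df, de, -⟩ := fd r.toLt
  obtain ⟨-, -, pe, pf, -⟩ := fp s.toLt
  rw [h.hu, h.hf] at du df
  rw [h.h3] at de
  have h1 : Commute (r.d2 * s.p * r.d2⁻¹) s.z :=
    Commute.mul_right (cm_conj h.pb du) (cm_conj pe de)
  have h2 := mem_centralizer_singleton_iff.1
    (h.T_le ⟨h.nQ' r.d2L hp, mem_centralizer_singleton_iff.2 h1⟩)
  rw [← df] at h2
  exact pf (cm_of_conj h2)

theorem plAB {x y k : G} (hxy : AB r.toLt x y) (hk : k ∈ Q) (h1 : k * x = x * k)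
    (h2 : k * y = y * k) : k ∈ centralizer {s.p} := by
  obtain ⟨c, hc, e⟩ := hxy
  have hcL := r.W3_le hc
  have h3 : c * k * c⁻¹ ∈ zpowers s.a := by
    rcases e with ⟨e1, e2⟩ | ⟨e1, e2⟩
    · have k1 : Commute (c * k * c⁻¹) r.e1 := cm_conj h1 e1
      have k2 : Commute (c * k * c⁻¹) r.e2 := cm_conj h2 e2
      exact h.plA (h.nQ' hcL hk) (h.hu ▸ k1.mul_right k2.inv_right) (h.hf ▸ k1.mul_right k2)
    · exact h.plB h.p_notMem (h.nQ' hcL hk) (h.hu ▸ cm_conj h1 e1) (h.h3 ▸ cm_conj h2 e2)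
  obtain ⟨n, hn⟩ := mem_zpowers_iff.1 h3
  have h4 : Commute s.a c := h.aL c hcL
  have h5 : k = s.a ^ n := by
    calc k = c⁻¹ * (c * k * c⁻¹) * c := by group
      _ = _ := by rw [← hn, mul_assoc, (h4.zpow_left n).eq, inv_mul_cancel_left]
  rw [h5]
  exact zpow_mem (mem_centralizer_singleton_iff.2 (fp s.toLt).2.1.symm) n

theorem plC1 {k : G} (hk : k ∈ Q) (h2 : k * s.z = s.z * k) : k * s.p = s.p * k := by
  have h1 : k ∈ Q ⊓ centralizer {s.b} ⊓ centralizer {s.z} :=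
    ⟨⟨hk, h.T_le ⟨hk, mem_centralizer_singleton_iff.2 h2⟩⟩, mem_centralizer_singleton_iff.2 h2⟩
  rcases h.plC with e | e
  · exact mem_centralizer_singleton_iff.1
      (zpowers_le.2 (mem_centralizer_singleton_iff.2 (fp s.toLt).2.1.symm) (e h1))
  · exact (fp s.toLt).2.2.2.2.2 k (e ▸ h1)

theorem plC2 {c y k : G} (hc : c ∈ r.L) (e1 : c * (s.b * y) * c⁻¹ = s.z) (e2 : c * y * c⁻¹ = s.e3)
    (hy : s.p * y = y * s.p) (hk : k ∈ Q) (h1 : k * (s.b * y) = s.b * y * k) :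
    k ∈ centralizer {s.p} := by
  have hz : Commute (c * s.p * c⁻¹) s.z := cm_conj (Commute.mul_right h.pb hy) e1
  have ha : c * s.p * c⁻¹ * s.a = s.a * (c * s.p * c⁻¹) :=
    cm_conj (fp s.toLt).2.1 (by rw [← h.aL c hc, mul_inv_cancel_right])
  have hT : ∀ k ∈ Q ⊓ centralizer {s.z}, k ∈ Q ⊓ centralizer {s.b} ⊓ centralizer {s.z} :=
    fun k hk => ⟨⟨hk.1, h.T_le hk⟩, hk.2⟩
  have h2 := h.cent_X (g := c * s.p * c⁻¹)
    (by rw [conj_mul, (fp s.toLt).1, mul_one, mul_inv_cancel]) ha (cm_conj hy e2)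
    (fun k hk => hT _ ⟨h.nQ ha hk.1.1, mem_centralizer_singleton_iff.2
      (cm_conj (mem_centralizer_singleton_iff.1 hk.2) (by rw [hz.eq, mul_inv_cancel_right]))⟩)
    (hT (c * k * c⁻¹) ⟨h.nQ' hc hk, mem_centralizer_singleton_iff.2 (cm_conj h1 e1)⟩)
  exact mem_centralizer_singleton_iff.2 (cm_of_conj (mem_centralizer_singleton_iff.1 h2))

theorem false : False := by
  obtain ⟨w1, w2, w3, w4, w5, w6, w7, w8, w9⟩ := fw r.toLt
  obtain ⟨c1, c2, c3, c4⟩ := fc r.toLt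
  obtain ⟨-, -, -, -, -, d1, -, d2, d3, d4⟩ := fd r.toLt
  obtain ⟨-, pa, pe, -, pd, -⟩ := fp s.toLt
  rw [h.hz] at c1 d2 d3
  rw [h.hf] at c2
  rw [h.hu] at c3 c4 d2 d3
  have hQ : Q ≤ centralizer {s.p} := by
    refine gen27 (c1 := r.e1) (c2 := r.e2) (c3 := r.e3) r.gB0.2 r.B0_exp r.B0_comm
      (fun j hj => h.qq.nm (mem_centralizer_singleton_iff.2 (h.aL j (r.B0_le hj)).symm))
      (h.cop le_rfl) ?_
    simp only [List.forall_mem_cons, List.not_mem_nil, false_imp_iff, implies_true, and_true]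
    refine ⟨fun k => h.plAB w1, fun k => h.plAB w2, fun k => h.plAB w3, fun k => h.plAB w4,
      fun k => h.plAB w5, fun k => h.plAB w6, fun k => h.plAB w7, fun k => h.plAB w8,
      fun k => h.plAB w9, fun k hk h1 h2 => ?_, fun k hk h1 h2 => ?_, fun k hk h1 h2 => ?_,
      fun k hk h1 h2 => ?_⟩
    · exact mem_centralizer_singleton_iff.2 (h.plC1 hk
        (c1 ▸ Commute.mul_right h1 (Commute.inv_right h2)))
    · have h3 : k * (s.f * s.e3⁻¹) = s.f * s.e3⁻¹ * k := by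
        rw [← h.h3, c2]
        exact Commute.mul_right h1 (Commute.inv_right h2)
      have h4 := h.plC1 (h.nQ (fa s.toLt).2.2.2.2.2.2.2 hk)
        (cm_conj h3 (fd s.toLt).2.2.2.2.2.2.1)
      rw [← pd] at h4
      exact mem_centralizer_singleton_iff.2 (cm_of_conj h4)
    · exact h.plC2 r.d2L d2 (d1.trans h.h3) (h.h3 ▸ pe) hk (c3 ▸ Commute.mul_right h1 h2)
    · exact h.plC2 (mul_mem r.d2L r.d3L) d3 (d4.trans h.h3) (h.h3 ▸ Commute.inv_right pe) hk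
        (c4 ▸ Commute.mul_right h1 h2)
  exact h.p_notMem (h.qq.sc _ pa fun w hw => (mem_centralizer_singleton_iff.1 (hQ hw)).symm)

end Tw

end O4x

open O4x in
theorem Bs.O4.false {s : Bs G} (h : s.O4) (gl : Gl G) : False := by
  obtain ⟨g, g1, g2, g3, g4⟩ := h
  obtain ⟨Q, hQ⟩ := gl.c2 s.a (fa s.toLt).1 (fa s.toLt).2.1
  obtain ⟨d1, d2, d3, -⟩ := fd s.toLt
  have e : ∀ x, g * (s.d1 * s.d2) * x * (g * (s.d1 * s.d2))⁻¹ =
      g * (s.d1 * s.d2 * x * (s.d1 * s.d2)⁻¹) * g⁻¹ := fun x => by group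
  have e1 : (s.cj (g * (s.d1 * s.d2))).e1 = (s.f * s.b)⁻¹ :=
    (e _).trans (by rw [d1, ← conj_inv, g1])
  have e2 : (s.cj (g * (s.d1 * s.d2))).e2 = (s.f * s.b⁻¹)⁻¹ :=
    (e _).trans (by rw [d2, ← conj_inv, g2])
  have hb : s.f * s.b = s.b * s.f := s.bc _ (mul_mem s.e1L s.e2L)
  refine Tw.false (s := s) (r := s.cj (g * (s.d1 * s.d2))) ⟨?_, ?_, (e _).trans (by rw [d3, g3]),
    (e _).trans (by rw [s.bc _ (mul_mem s.d1L s.d2L), mul_inv_cancel_right, g4]), hQ⟩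
  · change _ * _ = s.f
    rw [e1, e2]
    calc (s.f * s.b)⁻¹ * (s.f * s.b⁻¹)⁻¹ = (s.f * s.b)⁻¹ * s.b * s.f⁻¹ := by group
      _ = (s.f * s.f * s.f)⁻¹ * s.f := by rw [hb]; group
      _ = _ := by rw [(fe s.toLt).2.2.1, inv_one, one_mul]
  · change _ * _⁻¹ = s.b
    rw [e1, e2]
    calc (s.f * s.b)⁻¹ * (s.f * s.b⁻¹)⁻¹⁻¹ = (s.b ^ 3)⁻¹ * s.b := by group
      _ = _ := by rw [s.b_pow, inv_one, one_mul]

end Cfsg.Agent.S8
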