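import Mathlib
import Cfsg.Agent.S8.LF

/-! From the first stage to the standing configuration. -/

set_option autoImplicit false
set_option linter.unusedSectionVars false
set_option synthInstance.maxSize 100000
set_option synthInstance.maxHeartbeats 1000000
set_option maxRecDepth 100000

namespace Cfsg.Agent.S8

open Cfsg.Agent.Spor Cfsg.Agent.Rec Cfsg.Agent.Inv.Fz Cfsg.Agent.T16 Cfsg.Agent.F4L Subgroup

universe u

variable {G : Type u} [Group G] [Finite G]

namespace Set2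

/-- Commuting elements of order three generate an elementary abelian group. -/
theorem closure_elem {S : Set G} (hc : ∀ x ∈ S, ∀ y ∈ S, x * y = y * x) (h3 : ∀ x ∈ S, x ^ 3 = 1) :
    (∀ x ∈ closure S, ∀ y ∈ closure S, x * y = y * x) ∧ ∀ x ∈ closure S, x ^ 3 = 1 := by
  have h1 : ∀ x ∈ closure S, ∀ y ∈ closure S, x * y = y * x := by
    have a : closure S ≤ centralizer S := (closure_le _).2 fun x hx y hy => hc y hy x hx
    have b : closure S ≤ centralizer (closure S : Set G) := by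
      intro x hx y hy
      have : closure S ≤ centralizer {x} :=
        (closure_le _).2 fun z hz => mem_centralizer_singleton_iff.2 (a hx z hz)
      exact mem_centralizer_singleton_iff.1 (this hy)
    intro x hx y hy
    exact b hy x hx
  refine ⟨h1, fun x hx => ?_⟩
  induction hx using closure_induction with
  | mem x hx => exact h3 x hx
  | one => exact one_pow 3
  | mul x y hx hy ix iy => rw [Commute.mul_pow (h1 x hx y hy), ix, iy, one_mul]
  | inv x _ ix => rw [inv_pow, ix, inv_one]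

theorem comm_zpowers {b g c : G} (h : g * b = b * g) (hc : c ∈ zpowers b) : g * c = c * g := by
  obtain ⟨i, rfl⟩ := hc
  exact (Commute.zpow_right h i).eq

/-- A non-trivial element of a group of order three generates it. -/
theorem mem_zpowers_of_ne {b c : G} (h : orderOf b = 3) (hc : c ∈ zpowers b) (h1 : c ≠ 1) : b ∈ zpowers c := by
  have hle : zpowers c ≤ zpowers b := zpowers_le.2 hc
  have hd : orderOf c ∣ 3 := by
    have := card_dvd_of_le hle
    rwa [Nat.card_zpowers, Nat.card_zpowers, h] at this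
  have h3 : orderOf c = 3 := by
    rcases (Nat.dvd_prime Nat.prime_three).1 hd with e | e
    · exact absurd (orderOf_eq_one_iff.1 e) h1
    · exact e
  have : zpowers c = zpowers b :=
    Subgroup.eq_of_le_of_card_ge hle (by rw [Nat.card_zpowers, Nat.card_zpowers, h, h3])
  rw [this]
  exact mem_zpowers b

variable {s : Lt G} {b : G}

theorem b_pow (h : B1 s b) : b ^ 3 = 1 := by
  rw [← h.b3]; exact pow_orderOf_eq_one b

theorem zp_pow (h : B1 s b) {c : G} (hc : c ∈ zpowers b) : c ^ 3 = 1 := by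
  obtain ⟨i, rfl⟩ := hc
  show (b ^ i) ^ 3 = 1
  rw [← zpow_natCast, ← zpow_mul, mul_comm, zpow_mul, zpow_natCast, b_pow h, one_zpow]

theorem b_cen (h : B1 s b) : b ∈ centralizer (s.L : Set G) := fun g hg => h.bc g hg

theorem zp_comm (h : B1 s b) {c l : G} (hc : c ∈ zpowers b) (hl : l ∈ s.L) : l * c = c * l :=
  comm_zpowers (h.bc l hl) hc

/-- The elements of order three of `D` lie in `⟨b⟩`. -/
theorem d3 (h : B1 s b) {d : G} (hd : d ∈ centralizer (s.L : Set G)) (hb : d * b = b * d) (h3 : d ^ 3 = 1) :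
    d ∈ zpowers b := by
  obtain ⟨-, e⟩ := closure_elem (S := {b, d}) (by
    rintro x (rfl | rfl) y (rfl | rfl)
    · rfl
    · exact hb.symm
    · exact hb
    · rfl) (by
    rintro x (rfl | rfl)
    · exact b_pow h
    · exact h3)
  have hP : IsPGroup 3 (closure ({b, d} : Set G)) := fun x => ⟨1, Subtype.ext (by simpa using e x x.2)⟩
  have hle : closure ({b, d} : Set G) ≤ centralizer (s.L : Set G) := (closure_le _).2 (by
    rintro x (rfl | rfl)
    · exact b_cen h
    · exact hd)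
  have hcy := h.cyc _ hle hP
  obtain ⟨g, hg⟩ := IsCyclic.exists_generator (α := closure ({b, d} : Set G))
  have hcard : Nat.card (closure ({b, d} : Set G)) ≤ 3 := by
    rw [← orderOf_eq_card_of_forall_mem_zpowers hg]
    exact orderOf_le_of_pow_eq_one (by norm_num) (Subtype.ext (by simpa using e g g.2))
  have hb' : zpowers b ≤ closure ({b, d} : Set G) := zpowers_le.2 (subset_closure (by simp))
  have : zpowers b = closure ({b, d} : Set G) :=
    Subgroup.eq_of_le_of_card_ge hb' (by rw [Nat.card_zpowers, h.b3]; exact hcard)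
  rw [this]
  exact subset_closure (by simp)

/-- Decomposition of the elements of `C(b)`. -/
theorem dec (h : B1 s b) {g : G} (hg : g * b = b * g) :
    ∃ d ∈ centralizer (s.L : Set G), d * b = b * d ∧ ∃ l ∈ s.L, g = d * l := by
  obtain ⟨l, hl, hd⟩ := h.cen g hg
  refine ⟨g * l⁻¹, hd, ?_, l, hl, by group⟩
  calc g * l⁻¹ * b = g * (l⁻¹ * b) := by group
    _ = g * (b * l⁻¹) := by rw [h.bc _ (inv_mem hl)]
    _ = g * b * l⁻¹ := by group
    _ = b * (g * l⁻¹) := by rw [hg]; group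

/-- Elements of order three in `C(b)`. -/
theorem three (h : B1 s b) {g : G} (hg : g * b = b * g) (h3 : g ^ 3 = 1) :
    ∃ c ∈ zpowers b, ∃ l ∈ s.L, l ^ 3 = 1 ∧ g = c * l := by
  obtain ⟨d, hd, hb, l, hl, rfl⟩ := dec h hg
  have hc : Commute d l := (hd l hl).symm
  rw [hc.mul_pow] at h3
  have e : l ^ 3 = (d ^ 3)⁻¹ := eq_inv_of_mul_eq_one_right h3
  have hl3 : l ^ 3 = 1 := s.center (pow_mem hl 3) fun y hy => by
    rw [e]
    exact ((inv_mem (pow_mem hd 3) : (d ^ 3)⁻¹ ∈ centralizer (s.L : Set G)) y hy).symm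
  rw [hl3, mul_one] at h3
  exact ⟨d, d3 h hd hb h3, l, hl, hl3, rfl⟩

/-- The group of order 81. -/
def J (s : Lt G) (b : G) : Subgroup G := clos [s.e1, s.e2, s.e3, b]

theorem B0_le_J : s.B0 ≤ J s b := clos_le.2 fun x hx => mem_clos (by
  simp only [List.mem_cons, List.not_mem_nil, or_false] at hx ⊢
  tauto)

theorem b_mem_J : b ∈ J s b := mem_clos (by simp)

theorem J_le {K : Subgroup G} (h1 : s.B0 ≤ K) (h2 : b ∈ K) : J s b ≤ K := clos_le.2 (by
  simp only [List.forall_mem_cons, List.not_mem_nil, false_imp_iff, implies_true, and_true]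
  exact ⟨h1 (mem_clos (by simp)), h1 (mem_clos (by simp)), h1 (mem_clos (by simp)), h2⟩)

theorem J_elem (h : B1 s b) : (∀ x ∈ J s b, ∀ y ∈ J s b, x * y = y * x) ∧ ∀ x ∈ J s b, x ^ 3 = 1 := by
  have m : ∀ x ∈ {x | x ∈ [s.e1, s.e2, s.e3, b]}, x ∈ s.B0 ∨ x = b := by
    intro x hx
    simp only [List.mem_cons, List.not_mem_nil, or_false, Set.mem_ofPred_eq] at hx
    rcases hx with rfl | rfl | rfl | rfl
    · exact Or.inl (mem_clos (by simp))
    · exact Or.inl (mem_clos (by simp))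
    · exact Or.inl (mem_clos (by simp))
    · exact Or.inr rfl
  refine closure_elem (fun x hx y hy => ?_) fun x hx => ?_
  · rcases m x hx with h1 | rfl <;> rcases m y hy with h2 | rfl
    · exact s.B0_comm x h1 y h2
    · exact h.bc x (s.B0_le h1)
    · exact (h.bc y (s.B0_le h2)).symm
    · rfl
  · rcases m x hx with h1 | rfl
    · exact s.B0_exp x h1
    · exact b_pow h

theorem card_J (h : B1 s b) : 81 ≤ Nat.card (J s b) := by
  let f : zpowers b × s.B0 → J s b := fun p =>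
    ⟨p.1.1 * p.2.1, mul_mem (zpowers_le.2 b_mem_J p.1.2) (B0_le_J p.2.2)⟩
  have hf : Function.Injective f := by
    rintro ⟨⟨c, hc⟩, ⟨j, hj⟩⟩ ⟨⟨c', hc'⟩, ⟨j', hj'⟩⟩ e
    have e1 : c * j = c' * j' := congrArg Subtype.val e
    have e2 : c'⁻¹ * c = j' * j⁻¹ := by
      calc c'⁻¹ * c = c'⁻¹ * (c * j) * j⁻¹ := by group
        _ = j' * j⁻¹ := by rw [e1]; group
    have e3 : j' * j⁻¹ = 1 := s.center (s.B0_le (mul_mem hj' (inv_mem hj))) fun y hy => by
      rw [← e2]
      exact (zp_comm h (mul_mem (inv_mem hc') hc) hy).symm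
    have e4 : j' = j := mul_inv_eq_one.1 e3
    subst e4
    have e5 : c = c' := mul_right_cancel e1
    subst e5
    rfl
  have := Nat.card_le_card_of_injective f hf
  rwa [Nat.card_prod, Nat.card_zpowers, h.b3, s.gB0.2] at this

/-- Elementary abelian subgroups of order 81 containing `b`. -/
theorem conj_J (h : B1 s b) {E : Subgroup G} (hb : b ∈ E) (hc : ∀ x ∈ E, ∀ y ∈ E, x * y = y * x)
    (h3 : ∀ x ∈ E, x ^ 3 = 1) (hcard : 81 ≤ Nat.card E) : ∃ l ∈ s.L, J s b ≤ Inv.Fz.cj l E := by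
  have hz : zpowers b ≤ E := zpowers_le.2 hb
  let f : zpowers b × (E ⊓ s.L : Subgroup G) → E := fun p => ⟨p.1.1 * p.2.1, mul_mem (hz p.1.2) (mem_inf.1 p.2.2).1⟩
  have hf : Function.Surjective f := by
    rintro ⟨x, hx⟩
    obtain ⟨c, hc', l, hl, -, e⟩ := three h (hc x hx b hb) (h3 x hx)
    have hlE : l ∈ E := by
      have : l = c⁻¹ * x := by rw [e]; group
      rw [this]
      exact mul_mem (inv_mem (hz hc')) hx
    exact ⟨(⟨c, hc'⟩, ⟨l, mem_inf.2 ⟨hlE, hl⟩⟩), Subtype.ext e.symm⟩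
  have h1 := Nat.card_le_card_of_surjective f hf
  rw [Nat.card_prod, Nat.card_zpowers, h.b3] at h1
  obtain ⟨l, hl, e⟩ := (s.elem (E := E ⊓ s.L) inf_le_right
    (fun x hx y hy => hc x (mem_inf.1 hx).1 y (mem_inf.1 hy).1) (fun x hx => h3 x (mem_inf.1 hx).1)).2 (by omega)
  refine ⟨l, hl, J_le ?_ ?_⟩
  · rw [← e]
    exact cj_mono inf_le_left
  · rw [mem_cj, h.bc _ (inv_mem hl), inv_mul_cancel_right]
    exact hb

/-- `b` is moved out of `⟨b⟩` by the normaliser of `J`. -/
theorem exists_n (h : B1 s b) : ∃ n ∈ normalizer (J s b : Set G), n * b * n⁻¹ ∉ zpowers b := by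
  obtain ⟨g, hg1, hg2⟩ := h.wc
  obtain ⟨c, hc, l, hl, hl3, e⟩ := three h hg1 (by rw [conj_pow, b_pow h]; group)
  obtain ⟨l1, hl1, hj⟩ := s.conj_three hl hl3
  have e1 : l1 * g * b * (l1 * g)⁻¹ = c * (l1 * l * l1⁻¹) := by
    calc l1 * g * b * (l1 * g)⁻¹ = l1 * (g * b * g⁻¹) * l1⁻¹ := by group
      _ = l1 * c * l * l1⁻¹ := by rw [e]; group
      _ = c * (l1 * l * l1⁻¹) := by rw [zp_comm h hc hl1]; group
  have m1 : l1 * g * b * (l1 * g)⁻¹ ∈ J s b := by
    rw [e1]
    exact mul_mem (zpowers_le.2 b_mem_J hc) (B0_le_J hj)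
  have m2 : l1 * g * b * (l1 * g)⁻¹ ∉ zpowers b := fun hm => hg2 (by
    have : g * b * g⁻¹ = l1 * g * b * (l1 * g)⁻¹ := by
      calc g * b * g⁻¹ = l1⁻¹ * (l1 * g * b * (l1 * g)⁻¹) * l1 := by group
        _ = _ := by rw [zp_comm h hm (inv_mem hl1)]; group
    rw [this]
    exact hm)
  generalize l1 * g = g1 at m1 m2
  obtain ⟨hJc, hJ3⟩ := J_elem h
  obtain ⟨l2, hl2, hle⟩ := conj_J h (E := Inv.Fz.cj g1⁻¹ (J s b)) (by rw [mem_cj, inv_inv]; exact m1)
    (fun x hx y hy => by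
      rw [mem_cj] at hx hy
      have := hJc _ hx _ hy
      calc x * y = g1⁻¹ * (g1⁻¹⁻¹ * x * g1⁻¹ * (g1⁻¹⁻¹ * y * g1⁻¹)) * g1 := by group
        _ = y * x := by rw [this]; group)
    (fun x hx => by
      rw [mem_cj, inv_inv] at hx
      have := hJ3 _ hx
      rw [conj_pow] at this
      calc x ^ 3 = g1⁻¹ * (g1 * x ^ 3 * g1⁻¹) * g1 := by group
        _ = 1 := by rw [this]; group)
    (by rw [card_cj]; exact card_J h)
  rw [cj_cj] at hle
  have heq : Inv.Fz.cj (l2 * g1⁻¹) (J s b) = J s b :=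
    (Subgroup.eq_of_le_of_card_ge hle (card_cj _ _).le).symm
  refine ⟨(l2 * g1⁻¹)⁻¹, inv_mem (cj_eq_iff.1 heq), ?_⟩
  have : (l2 * g1⁻¹)⁻¹ * b * (l2 * g1⁻¹)⁻¹⁻¹ = g1 * b * g1⁻¹ := by
    calc (l2 * g1⁻¹)⁻¹ * b * (l2 * g1⁻¹)⁻¹⁻¹ = g1 * (l2⁻¹ * b) * l2 * g1⁻¹ := by group
      _ = _ := by rw [h.bc _ (inv_mem hl2)]; group
  rw [this]
  exact m2

/-- `D` has no element of order nine. -/
theorem no_nine (h : B1 s b) {r : G} (hr : r ∈ centralizer (s.L : Set G)) (hb : r * b = b * r) (h9 : (r ^ 3) ^ 3 = 1) :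
    r ^ 3 = 1 := by
  by_contra h3
  obtain ⟨n, hn, hnb⟩ := exists_n h
  have hb3 : ∀ {x : G}, x * b = b * x → x ^ 3 * b = b * x ^ 3 := fun hx => (Commute.pow_left hx 3).eq
  have m : r ^ 3 ∈ zpowers b := d3 h (pow_mem hr 3) (hb3 hb) h9
  have hrJ : J s b ≤ centralizer {r} := J_le (fun j hj => mem_centralizer_singleton_iff.2 (hr j (s.B0_le hj)))
    (mem_centralizer_singleton_iff.2 hb.symm)
  have hc : ∀ j ∈ J s b, n * r * n⁻¹ * j = j * (n * r * n⁻¹) := by
    intro j hj
    have h1 : n⁻¹ * j * n ∈ J s b := by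
      have := (mem_normalizer_iff.1 (inv_mem hn) j).1 hj
      rwa [inv_inv] at this
    have h2 := mem_centralizer_singleton_iff.1 (hrJ h1)
    calc n * r * n⁻¹ * j = n * (r * (n⁻¹ * j * n)) * n⁻¹ := by group
      _ = j * (n * r * n⁻¹) := by rw [← h2]; group
  obtain ⟨d, hd, hdb, l, hl, e⟩ := dec h (hc b b_mem_J)
  have hlB : l ∈ s.B0 := s.cen_B0 hl fun j hj => by
    have h1 := hc j (B0_le_J hj)
    rw [e] at h1
    have h2 := hd j (s.B0_le hj)
    calc l * j = d⁻¹ * (d * l * j) := by group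
      _ = d⁻¹ * (j * d) * l := by rw [h1]; group
      _ = j * l := by rw [h2]; group
  have hcm : Commute d l := (hd l hl).symm
  have e3 : n * r ^ 3 * n⁻¹ = d ^ 3 := by
    rw [← conj_pow, e, hcm.mul_pow, s.B0_exp l hlB, mul_one]
  have m2 : d ^ 3 ∈ zpowers b := d3 h (pow_mem hd 3) (hb3 hdb) (by rw [← e3, conj_pow, h9]; group)
  obtain ⟨i, hi⟩ := mem_zpowers_of_ne h.b3 m h3
  apply hnb
  have hi' : (r ^ 3) ^ i = b := hi
  rw [← hi', ← conj_zpow, e3, hi']
  exact zpow_mem m2 i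

theorem three_elt (h : B1 s b) {r : G} (hr : r ∈ centralizer (s.L : Set G)) (hb : r * b = b * r) (k : ℕ)
    (hk : r ^ 3 ^ k = 1) : r ∈ zpowers b := by
  refine d3 h hr hb ?_
  induction k with
  | zero => rw [pow_zero, pow_one] at hk; rw [hk, one_pow]
  | succ k ih =>
    cases k with
    | zero => simpa using hk
    | succ k =>
      apply ih
      have := no_nine h (pow_mem hr (3 ^ k)) (Commute.pow_left hb _).eq (by
        rw [← pow_mul, ← pow_mul, ← hk]
        congr 1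
        ring)
      rw [← pow_mul] at this
      rw [pow_succ]
      exact this

end Set2

open Set2 in
theorem B1.exists_bs {s : Lt G} {b : G} (h : B1 s b) :
    ∃ r : Bs G, r.toLt = s ∧ r.b = b ∧ ∃ g ∈ r.NJ, g * r.b * g⁻¹ ∉ zpowers r.b := by
  have : Fact (Nat.Prime 3) := ⟨Nat.prime_three⟩
  let D : Subgroup G := centralizer (s.L : Set G) ⊓ centralizer {b}
  have hD1 : ∀ x : D, (x : G) ∈ centralizer (s.L : Set G) := fun x => (mem_inf.1 x.2).1
  have hD2 : ∀ x : D, (x : G) * b = b * x := fun x => mem_centralizer_singleton_iff.1 (mem_inf.1 x.2).2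
  obtain ⟨P⟩ := (Sylow.nonempty : Nonempty (Sylow 3 D))
  have hP : ∀ x ∈ (P : Subgroup D), (x : G) ∈ zpowers b := by
    intro x hx
    obtain ⟨k, hk⟩ := P.2 ⟨x, hx⟩
    exact three_elt h (hD1 x) (hD2 x) k (by
      have := congrArg (fun y : (P : Subgroup D) => ((y : D) : G)) hk
      simpa using this)
  have hN : normalizer ((P : Subgroup D) : Set D) ≤ centralizer ((P : Subgroup D) : Set D) := by
    intro g _ x hx
    exact Subtype.ext (comm_zpowers (hD2 g) (hP x hx)).symm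
  have hcomp := MonoidHom.ker_transferSylow_isComplement' P hN
  have hnd := MonoidHom.not_dvd_card_ker_transferSylow P hN
  generalize (MonoidHom.transferSylow P hN).ker = K at hcomp hnd
  have hcard : Nat.card (K.map D.subtype) = Nat.card K := Subgroup.card_map_of_injective D.subtype_injective
  obtain ⟨n, hn, hnb⟩ := exists_n h
  refine ⟨⟨s, b, K.map D.subtype, h.b3, h.bc, ?_, ?_, ?_, ?_, ?_⟩, rfl, rfl, n, hn, hnb⟩
  · exact Odd.of_dvd_nat h.odd (card_dvd_of_le (map_subtype_le K))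
  · rw [hcard]
    exact ((Nat.Prime.coprime_iff_not_dvd Nat.prime_three).2 hnd).symm
  · rintro _ ⟨y, -, rfl⟩ g hg
    exact (hD1 y g hg).symm
  · rintro _ ⟨y, -, rfl⟩
    exact hD2 y
  · intro g hg
    obtain ⟨d, hd, hdb, l, hl, rfl⟩ := dec h hg
    obtain ⟨⟨y, c⟩, e⟩ := (hcomp.existsUnique ⟨d, mem_inf.2 ⟨hd, mem_centralizer_singleton_iff.2 hdb⟩⟩).exists
    refine ⟨((y : D) : G), ⟨y, y.2, rfl⟩, ((c : D) : G), hP c c.2, l, hl, ?_⟩
    have := congrArg (fun z : D => (z : G)) e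
    simp only [coe_mul] at this
    rw [this]

end Cfsg.Agent.S8
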