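import Mathlib
import Cfsg.Agent.S8.LF
import Cfsg.Agent.S8.Set2
import Cfsg.Agent.GT.Cores
import Cfsg.Prelude.Def_Local

/-! From the hypotheses of the theorem to the first stage. -/

set_option autoImplicit false
set_option linter.unusedSectionVars false
set_option synthInstance.maxSize 100000
set_option synthInstance.maxHeartbeats 1000000
set_option maxRecDepth 100000

namespace Cfsg.Agent.S8

open Cfsg.Agent.Spor Cfsg.Agent.Rec Cfsg.Agent.Inv.Fz Cfsg.Agent.T16 Cfsg.Agent.F4L Subgroup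

universe u

variable {G : Type u} [Group G] [Finite G]

namespace Set1

open Set2

theorem norm_of_conj {H : Type*} [Group H] [Finite H] {X : Subgroup H} {g : H} (h : ∀ x ∈ X, g * x * g⁻¹ ∈ X) :
    g ∈ normalizer (X : Set H) :=
  cj_eq_iff.1 (cj_eq_of_le (cj_le_iff.2 h))

theorem zp_two {H : Type*} [Group H] {t x : H} (h2 : t * t = 1) (hx : x ∈ zpowers t) : x = 1 ∨ x = t := by
  obtain ⟨i, rfl⟩ := hx
  have e : t ^ (2 : ℤ) = 1 := by rw [zpow_two, h2]
  rcases Int.even_or_odd' i with ⟨k, rfl | rfl⟩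
  · left
    show t ^ (2 * k) = 1
    rw [zpow_mul, e, one_zpow]
  · right
    show t ^ (2 * k + 1) = t
    rw [zpow_add, zpow_mul, e, one_zpow, one_mul, zpow_one]

theorem pg_two {H : Type*} [Group H] {t : H} (h2 : t * t = 1) : IsPGroup 2 (zpowers t) := fun x =>
  ⟨1, Subtype.ext (by
    rcases zp_two h2 x.2 with e | e <;> simp [e, pow_two, h2])⟩

theorem norm_two {H : Type*} [Group H] [Finite H] {t : H} (h2 : t * t = 1) (h1 : t ≠ 1) :
    normalizer (zpowers t : Set H) = centralizer {t} := le_antisymm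
  (fun g hg => mem_centralizer_singleton_iff.2 (mul_inv_eq_iff_eq_mul.1
    ((zp_two h2 ((mem_normalizer_iff.1 hg t).1 (mem_zpowers t))).resolve_left fun e => h1 (by simpa using e))))
  fun g hg => norm_of_conj fun x hx => by
    rcases zp_two h2 hx with rfl | rfl
    · simp
    · rw [mem_centralizer_singleton_iff.1 hg, mul_inv_cancel_right]; exact hx

/-- The first stage without the statements about `|D|` and about weak closure. -/
structure A1 (s : Lt G) (b : G) : Prop where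
  b3 : orderOf b = 3
  bc : ∀ g ∈ s.L, g * b = b * g
  cyc : ∀ P : Subgroup G, P ≤ centralizer (s.L : Set G) → IsPGroup 3 P → IsCyclic P
  cen : ∀ g, g * b = b * g → ∃ l ∈ s.L, g * l⁻¹ ∈ centralizer (s.L : Set G)

variable {s : Lt G} {b : G}

theorem A1.b_pow (h : A1 s b) : b ^ 3 = 1 := by
  rw [← h.b3]; exact pow_orderOf_eq_one b

theorem A1.zp_comm (h : A1 s b) {c l : G} (hc : c ∈ zpowers b) (hl : l ∈ s.L) : l * c = c * l :=
  comm_zpowers (h.bc l hl) hc

theorem A1.d3 (h : A1 s b) {d : G} (hd : d ∈ centralizer (s.L : Set G)) (hb : d * b = b * d) (h3 : d ^ 3 = 1) :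
    d ∈ zpowers b := by
  obtain ⟨-, e⟩ := closure_elem (S := {b, d}) (by
    rintro x (rfl | rfl) y (rfl | rfl)
    · rfl
    · exact hb.symm
    · exact hb
    · rfl) (by
    rintro x (rfl | rfl)
    · exact h.b_pow
    · exact h3)
  have hP : IsPGroup 3 (closure ({b, d} : Set G)) := fun x => ⟨1, Subtype.ext (by simpa using e x x.2)⟩
  have hle : closure ({b, d} : Set G) ≤ centralizer (s.L : Set G) := (closure_le _).2 (by
    rintro x (rfl | rfl)
    · exact fun g hg => h.bc g hg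
    · exact hd)
  have hcy := h.cyc _ hle hP
  obtain ⟨g, hg⟩ := IsCyclic.exists_generator (α := closure ({b, d} : Set G))
  have hcard : Nat.card (closure ({b, d} : Set G)) ≤ 3 := by
    rw [← orderOf_eq_card_of_forall_mem_zpowers hg]
    exact orderOf_le_of_pow_eq_one (by norm_num) (Subtype.ext (by simpa using e g g.2))
  have hb' : zpowers b ≤ closure ({b, d} : Set G) := zpowers_le.2 (subset_closure (by simp))
  have : zpowers b = closure ({b, d} : Set G) :=
    Subgroup.eq_of_le_of_card_ge hb' (by rw [Nat.card_zpowers, h.b3]; exact hcard)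
  rw [this]
  exact subset_closure (by simp)

theorem A1.dec (h : A1 s b) {g : G} (hg : g * b = b * g) :
    ∃ d ∈ centralizer (s.L : Set G), d * b = b * d ∧ ∃ l ∈ s.L, g = d * l := by
  obtain ⟨l, hl, hd⟩ := h.cen g hg
  refine ⟨g * l⁻¹, hd, ?_, l, hl, by group⟩
  calc g * l⁻¹ * b = g * (l⁻¹ * b) := by group
    _ = g * (b * l⁻¹) := by rw [h.bc _ (inv_mem hl)]
    _ = g * b * l⁻¹ := by group
    _ = b * (g * l⁻¹) := by rw [hg]; group

theorem pow_split {d l : G} (hd : d ∈ centralizer (s.L : Set G)) (hl : l ∈ s.L) {n : ℕ} (h : (d * l) ^ n = 1) :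
    d ^ n = 1 ∧ l ^ n = 1 := by
  have hc : Commute d l := (hd l hl).symm
  rw [hc.mul_pow] at h
  have e : l ^ n = (d ^ n)⁻¹ := eq_inv_of_mul_eq_one_right h
  have hl3 : l ^ n = 1 := s.center (pow_mem hl n) fun y hy => by
    rw [e]
    exact ((inv_mem (pow_mem hd n) : (d ^ n)⁻¹ ∈ centralizer (s.L : Set G)) y hy).symm
  rw [hl3, mul_one] at h
  exact ⟨h, hl3⟩

theorem A1.three (h : A1 s b) {g : G} (hg : g * b = b * g) (h3 : g ^ 3 = 1) :
    ∃ c ∈ zpowers b, ∃ l ∈ s.L, g = c * l := by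
  obtain ⟨d, hd, hb, l, hl, rfl⟩ := h.dec hg
  exact ⟨d, h.d3 hd hb (pow_split hd hl h3).1, l, hl, rfl⟩

theorem A1.J_elem (h : A1 s b) : (∀ x ∈ J s b, ∀ y ∈ J s b, x * y = y * x) ∧ ∀ x ∈ J s b, x ^ 3 = 1 := by
  have m : ∀ x ∈ {x | x ∈ [s.e1, s.e2, s.e3, b]}, x ∈ s.B0 ∨ x = b := by
    intro x hx
    simp only [List.mem_cons, List.not_mem_nil, or_false, Set.mem_ofPred_eq] at hx
    rcases hx with rfl | rfl | rfl | rfl
    · exact Or.inl (mem_clos (by simp))
    · exact Or.inl (mem_clos (by simp))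
    · exact Or.inl (mem_clos (by simp))
    · exact Or.inr rfl
  refine closure_elem (fun x hx y hy => ?_) fun x hx => ?_
  · rcases m x hx with h1 | rfl <;> rcases m y hy with h2 | rfl
    · exact s.B0_comm x h1 y h2
    · exact h.bc x (s.B0_le h1)
    · exact (h.bc y (s.B0_le h2)).symm
    · rfl
  · rcases m x hx with h1 | rfl
    · exact s.B0_exp x h1
    · exact h.b_pow

theorem A1.card_J (h : A1 s b) : 81 ≤ Nat.card (J s b) := by
  let f : zpowers b × s.B0 → J s b := fun p =>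
    ⟨p.1.1 * p.2.1, mul_mem (zpowers_le.2 b_mem_J p.1.2) (B0_le_J p.2.2)⟩
  have hf : Function.Injective f := by
    rintro ⟨⟨c, hc⟩, ⟨j, hj⟩⟩ ⟨⟨c', hc'⟩, ⟨j', hj'⟩⟩ e
    have e1 : c * j = c' * j' := congrArg Subtype.val e
    have e2 : c'⁻¹ * c = j' * j⁻¹ := by
      calc c'⁻¹ * c = c'⁻¹ * (c * j) * j⁻¹ := by group
        _ = j' * j⁻¹ := by rw [e1]; group
    have e3 : j' * j⁻¹ = 1 := s.center (s.B0_le (mul_mem hj' (inv_mem hj))) fun y hy => by
      rw [← e2]
      exact (h.zp_comm (mul_mem (inv_mem hc') hc) hy).symm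
    have e4 : j' = j := mul_inv_eq_one.1 e3
    subst e4
    have e5 : c = c' := mul_right_cancel e1
    subst e5
    rfl
  have := Nat.card_le_card_of_injective f hf
  rwa [Nat.card_prod, Nat.card_zpowers, h.b3, s.gB0.2] at this

/-- Elementary abelian 3-subgroups containing `b`. -/
theorem A1.elem_b (h : A1 s b) {E : Subgroup G} (hb : b ∈ E) (hc : ∀ x ∈ E, ∀ y ∈ E, x * y = y * x)
    (h3 : ∀ x ∈ E, x ^ 3 = 1) :
    Nat.card E ≤ 81 ∧ (81 ≤ Nat.card E → ∃ l ∈ s.L, s.B0 ≤ Inv.Fz.cj l E) := by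
  have hz : zpowers b ≤ E := zpowers_le.2 hb
  let f : zpowers b × (E ⊓ s.L : Subgroup G) → E := fun p => ⟨p.1.1 * p.2.1, mul_mem (hz p.1.2) (mem_inf.1 p.2.2).1⟩
  have hf : Function.Surjective f := by
    rintro ⟨x, hx⟩
    obtain ⟨c, hc', l, hl, e⟩ := h.three (hc x hx b hb) (h3 x hx)
    have hlE : l ∈ E := by
      have : l = c⁻¹ * x := by rw [e]; group
      rw [this]
      exact mul_mem (inv_mem (hz hc')) hx
    exact ⟨(⟨c, hc'⟩, ⟨l, mem_inf.2 ⟨hlE, hl⟩⟩), Subtype.ext e.symm⟩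
  have h1 := Nat.card_le_card_of_surjective f hf
  rw [Nat.card_prod, Nat.card_zpowers, h.b3] at h1
  obtain ⟨k1, k2⟩ := s.elem (E := E ⊓ s.L) inf_le_right
    (fun x hx y hy => hc x (mem_inf.1 hx).1 y (mem_inf.1 hy).1) (fun x hx => h3 x (mem_inf.1 hx).1)
  refine ⟨by omega, fun hcard => ?_⟩
  obtain ⟨l, hl, e⟩ := k2 (by omega)
  refine ⟨l, hl, ?_⟩
  rw [← e]
  exact cj_mono inf_le_left

/-- Elementary abelian 3-subgroups of `C(b)`. -/
theorem A1.elem (h : A1 s b) {E : Subgroup G} (hb : E ≤ centralizer {b}) (hc : ∀ x ∈ E, ∀ y ∈ E, x * y = y * x)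
    (h3 : ∀ x ∈ E, x ^ 3 = 1) :
    Nat.card E ≤ 81 ∧ (81 ≤ Nat.card E → ∃ l ∈ s.L, s.B0 ≤ Inv.Fz.cj l E) := by
  obtain ⟨c1, c2⟩ := closure_elem (S := insert b (E : Set G)) (by
    rintro x (rfl | hx) y (rfl | hy)
    · rfl
    · exact (mem_centralizer_singleton_iff.1 (hb hy)).symm
    · exact mem_centralizer_singleton_iff.1 (hb hx)
    · exact hc x hx y hy) (by
    rintro x (rfl | hx)
    · exact h.b_pow
    · exact h3 x hx)
  have hle : E ≤ closure (insert b (E : Set G)) := fun x hx => subset_closure (Set.mem_insert_of_mem _ hx)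
  obtain ⟨k1, k2⟩ := h.elem_b (subset_closure (Set.mem_insert b (E : Set G))) c1 c2
  have k3 := card_le_of_le hle
  refine ⟨k3.trans k1, fun hcard => ?_⟩
  have e : E = closure (insert b (E : Set G)) := Subgroup.eq_of_le_of_card_ge hle (k1.trans hcard)
  rw [e]
  exact k2 (hcard.trans k3)

/-- The projection to `L`. -/
def proj (s : Lt G) (X : Subgroup G) : Subgroup G where
  carrier := {l | l ∈ s.L ∧ ∃ d ∈ centralizer (s.L : Set G), d * l ∈ X}
  one_mem' := ⟨one_mem _, 1, one_mem _, by rw [one_mul]; exact one_mem _⟩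
  mul_mem' := by
    rintro l l' ⟨hl, d, hd, hx⟩ ⟨hl', d', hd', hx'⟩
    refine ⟨mul_mem hl hl', d * d', mul_mem hd hd', ?_⟩
    have : d * d' * (l * l') = d * l * (d' * l') := by
      calc d * d' * (l * l') = d * (d' * l) * l' := by group
        _ = _ := by rw [← hd' l hl]; group
    rw [this]
    exact mul_mem hx hx'
  inv_mem' := by
    rintro l ⟨hl, d, hd, hx⟩
    refine ⟨inv_mem hl, d⁻¹, inv_mem hd, ?_⟩
    rw [← mul_inv_rev, hd l hl]
    exact inv_mem hx

/-- A 2-subgroup of `C(b)` normalised by `B0` centralises `L`. -/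
theorem A1.two_le (h : A1 s b) {X : Subgroup G} (hX : X ≤ centralizer {b}) (h2 : IsPGroup 2 X)
    (hn : s.B0 ≤ normalizer (X : Set G)) : X ≤ centralizer (s.L : Set G) := by
  have hp : IsPGroup 2 (proj s X) := by
    rintro ⟨l, hl, d, hd, hx⟩
    obtain ⟨k, hk⟩ := h2 ⟨_, hx⟩
    exact ⟨k, Subtype.ext (pow_split hd hl (n := 2 ^ k) (by simpa using congrArg Subtype.val hk)).2⟩
  have hb : proj s X = ⊥ := by
    refine s.sig (fun l hl => hl.1) ?_ fun j hj => norm_of_conj ?_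
    · obtain ⟨n, e⟩ := IsPGroup.iff_card.1 hp
      rw [e]
      exact Nat.Coprime.pow_left n (by norm_num)
    · rintro l ⟨hl, d, hd, hx⟩
      have hjL := s.B0_le hj
      refine ⟨mul_mem (mul_mem hjL hl) (inv_mem hjL), d, hd, ?_⟩
      have : d * (j * l * j⁻¹) = j * (d * l) * j⁻¹ := by
        calc d * (j * l * j⁻¹) = d * j * l * j⁻¹ := by group
          _ = _ := by rw [← hd j hjL]; group
      rw [this]
      exact (mem_normalizer_iff.1 (hn hj) _).1 hx
  intro x hx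
  obtain ⟨d, hd, -, l, hl, rfl⟩ := h.dec (mem_centralizer_singleton_iff.1 (hX hx))
  have : l ∈ proj s X := ⟨hl, d, hd, hx⟩
  rw [hb, mem_bot] at this
  rw [this, mul_one]
  exact hd

theorem A1.J_le (h : A1 s b) : J s b ≤ centralizer {b} :=
  fun x hx => mem_centralizer_singleton_iff.2 (h.J_elem.1 x hx b b_mem_J)

theorem elem_map {H : Type*} [Group H] {f : H →* G} {B : Subgroup H} (hB : IsMulCommutative B)
    (h3 : ∀ a ∈ B, a ^ 3 = 1) :
    (∀ x ∈ B.map f, ∀ y ∈ B.map f, x * y = y * x) ∧ ∀ x ∈ B.map f, x ^ 3 = 1 := by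
  refine ⟨?_, ?_⟩
  · rintro _ ⟨x, hx, rfl⟩ _ ⟨y, hy, rfl⟩
    rw [← map_mul, ← map_mul]
    exact congrArg f (congrArg Subtype.val (hB.is_comm.comm ⟨x, hx⟩ ⟨y, hy⟩))
  · rintro _ ⟨x, hx, rfl⟩
    rw [← map_pow, h3 x hx, map_one]

theorem elem_of {E K : Subgroup G} (hc : ∀ x ∈ E, ∀ y ∈ E, x * y = y * x) (h3 : ∀ x ∈ E, x ^ 3 = 1) :
    IsMulCommutative (E.subgroupOf K) ∧ ∀ a ∈ E.subgroupOf K, a ^ 3 = 1 :=
  ⟨⟨⟨fun x y => Subtype.ext (Subtype.ext (hc _ x.2 _ y.2))⟩⟩, fun _ ha => Subtype.ext (h3 _ ha)⟩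

theorem A1.odd (h : A1 s b)
    (hA5 : ∀ B : Subgroup (centralizer ({b} : Set G)), IsElementaryAbelian 3 B →
      (∃ H : Subgroup (centralizer ({b} : Set G)), IsTwoLocal H ∧ B ≤ H) →
      (∀ B' : Subgroup (centralizer ({b} : Set G)), IsElementaryAbelian 3 B' →
        (∃ H : Subgroup (centralizer ({b} : Set G)), IsTwoLocal H ∧ B' ≤ H) → Nat.card B' ≤ Nat.card B) →
      ∃ Q : Subgroup (centralizer ({b} : Set G)), IsPGroup 2 Q ∧
        B ≤ normalizer (Q : Set (centralizer ({b} : Set G))) ∧ ⁅Q, B⁆ ≠ ⊥) :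
    Odd (Nat.card (centralizer (s.L : Set G) ⊓ centralizer {b} : Subgroup G)) := by
  by_contra hodd
  have : Fact (Nat.Prime 2) := ⟨Nat.prime_two⟩
  obtain ⟨⟨i, hi⟩, hi2⟩ := exists_prime_orderOf_dvd_card' 2 (even_iff_two_dvd.1 (Nat.not_odd_iff_even.1 hodd))
  obtain ⟨hiL, hib⟩ := mem_inf.1 hi
  have i2 : i * i = 1 := by
    have := pow_orderOf_eq_one (⟨i, hi⟩ : (centralizer (s.L : Set G) ⊓ centralizer {b} : Subgroup G))
    rw [hi2, pow_two] at this
    exact congrArg Subtype.val this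
  have i1 : i ≠ 1 := by
    rintro rfl
    have : orderOf (⟨1, hi⟩ : (centralizer (s.L : Set G) ⊓ centralizer {b} : Subgroup G)) = 1 := orderOf_eq_one_iff.2 rfl
    omega
  have j2 : (⟨i, hib⟩ : centralizer ({b} : Set G)) * ⟨i, hib⟩ = 1 := Subtype.ext i2
  have j1 : (⟨i, hib⟩ : centralizer ({b} : Set G)) ≠ 1 := fun e => i1 (congrArg Subtype.val e)
  have hcJ : ∀ {d : G}, d ∈ centralizer (s.L : Set G) → d ∈ centralizer {b} → J s b ≤ centralizer {d} :=
    fun hd hd' => Set2.J_le (fun j hj => mem_centralizer_singleton_iff.2 (hd j (s.B0_le hj)))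
      (mem_centralizer_singleton_iff.2 (mem_centralizer_singleton_iff.1 hd').symm)
  obtain ⟨Q, hQ, hn, hne⟩ := hA5 ((J s b).subgroupOf _) (elem_of h.J_elem.1 h.J_elem.2)
    ⟨_, ⟨zpowers ⟨i, hib⟩, pg_two j2, fun e => j1 (zpowers_eq_bot.1 e), rfl⟩, by
      rw [norm_two j2 j1]
      intro x hx
      exact mem_centralizer_singleton_iff.2 (Subtype.ext (mem_centralizer_singleton_iff.1 (hcJ hiL hib hx)))⟩ (by
      intro B' hB' _
      obtain ⟨c1, c2⟩ := elem_map (f := (centralizer ({b} : Set G)).subtype) hB'.1 hB'.2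
      have k := (h.elem (map_subtype_le B') c1 c2).1
      rw [Subgroup.card_map_of_injective (subtype_injective _)] at k
      rw [Nat.card_congr (subgroupOfEquivOfLe h.J_le).toEquiv]
      exact k.trans h.card_J)
  have hX : Q.map (centralizer ({b} : Set G)).subtype ≤ centralizer (s.L : Set G) :=
    h.two_le (map_subtype_le Q) (hQ.map _) fun j hj =>
      le_normalizer_map _ ⟨⟨j, h.J_le (B0_le_J hj)⟩, hn (B0_le_J hj), rfl⟩
  refine hne (commutator_eq_bot_iff_le_centralizer.2 fun x hx y hy => Subtype.ext ?_)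
  exact mem_centralizer_singleton_iff.1 (hcJ (hX ⟨x, hx, rfl⟩) x.2 hy)

theorem A1.rank (h : A1 s b) (hodd : Odd (Nat.card (centralizer (s.L : Set G) ⊓ centralizer {b} : Subgroup G))) :
    TwoLocalPRankLE 3 3 (centralizer ({b} : Set G)) := by
  rintro _ ⟨T, hT, hT1, rfl⟩ A hA h3
  by_contra hlt
  have : Fact (Nat.Prime 3) := ⟨Nat.prime_three⟩
  have : Fact (Nat.Prime 2) := ⟨Nat.prime_two⟩
  have hp : IsPGroup 3 A := fun x => ⟨1, Subtype.ext (by simpa using h3 x x.2)⟩
  obtain ⟨n, hn⟩ := IsPGroup.iff_card.1 hp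
  have h81 : 81 ≤ Nat.card A := by
    rw [hn] at hlt ⊢
    have : 3 < n := by
      by_contra h'
      exact hlt (Nat.pow_le_pow_right (by norm_num) (by omega))
    exact Nat.pow_le_pow_right (by norm_num : 0 < 3) (show 4 ≤ n by omega)
  let f : normalizer (T : Set (centralizer ({b} : Set G))) →* G :=
    (centralizer ({b} : Set G)).subtype.comp (normalizer (T : Set (centralizer ({b} : Set G)))).subtype
  have hf : Function.Injective f := (subtype_injective _).comp (subtype_injective _)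
  obtain ⟨c1, c2⟩ := elem_map (f := f) hA h3
  have hle : A.map f ≤ centralizer {b} := by
    rintro _ ⟨x, -, rfl⟩
    exact x.1.2
  obtain ⟨l, hl, hB⟩ := (h.elem hle c1 c2).2 (by rw [Subgroup.card_map_of_injective hf]; exact h81)
  have hnm : A.map f ≤ normalizer (T.map (centralizer ({b} : Set G)).subtype : Set G) := by
    rintro _ ⟨x, -, rfl⟩
    exact le_normalizer_map _ ⟨x.1, x.2, rfl⟩
  have hlb : l ∈ centralizer ({b} : Set G) := mem_centralizer_singleton_iff.2 (h.bc l hl)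
  have hXb : Inv.Fz.cj l (T.map (centralizer ({b} : Set G)).subtype) ≤ centralizer {b} :=
    cj_le_iff.2 fun x hx => mul_mem (mul_mem hlb (map_subtype_le T hx)) (inv_mem hlb)
  have hX2 : IsPGroup 2 (Inv.Fz.cj l (T.map (centralizer ({b} : Set G)).subtype)) := (hT.map _).map _
  have hXL := h.two_le hXb hX2 (by
    rw [← cj_normalizer]
    exact hB.trans (cj_mono hnm))
  have hd := card_dvd_of_le (le_inf hXL hXb)
  obtain ⟨m, hm⟩ := IsPGroup.iff_card.1 hX2
  have hm0 : m = 0 := by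
    by_contra h0
    rw [hm] at hd
    exact (Nat.not_even_iff_odd.2 hodd) (even_iff_two_dvd.2 ((dvd_pow_self 2 h0).trans hd))
  rw [hm0, pow_zero, card_cj, Subgroup.card_map_of_injective (subtype_injective _)] at hm
  exact hT1 (card_eq_one.1 hm)

end Set1

open Set1

theorem gl_c2 (hG : IsCharacteristicTwoType G) {t : G} (h2 : t * t = 1) (h1 : t ≠ 1) : ∃ Q, QQ t Q := by
  have hc : IsOfCharacteristicTwo (centralizer ({t} : Set G)) :=
    norm_two h2 h1 ▸ hG.2 _ (pg_two h2) fun e => h1 (zpowers_eq_bot.1 e)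
  refine ⟨(pCore 2 (centralizer ({t} : Set G))).map (centralizer ({t} : Set G)).subtype,
    (GT.isPGroup_pCore 2).map _, map_subtype_le _, fun g hg => ?_, fun g hg h => ?_, fun X hX hle hn => ?_⟩
  · refine le_normalizer_map _ ⟨⟨g, hg⟩, ?_, rfl⟩
    rw [normalizer_eq_top]
    exact mem_top _
  · refine ⟨⟨g, mem_centralizer_singleton_iff.2 hg⟩, hc fun y hy => Subtype.ext ?_, rfl⟩
    exact (h y ⟨y, hy, rfl⟩).symm
  · have : (X.subgroupOf (centralizer {t})).Normal := normal_subgroupOf_of_le_normalizer hn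
    have k : X.subgroupOf (centralizer {t}) ≤ pCore 2 _ := GT.le_pCore (hX.comap_subtype)
    intro x hx
    exact ⟨⟨x, hle hx⟩, k hx, rfl⟩

theorem set1 (hG : IsCharacteristicTwoType G) (hO3' : ∀ N : Subgroup G, N.Normal → N.index = 3 → False)
    (b : G) (hb : orderOf b = 3) (s : Lt G) (hLC : s.L ≤ centralizer ({b} : Set G))
    (hLn : (s.L.subgroupOf (centralizer ({b} : Set G))).Normal)
    (hcyc : ∀ R : Sylow 3 (centralizer (s.L : Set G)), IsCyclic (R : Subgroup (centralizer (s.L : Set G))))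
    (hrk : ∀ k : ℕ, TwoLocalPRankLE 3 k G ↔ TwoLocalPRankLE 3 k (centralizer ({b} : Set G)))
    (hwc : ∃ g : G, g * b * g⁻¹ ∈ centralizer ({b} : Set G) ∧ zpowers (g * b * g⁻¹) ≠ zpowers b)
    (hA5 : ∀ B : Subgroup (centralizer ({b} : Set G)), IsElementaryAbelian 3 B →
      (∃ H : Subgroup (centralizer ({b} : Set G)), IsTwoLocal H ∧ B ≤ H) →
      (∀ B' : Subgroup (centralizer ({b} : Set G)), IsElementaryAbelian 3 B' →
        (∃ H : Subgroup (centralizer ({b} : Set G)), IsTwoLocal H ∧ B' ≤ H) → Nat.card B' ≤ Nat.card B) →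
      ∃ Q : Subgroup (centralizer ({b} : Set G)), IsPGroup 2 Q ∧
        B ≤ normalizer (Q : Set (centralizer ({b} : Set G))) ∧ ⁅Q, B⁆ ≠ ⊥) : Gl G ∧ B1 s b := by
  have hN : centralizer ({b} : Set G) ≤ normalizer (s.L : Set G) := (normal_subgroupOf_iff_le_normalizer hLC).1 hLn
  have h : A1 s b := by
    refine ⟨hb, fun g hg => mem_centralizer_singleton_iff.1 (hLC hg), fun P hP h3 => ?_,
      fun g hg => s.out (hN (mem_centralizer_singleton_iff.2 hg))⟩
    obtain ⟨R, hR⟩ := (h3.comap_subtype (K := centralizer (s.L : Set G))).exists_le_sylow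
    have := hcyc R
    have : IsCyclic (P.subgroupOf (centralizer (s.L : Set G))) := isCyclic_of_le hR
    exact isCyclic_of_surjective (subgroupOfEquivOfLe hP) (subgroupOfEquivOfLe hP).surjective
  have hodd := h.odd hA5
  have hr := (hrk 3).2 (h.rank hodd)
  refine ⟨⟨fun t h2 h1 => gl_c2 hG h2 h1, fun E X hc h3 hcard hX hn => ?_, fun N hN e => hO3' N hN e⟩,
    h.b3, h.bc, hodd, h.cyc, h.cen, ?_⟩
  · by_contra hne
    have k := hr _ ⟨X, hX, hne, rfl⟩ (E.subgroupOf _) (elem_of hc h3).1 (elem_of hc h3).2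
    rw [Nat.card_congr (subgroupOfEquivOfLe hn).toEquiv] at k
    omega
  · obtain ⟨g, h1, h2⟩ := hwc
    refine ⟨g, mem_centralizer_singleton_iff.1 h1, fun hm => h2 (Subgroup.eq_of_le_of_card_ge (zpowers_le.2 hm) ?_)⟩
    rw [← cj_zpowers, card_cj]

end Cfsg.Agent.S8
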